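import Mathlib
import Cfsg.Prelude.Def_SolvableStructure

set_option autoImplicit false

namespace Cfsg.Agent.Helper90

open Subgroup

/-- In a finite nilpotent group, an element of order prime to `q` centralizes every `q`-subgroup. -/
theorem mem_centralizer_of_coprime_of_isNilpotent {N : Type*} [Group N] [Finite N]
    [Group.IsNilpotent N] (q : ℕ) [hq : Fact q.Prime] (S : Subgroup N) (hS : IsPGroup q S) (y : N)
    (hy : (orderOf y).Coprime q) : y ∈ centralizer (S : Set N) := by
  obtain ⟨P, hSP⟩ := hS.exists_le_sylow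
  have hPn : (P : Subgroup N).Normal := inferInstance
  have hC : ∀ r : ℕ, r.Prime → r ≠ q → ¬ r ∣ (centralizer ((P : Subgroup N) : Set N)).index := by
    intro r hr hrq hdvd
    have := Fact.mk hr
    have R : Sylow r N := default
    have hRn : (R : Subgroup N).Normal := inferInstance
    have hRC : (R : Subgroup N) ≤ centralizer ((P : Subgroup N) : Set N) := by
      intro z hz
      rw [mem_centralizer_iff]
      intro w hw
      exact commute_of_normal_of_disjoint (P : Subgroup N) R hPn hRn
        (IsPGroup.disjoint_of_ne q r hrq.symm _ _ P.2 R.2) w z hw hz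
    exact R.not_dvd_index (dvd_trans hdvd (index_dvd_of_le hRC))
  have hpow : (centralizer ((P : Subgroup N) : Set N)).index =
      q ^ (centralizer ((P : Subgroup N) : Set N)).index.primeFactorsList.length :=
    Nat.eq_prime_pow_of_unique_prime_dvd (index_ne_zero_of_finite)
      (fun {r} hr hdvd => by
        by_contra hne
        exact hC r hr hne hdvd)
  have h1 : y ^ (centralizer ((P : Subgroup N) : Set N)).index ∈
      centralizer ((P : Subgroup N) : Set N) := pow_index_mem _ y
  have hcop : ((centralizer ((P : Subgroup N) : Set N)).index).Coprime (orderOf y) := by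
    rw [hpow]
    exact Nat.Coprime.pow_left _ hy.symm
  obtain ⟨m, hm⟩ := exists_pow_eq_self_of_coprime hcop
  have hyC : y ∈ centralizer ((P : Subgroup N) : Set N) := by
    rw [← hm]
    exact pow_mem h1 m
  exact centralizer_le (SetLike.coe_subset_coe.mpr hSP) hyC


/-- In a finite minimal non-nilpotent group with a normal Sylow `q`-subgroup `Q ≠ 1`, the
quotient `G/Q` is abelian: every commutator lies in `Q`. -/
theorem commutator_mem_sylow_of_isMinimalNonNilpotent {G : Type*} [Group G] [Finite G]
    (hG : Cfsg.IsMinimalNonNilpotent G) (q : ℕ) [hqp : Fact q.Prime] (hq : q ∣ Nat.card G)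
    (Q : Sylow q G) (hQ : (Q : Subgroup G).Normal) :
    ∀ x y : G, x * y * x⁻¹ * y⁻¹ ∈ (Q : Subgroup G) := by
  obtain ⟨H, hH⟩ := exists_right_complement'_of_coprime Q.card_coprime_index
  have hdisj : (Q : Subgroup G) ⊓ H = ⊥ := hH.disjoint.eq_bot
  have hsup : (Q : Subgroup G) ⊔ H = ⊤ := hH.sup_eq_top
  have hQne : (Q : Subgroup G) ≠ ⊥ := by
    intro h
    have h1 := Q.dvd_card_of_dvd_card hq
    rw [h, card_bot] at h1
    exact hqp.out.one_lt.ne' (Nat.dvd_one.mp h1)
  have hHne : H ≠ ⊤ := by
    intro h
    rw [h, inf_top_eq] at hdisj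
    exact hQne hdisj
  have hHcop : (Nat.card H).Coprime q := by
    have h1 : (Q : Subgroup G).index = Nat.card H := hH.symm.index_eq_card
    rw [← h1]
    exact ((Nat.Prime.coprime_iff_not_dvd hqp.out).mpr Q.not_dvd_index).symm
  have hHq : ∀ y ∈ H, (orderOf y).Coprime q := by
    intro y hy
    have h1 : orderOf y ∣ Nat.card H := by
      have := orderOf_dvd_natCard (⟨y, hy⟩ : H)
      rwa [orderOf_mk] at this
    exact Nat.Coprime.coprime_dvd_left h1 hHcop
  -- proper subgroups of `H` centralize `Q`
  have hkey : ∀ H₁ : Subgroup G, H₁ ≤ H → H₁ ≠ H → H₁ ≤ centralizer ((Q : Subgroup G) : Set G) := by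
    intro H₁ hle hne
    have hprop : (Q : Subgroup G) ⊔ H₁ ≠ ⊤ := by
      intro htop
      apply hne
      apply le_antisymm hle
      intro x hx
      have hx' : x ∈ (((Q : Subgroup G) ⊔ H₁ : Subgroup G) : Set G) := by
        rw [htop]; trivial
      rw [normal_mul] at hx'
      obtain ⟨a, ha, b, hb, rfl⟩ := hx'
      have hab : a ∈ (Q : Subgroup G) ⊓ H := by
        refine ⟨ha, ?_⟩
        have := H.mul_mem hx (H.inv_mem (hle hb))
        simpa using this
      rw [hdisj, mem_bot] at hab
      subst hab
      simpa using hb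
    have hnil : Group.IsNilpotent ↥((Q : Subgroup G) ⊔ H₁) := hG.2 _ hprop
    intro y hy
    have hyN : y ∈ (Q : Subgroup G) ⊔ H₁ := le_sup_right (a := (Q : Subgroup G)) hy
    have h1 := mem_centralizer_of_coprime_of_isNilpotent q
      ((Q : Subgroup G).subgroupOf ((Q : Subgroup G) ⊔ H₁)) (Q.2.comap_subtype) ⟨y, hyN⟩
      (by rw [orderOf_mk]; exact hHq y (hle hy))
    rw [mem_centralizer_iff] at h1 ⊢
    intro a ha
    have h2 := h1 ⟨a, le_sup_left (b := H₁) ha⟩ (by
      rw [SetLike.mem_coe, mem_subgroupOf]; exact ha)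
    simpa using congrArg Subtype.val h2
  -- `H` is commutative
  have hHcomm : ∀ a ∈ H, ∀ b ∈ H, a * b = b * a := by
    by_cases hcyc : ∃ y ∈ H, zpowers y = H
    · obtain ⟨y, hy, hyH⟩ := hcyc
      intro a ha b hb
      rw [← hyH] at ha hb
      obtain ⟨i, rfl⟩ := mem_zpowers_iff.mp ha
      obtain ⟨j, rfl⟩ := mem_zpowers_iff.mp hb
      rw [← zpow_add, ← zpow_add, add_comm]
    · push Not at hcyc
      exfalso
      have hHcent : H ≤ centralizer ((Q : Subgroup G) : Set G) := by
        intro y hy
        exact hkey (zpowers y) ((zpowers_le (H := H)).mpr hy) (hcyc y hy) (mem_zpowers y)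
      apply hG.1
      have hHnil : Group.IsNilpotent H := hG.2 H hHne
      have hQnil : Group.IsNilpotent (Q : Subgroup G) := Q.2.isNilpotent
      have hc : ∀ (m : (Q : Subgroup G)) (n : H),
          Commute ((Q : Subgroup G).subtype m) (H.subtype n) :=
        fun a b => (mem_centralizer_iff.mp (hHcent b.2)) a a.2
      have hsurj : Function.Surjective
          (MonoidHom.noncommCoprod (Q : Subgroup G).subtype H.subtype hc) := by
        rw [← MonoidHom.range_eq_top, MonoidHom.noncommCoprod_range, Subgroup.range_subtype,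
          Subgroup.range_subtype]
        exact hsup
      exact Group.nilpotent_of_surjective _ hsurj
  -- conclusion
  intro x y
  have hx : x ∈ (((Q : Subgroup G) ⊔ H : Subgroup G) : Set G) := by rw [hsup]; trivial
  have hy : y ∈ (((Q : Subgroup G) ⊔ H : Subgroup G) : Set G) := by rw [hsup]; trivial
  rw [normal_mul] at hx hy
  obtain ⟨a, ha, h, hh, rfl⟩ := hx
  obtain ⟨b, hb, k, hk, rfl⟩ := hy
  rw [← QuotientGroup.eq_one_iff]
  have ha' : ((a : G) : G ⧸ (Q : Subgroup G)) = 1 := (QuotientGroup.eq_one_iff a).mpr ha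
  have hb' : ((b : G) : G ⧸ (Q : Subgroup G)) = 1 := (QuotientGroup.eq_one_iff b).mpr hb
  have hhk : ((h : G) : G ⧸ (Q : Subgroup G)) * (k : G) = (k : G) * (h : G) := by
    rw [← QuotientGroup.mk_mul, ← QuotientGroup.mk_mul, hHcomm h hh k hk]
  simp only [QuotientGroup.mk_mul, QuotientGroup.mk_inv, ha', hb', one_mul]
  rw [hhk]
  group

end Cfsg.Agent.Helper90
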