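import Mathlib
import Cfsg.Prelude.Def_OddOrderLocal
import Cfsg.Prelude.Def_OddOrderChar
import Cfsg.Prelude.Def_OddOrder
import Cfsg.Agent.Lib.Helper11.BG1537Defs
import Cfsg.Agent.Lib.Helper69.PiParts
import Cfsg.Agent.Lib.Helper25.BGHallConj
import Cfsg.Agent.Lib.Helper97.BG144
import Cfsg.Agent.Lib.Helper34.BG10a
import Cfsg.Agent.Lib.Helper45.BG143

/-!
# BG1537 (P1) (helper11 server for S1537): elements of `A₀(M)` outside `M_σ` have their centralizer in `M`
-/

set_option autoImplicit false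

namespace Cfsg.Agent.Helper90.BG1537

open Subgroup Cfsg
open Cfsg.Agent.Helper11.BG1537 (Rows)

variable {G : Type*} [Group G] [Finite G]

/-- pure: an element of the join of two elementwise commuting subgroups is a product. -/
theorem p1_mem_sup_of_commute {G : Type*} [Group G] {A B : Subgroup G}
    (h : ∀ a ∈ A, ∀ b ∈ B, a * b = b * a) {x : G} (hx : x ∈ A ⊔ B) :
    ∃ a ∈ A, ∃ b ∈ B, x = a * b := by
  rw [Subgroup.sup_eq_closure] at hx
  induction hx using Subgroup.closure_induction with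
  | mem x hx =>
    rcases hx with hx | hx
    · exact ⟨x, hx, 1, B.one_mem, by simp⟩
    · exact ⟨1, A.one_mem, x, hx, by simp⟩
  | one => exact ⟨1, A.one_mem, 1, B.one_mem, by simp⟩
  | mul x y _ _ hx hy =>
    obtain ⟨a1, ha1, b1, hb1, rfl⟩ := hx
    obtain ⟨a2, ha2, b2, hb2, rfl⟩ := hy
    refine ⟨a1 * a2, A.mul_mem ha1 ha2, b1 * b2, B.mul_mem hb1 hb2, ?_⟩
    have h1 := h a2 ha2 b1 hb1
    calc a1 * b1 * (a2 * b2) = a1 * (b1 * a2) * b2 := by group
      _ = a1 * (a2 * b1) * b2 := by rw [h1]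
      _ = a1 * a2 * (b1 * b2) := by group
  | inv x _ hx =>
    obtain ⟨a, ha, b, hb, rfl⟩ := hx
    refine ⟨a⁻¹, A.inv_mem ha, b⁻¹, B.inv_mem hb, ?_⟩
    have h1 := h a ha b hb
    rw [mul_inv_rev]
    have h2 : (a * b)⁻¹ = (b * a)⁻¹ := by rw [h1]
    rw [mul_inv_rev, mul_inv_rev] at h2
    exact h2

/-- (P1) of the BG1537 server, statement verbatim. -/
theorem centralizer_le_of_not_mem (hG : IsMinSimpleOddOrder G) (rows : Rows G)
    {M K U : Subgroup G} (hM : IsCoatom M) (hKU : IsSigmaDecomposition M K U)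
    {a : G} (ha : a ∈ sigmaA0 M K) (ha1 : a ≠ 1) (haσ : a ∉ sigmaCore M) :
    centralizer ({a} : Set G) ≤ M := by
  obtain ⟨⟨haM, y, hy, hy1, hay⟩, hnotK⟩ := ha
  have hHall := (rows.r1350 M hM).1
  have ho : orderOf a ≠ 0 := (orderOf_pos a).ne'
  obtain ⟨a', ha'def⟩ : ∃ a', a' = Helper69.piPart' (sigma M) a := ⟨_, rfl⟩
  have ha'z : a' ∈ zpowers a := by rw [ha'def]; exact Helper69.piPart'_mem_zpowers _ a
  have ha'M : a' ∈ M := (zpowers_le.mpr haM) ha'z
  have haCy : a ∈ centralizer ({y} : Set G) := by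
    rw [mem_centralizer_singleton_iff]
    exact hay
  have ha'y : a' ∈ centralizer ({y} : Set G) := (zpowers_le.mpr haCy) ha'z
  have ha'1 : a' ≠ 1 := by
    intro h1
    apply haσ
    have hpi : Helper69.IsPiElt (sigma M) a := by
      have h3 := Helper69.isPiElt_piPart (sigma M) a ho
      have h2 := Helper69.piPart_mul_piPart' (sigma M) a
      rw [← ha'def, h1, mul_one] at h2
      rwa [h2] at h3
    exact Helper97.BG144.mem_sigmaCore_of_pi hHall haM hpi
  have hσ' : ∀ p : ℕ, p.Prime → p ∣ orderOf a' → p ∉ sigma M := by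
    intro p hp hd
    rw [ha'def] at hd
    exact Helper69.isPiElt_piPart' (sigma M) a ho p hp hd
  obtain ⟨n, hn⟩ := mem_zpowers_iff.mp ha'z
  have hCa : centralizer ({a} : Set G) ≤ centralizer ({a'} : Set G) := by
    intro g hg
    rw [mem_centralizer_singleton_iff] at hg ⊢
    rw [← hn]
    have hc : Commute g a := hg
    exact (hc.zpow_right n).eq
  have haa' : a' * a = a * a' := by
    rw [← hn]
    exact ((Commute.refl a).zpow_left n).eq
  rcases rows.r1432 M hM y hy hy1 a' ⟨ha'M, ha'y⟩ ha'1 hσ' with ⟨hκ, _⟩ | ⟨_, _, hC, _⟩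
  · have hsolv : Group.IsSolvable M := Helper34.BG.solvable_of_ne_top hG hM.1
    obtain ⟨m, hmM, hmk⟩ :=
      Helper25.BGHallConj.exists_conj_mem_of_isPiHallOf hKU.hall hsolv a' ha'M hκ
    obtain ⟨k, hkdef⟩ : ∃ k, k = m * a' * m⁻¹ := ⟨_, rfl⟩
    rw [← hkdef] at hmk
    have hk1 : k ≠ 1 := by
      intro h
      apply ha'1
      have h2 : a' = m⁻¹ * k * m := by rw [hkdef]; group
      rw [h2, h]; group
    have hK1 : K ≠ ⊥ := by
      intro h
      rw [h, mem_bot] at hmk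
      exact hk1 hmk
    obtain ⟨_, hCM⟩ := rows.r1354 M hM K hKU.cyclic hKU.hall
    have hCk := hCM hK1 k hmk hk1
    obtain ⟨b, hbdef⟩ : ∃ b, b = m * a * m⁻¹ := ⟨_, rfl⟩
    have hbM : b ∈ M := by
      rw [hbdef]; exact M.mul_mem (M.mul_mem hmM haM) (M.inv_mem hmM)
    have hbk : b ∈ centralizer ({k} : Set G) := by
      rw [mem_centralizer_singleton_iff, hkdef, hbdef]
      calc m * a * m⁻¹ * (m * a' * m⁻¹) = m * (a * a') * m⁻¹ := by group
        _ = m * (a' * a) * m⁻¹ := by rw [haa']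
        _ = m * a' * m⁻¹ * (m * a * m⁻¹) := by group
    have hbsup : b ∈ K ⊔ (sigmaCore M ⊓ centralizer (K : Set G)) := by
      rw [← hCk]; exact ⟨hbM, hbk⟩
    have hcomm : ∀ x ∈ K, ∀ z ∈ (sigmaCore M ⊓ centralizer (K : Set G)), x * z = z * x := by
      intro x hx z hz
      exact (mem_centralizer_iff.mp hz.2) x hx
    obtain ⟨k₁, hk₁, ks, hks, hbeq⟩ := p1_mem_sup_of_commute hcomm hbsup
    have hab : a = m⁻¹ * b * m := by rw [hbdef]; group
    have hks1 : ks ≠ 1 := by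
      intro h
      apply hnotK
      refine ⟨k₁, hk₁, ?_, m⁻¹, M.inv_mem hmM, ?_⟩
      · intro h2
        apply ha1
        rw [hab, hbeq, h, h2]; group
      · rw [inv_inv, hab, hbeq, h, mul_one]
    have hk₁1 : k₁ ≠ 1 := by
      intro h
      apply haσ
      have hbσ : b ∈ sigmaCore M := by rw [hbeq, h, one_mul]; exact hks.1
      have h2 := Helper45.BG143.conj_mem_sigmaCore (M.inv_mem hmM) hbσ
      rw [inv_inv] at h2
      rw [hab]; exact h2
    obtain ⟨Mstar, ⟨hMs, hKst, hKstH⟩, _⟩ := rows.r1366 M hM K U hKU hK1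
    obtain ⟨_, _, h3, _⟩ := rows.r1434 M hM K U hKU hK1 Mstar hMs hKst hKstH
    obtain ⟨_, _, hCb⟩ := h3 k₁ hk₁ hk₁1 ks hks hks1
    have hKM : K ≤ M := hKU.hall.1
    have hKsM : sigmaCore M ⊓ centralizer (K : Set G) ≤ M := inf_le_left.trans hHall.1
    intro g hg
    rw [mem_centralizer_singleton_iff] at hg
    have h4 : m * g * m⁻¹ ∈ centralizer ({b} : Set G) := by
      rw [mem_centralizer_singleton_iff, hbdef]
      calc m * g * m⁻¹ * (m * a * m⁻¹) = m * (g * a) * m⁻¹ := by group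
        _ = m * (a * g) * m⁻¹ := by rw [hg]
        _ = m * a * m⁻¹ * (m * g * m⁻¹) := by group
    rw [hbeq, hCb] at h4
    have h5 : m * g * m⁻¹ ∈ M := (sup_le hKM hKsM) h4
    have h6 : g = m⁻¹ * (m * g * m⁻¹) * m := by group
    rw [h6]
    exact M.mul_mem (M.mul_mem (M.inv_mem hmM) h5) hmM
  · exact hCa.trans hC

end Cfsg.Agent.Helper90.BG1537
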