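import Mathlib
import Cfsg.Agent.Lib.Helper54.OddPStable
import Cfsg.Agent.Lib.Helper10.PStableSolv
import Cfsg.Agent.Lib.Helper76.SolvPSolv

/-!
# `p`-stability of solvable groups for `p ≥ 5` on arbitrary normal `p`-subgroups

`Helper10.isPStableOn_of_isPSolvable` gives `p`-stability (`p ≥ 5`) on normal elementary abelian `p`-subgroups;
`Helper54.isPStableOn_step` is the generic induction step.  Here we combine them.
-/

set_option autoImplicit false
set_option linter.style.haveILetI false

namespace Cfsg.Agent.Helper90.PStab5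

open Cfsg Subgroup
open Cfsg.Agent.Helper10 (IsMinNormal exists_isMinNormal_le)
open Cfsg.Agent.Helper11.ZJ (centralizer_le_stabL)

universe u

theorem isPStableOn_of_solvable_aux {p : ℕ} [Fact p.Prime] (hp : 5 ≤ p) :
    ∀ (n : ℕ) (X : Type u) [Group X] [Finite X] [Group.IsSolvable X],
      ∀ (P : Subgroup X) [P.Normal], IsPGroup p P → Nat.card P = n → IsPStableOn p P := by
  intro n
  induction n using Nat.strong_induction_on with
  | _ n ih =>
  intro X _ _ _ P hPn hPp hn
  by_cases hP1 : P = ⊥
  · intro a _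
    apply centralizer_le_stabL p P
    rw [hP1, mem_centralizer_iff]
    intro h hh
    rw [coe_bot, Set.mem_singleton_iff] at hh
    rw [hh]; simp
  obtain ⟨Z, hZmin, hZP⟩ := exists_isMinNormal_le P hP1
  haveI hZn : Z.Normal := hZmin.1
  obtain ⟨r, hr, hrd, hrpow⟩ := hZmin.exists_prime_pow_eq_one
  have hab := hZmin.isMulCommutative
  have hrp : r = p := by
    have hZp : IsPGroup p Z := hPp.to_le hZP
    obtain ⟨k, hk⟩ := IsPGroup.iff_card.mp hZp
    rw [hk] at hrd
    exact (Nat.prime_dvd_prime_iff_eq hr (Fact.out : p.Prime)).mp (hr.dvd_of_dvd_pow hrd)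
  rw [hrp] at hrpow
  have hZe : IsElementaryAbelian p Z := ⟨hab, hrpow⟩
  have hsol : IsPSolvable p X := Cfsg.Agent.Helper76.isPSolvable_of_isSolvable' p
  have h1 : IsPStableOn p Z := Cfsg.Agent.Helper10.isPStableOn_of_isPSolvable hp hsol Z hZe
  haveI hPbar : (P.map (QuotientGroup.mk' Z)).Normal := hPn.map _ (QuotientGroup.mk'_surjective Z)
  have hsolq : Group.IsSolvable (X ⧸ Z) := inferInstance
  have hcard : Nat.card (P.map (QuotientGroup.mk' Z)) < n := by
    rw [← hn]
    have hsurj : Function.Surjective ((QuotientGroup.mk' Z).subgroupMap P) :=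
      (QuotientGroup.mk' Z).subgroupMap_surjective P
    have hninj : ¬ Function.Injective ((QuotientGroup.mk' Z).subgroupMap P) := by
      intro hinj
      apply hZmin.2.1
      rw [eq_bot_iff]
      intro z hz
      have h0 : (QuotientGroup.mk' Z).subgroupMap P ⟨z, hZP hz⟩ = (QuotientGroup.mk' Z).subgroupMap P 1 := by
        apply Subtype.ext
        simp only [MonoidHom.subgroupMap_apply_coe, map_one, coe_one]
        exact (QuotientGroup.eq_one_iff z).mpr hz
      have := congrArg Subtype.val (hinj h0)
      simpa using this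
    haveI := Fintype.ofFinite P
    haveI := Fintype.ofFinite (P.map (QuotientGroup.mk' Z))
    rw [Nat.card_eq_fintype_card, Nat.card_eq_fintype_card]
    exact Fintype.card_lt_of_surjective_not_injective _ hsurj hninj
  have h2 : IsPStableOn p (P.map (QuotientGroup.mk' Z)) :=
    ih _ hcard (X ⧸ Z) _ (hPp.map _) rfl
  exact Cfsg.Agent.Helper54.isPStableOn_step P Z hZP hrpow h1 h2

/-- **`p`-stability of solvable groups, `p ≥ 5`**, on every normal `p`-subgroup. -/
theorem isPStableOn_of_solvable {X : Type u} [Group X] [Finite X] [Group.IsSolvable X]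
    {p : ℕ} [Fact p.Prime] (hp : 5 ≤ p) (P : Subgroup X) [P.Normal]
    (hP : IsPGroup p P) : IsPStableOn p P :=
  isPStableOn_of_solvable_aux hp _ X P hP rfl

end Cfsg.Agent.Helper90.PStab5
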