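import Mathlib
import Cfsg.Prelude.Def_OddOrderLocal
import Cfsg.Prelude.Def_CaseTheorems
import Cfsg.Agent.Lib.Helper90.PStab5
import Cfsg.Agent.Lib.Helper30.AxB
import Cfsg.Agent.Lib.Helper22.Fitting
import Cfsg.Agent.Lib.Helper22.Radical
import Cfsg.Agent.Lib.Helper94.Solvable
import Cfsg.Agent.S4242
import Cfsg.Agent.S1473

/-!
# Centralizer of an SCN-subgroup of `F(H)`, `H` a Hall `π`-subgroup of a solvable group (`2, 3 ∉ π`)

Feit–Thompson, Chapter I type lemma: `C_S(A) = A × D` with `D` a `π'`-group.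
-/

set_option autoImplicit false
set_option linter.style.haveILetI false

namespace Cfsg.Agent.Helper90.SCNHall

open Cfsg Subgroup
open scoped commutatorElement Pointwise

universe u

section Basic

variable {S : Type*} [Group S]

/-- The elements of `p`-power order of an abelian subgroup. -/
def ppart (A : Subgroup S) (hA : ∀ a ∈ A, ∀ b ∈ A, a * b = b * a) (p : ℕ) : Subgroup S where
  carrier := {a | a ∈ A ∧ ∃ k : ℕ, a ^ (p ^ k) = 1}
  one_mem' := ⟨A.one_mem, 0, by simp⟩
  mul_mem' := by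
    rintro a b ⟨ha, k, hk⟩ ⟨hb, l, hl⟩
    refine ⟨A.mul_mem ha hb, k + l, ?_⟩
    have hc : Commute a b := hA a ha b hb
    rw [hc.mul_pow, pow_add, pow_mul, hk, one_pow, one_mul, mul_comm (p ^ k) (p ^ l), pow_mul, hl,
      one_pow]
  inv_mem' := by
    rintro a ⟨ha, k, hk⟩
    exact ⟨A.inv_mem ha, k, by rw [inv_pow, hk, inv_one]⟩

theorem mem_ppart {A : Subgroup S} {hA : ∀ a ∈ A, ∀ b ∈ A, a * b = b * a} {p : ℕ} {a : S} :
    a ∈ ppart A hA p ↔ a ∈ A ∧ ∃ k : ℕ, a ^ (p ^ k) = 1 := Iff.rfl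

theorem ppart_le (A : Subgroup S) (hA : ∀ a ∈ A, ∀ b ∈ A, a * b = b * a) (p : ℕ) :
    ppart A hA p ≤ A := fun _ h => h.1

theorem ppart_isPGroup (A : Subgroup S) (hA : ∀ a ∈ A, ∀ b ∈ A, a * b = b * a) (p : ℕ) :
    IsPGroup p (ppart A hA p) := by
  rintro ⟨a, ha⟩
  obtain ⟨k, hk⟩ := ha.2
  exact ⟨k, Subtype.ext (by simpa using hk)⟩

/-- decomposition of an element into its `p`-part and `p'`-part, both powers of the element -/
theorem exists_pow_decomp' [Finite S] (p : ℕ) [hp : Fact p.Prime] (g : S) :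
    ∃ (i j a b : ℕ), b.Coprime p ∧ g = g ^ i * g ^ j ∧ (g ^ i) ^ (p ^ a) = 1 ∧
      (g ^ j) ^ b = 1 := by
  have hn0 : orderOf g ≠ 0 := (orderOf_pos g).ne'
  obtain ⟨a, b, hb, hab⟩ := Nat.exists_eq_pow_mul_and_not_dvd hn0 p hp.out.ne_one
  have hbp : p.Coprime b := (Nat.Prime.coprime_iff_not_dvd hp.out).mpr hb
  have hcop : (p ^ a).Coprime b := Nat.Coprime.pow_left a hbp
  obtain ⟨i, hi1, hi0⟩ := Nat.chineseRemainder hcop 1 0
  obtain ⟨j, hj0, hj1⟩ := Nat.chineseRemainder hcop 0 1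
  refine ⟨i, j, a, b, hbp.symm, ?_, ?_, ?_⟩
  · rw [← pow_add]
    have h1 : i + j ≡ 1 [MOD orderOf g] := by
      rw [hab]
      apply (Nat.modEq_and_modEq_iff_modEq_mul hcop).mp
      constructor
      · have := Nat.ModEq.add hi1 hj0
        simpa using this
      · have := Nat.ModEq.add hi0 hj1
        simpa using this
    have h2 : g ^ (i + j) = g ^ 1 := pow_eq_pow_iff_modEq.mpr h1
    rw [h2, pow_one]
  · rw [← pow_mul]
    apply orderOf_dvd_iff_pow_eq_one.mp
    rw [hab, mul_comm i]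
    exact Nat.mul_dvd_mul dvd_rfl ((Nat.modEq_zero_iff_dvd).mp hi0)
  · rw [← pow_mul]
    apply orderOf_dvd_iff_pow_eq_one.mp
    rw [hab]
    exact Nat.mul_dvd_mul ((Nat.modEq_zero_iff_dvd).mp hj0) dvd_rfl

/-- an element killed by two coprime exponents is trivial -/
theorem eq_one_of_pow_coprime {g : S} {m n : ℕ} (hm : g ^ m = 1) (hn : g ^ n = 1)
    (hmn : m.Coprime n) : g = 1 := by
  have h1 : orderOf g ∣ m := orderOf_dvd_of_pow_eq_one hm
  have h2 : orderOf g ∣ n := orderOf_dvd_of_pow_eq_one hn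
  have h3 : orderOf g ∣ 1 := by
    have := Nat.dvd_gcd h1 h2
    rwa [hmn.gcd_eq_one] at this
  exact orderOf_eq_one_iff.mp (Nat.dvd_one.mp h3)

end Basic

section LemmaT

variable {S : Type*} [Group S] [Finite S]

/-- a `t`-element of the Fitting subgroup lies in `O_t` -/
theorem mem_pCore_of_mem_fitting_pow (t : ℕ) [ht : Fact t.Prime] {b : S}
    (hb : b ∈ fittingSubgroup S) {j : ℕ} (hbj : b ^ (t ^ j) = 1) : b ∈ pCore t S := by
  have h1 := Cfsg.Agent.Helper22.fittingSubgroup_le_pCore_sup_pPrimeCore (G := S) t hb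
  haveI hn2 : (pPrimeCore t S).Normal := Cfsg.Agent.Helper94.pPrimeCore_normal t
  have hmul : ((pCore t S ⊔ pPrimeCore t S : Subgroup S) : Set S) =
      (pCore t S : Set S) * (pPrimeCore t S : Set S) := Subgroup.mul_normal _ _
  have h2 : b ∈ ((pCore t S ⊔ pPrimeCore t S : Subgroup S) : Set S) := h1
  rw [hmul] at h2
  obtain ⟨u, hu, v, hv, huv⟩ := Set.mem_mul.mp h2
  have hu' : u ∈ pCore t S := hu
  have hv' : v ∈ pPrimeCore t S := hv
  have hPt : IsPGroup t (pCore t S) := Cfsg.Agent.Helper22.isPGroup_pCore t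
  have hcop : (Nat.card (pPrimeCore t S)).Coprime t := Cfsg.Agent.Helper22.card_pPrimeCore_coprime t
  have hdis : Disjoint (pCore t S) (pPrimeCore t S) := by
    apply Subgroup.disjoint_of_coprime_natCard
    obtain ⟨k, hk⟩ := IsPGroup.iff_card.mp hPt
    rw [hk]
    exact Nat.Coprime.pow_left k hcop.symm
  have hcomm : Commute u v :=
    Subgroup.commute_of_normal_of_disjoint _ _ inferInstance hn2 hdis u v hu' hv'
  -- `v ^ (t ^ j)` lies in both
  have hvt : v ^ (t ^ j) = 1 := by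
    have h3 : u ^ (t ^ j) * v ^ (t ^ j) = 1 := by rw [← hcomm.mul_pow, huv, hbj]
    have h4 : v ^ (t ^ j) = (u ^ (t ^ j))⁻¹ := (eq_inv_of_mul_eq_one_right h3)
    have h5 : v ^ (t ^ j) ∈ pCore t S ⊓ pPrimeCore t S := by
      refine mem_inf.mpr ⟨?_, pow_mem hv' _⟩
      rw [h4]; exact inv_mem (pow_mem hu' _)
    rw [disjoint_iff.mp hdis] at h5
    exact (Subgroup.mem_bot.mp h5)
  have hvc : v ^ (Nat.card (pPrimeCore t S)) = 1 := by
    have := pow_card_eq_one' (G := pPrimeCore t S) (x := ⟨v, hv'⟩)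
    exact congrArg Subtype.val this
  have hv1 : v = 1 := eq_one_of_pow_coprime hvt hvc (Nat.Coprime.pow_left j hcop.symm)
  rw [← huv, hv1, mul_one]; exact hu'

end LemmaT

section Core

variable {S : Type u} [Group S] [Finite S]

/-- `O_p(S) ≤ F(H)` (as subgroups of `S`) when `O_p(S) ≤ H`. -/
theorem pCore_le_fitting_map (H : Subgroup S) (p : ℕ) [Fact p.Prime] (h : pCore p S ≤ H) :
    pCore p S ≤ (fittingSubgroup H).map H.subtype := by
  have hn : ((pCore p S).subgroupOf H).Normal := Subgroup.Normal.subgroupOf inferInstance H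
  have hp : IsPGroup p ((pCore p S).subgroupOf H) :=
    (Cfsg.Agent.Helper22.isPGroup_pCore (G := S) p).comap_subtype
  have hnil : Group.IsNilpotent ((pCore p S).subgroupOf H) := hp.isNilpotent
  have h1 : (pCore p S).subgroupOf H ≤ fittingSubgroup H :=
    Cfsg.Agent.Helper22.le_fittingSubgroup hn hnil
  calc pCore p S = ((pCore p S).subgroupOf H).map H.subtype := (map_subgroupOf_eq_of_le h).symm
    _ ≤ (fittingSubgroup H).map H.subtype := map_mono h1

/-- A Hall `π`-subgroup contains `O_p(S)` for `p ∈ π`. -/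
theorem pCore_le_hall (π : Set ℕ) (H : Subgroup S) (hH : IsPiHall π H) (p : ℕ) [hp : Fact p.Prime]
    (hpπ : p ∈ π) : pCore p S ≤ H := by
  obtain ⟨P⟩ : Nonempty (Sylow p H) := inferInstance
  have hidx : ¬ p ∣ H.index := hH.2 p hp.out hpπ
  have hfac : (Nat.card S).factorization p = (Nat.card H).factorization p := by
    rw [← H.card_mul_index, Nat.factorization_mul (Nat.card_pos).ne' (Subgroup.index_ne_zero_of_finite),
      Finsupp.add_apply, Nat.factorization_eq_zero_of_not_dvd hidx, add_zero]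
  have hcard : Nat.card ((P : Subgroup H).map H.subtype) = p ^ (Nat.card S).factorization p := by
    rw [Nat.card_congr ((P : Subgroup H).equivMapOfInjective H.subtype H.subtype_injective).symm.toEquiv,
      hfac]
    exact P.card_eq_multiplicity
  let Q : Sylow p S := Sylow.ofCard _ hcard
  have h1 : pCore p S ≤ (Q : Subgroup S) :=
    (Cfsg.Agent.Helper22.isPGroup_pCore (G := S) p).le_sylow_of_normal Q
  exact h1.trans (by
    show (P : Subgroup H).map H.subtype ≤ H
    exact map_subtype_le _)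

/-- **Core case**: no non-trivial `O_p(S)` for `p ∉ π`. -/
theorem mem_of_core_trivial [Group.IsSolvable S] (π : Set ℕ) (h2 : 2 ∉ π) (h3 : 3 ∉ π)
    (H : Subgroup S) (hH : IsPiHall π H) (A : Subgroup S)
    (hA : IsSCN ((fittingSubgroup H).map H.subtype) A)
    (hcore : ∀ p : ℕ, p.Prime → p ∉ π → pCore p S = ⊥)
    (r : ℕ) (hr : r.Prime) (hrπ : r ∈ π) (x : S) (hx : x ∈ centralizer (A : Set S)) (k : ℕ)
    (hxk : x ^ (r ^ k) = 1) : x ∈ A := by
  haveI : Fact r.Prime := ⟨hr⟩
  set FH : Subgroup S := (fittingSubgroup H).map H.subtype with hFH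
  obtain ⟨hAF, hFN, hFC⟩ := hA
  -- basic facts
  have hxA : ∀ a ∈ A, a * x = x * a := fun a ha => (mem_centralizer_iff.mp hx) a ha
  have hzx : zpowers x ≤ centralizer (A : Set S) := (zpowers_le).mpr hx
  have hAcent : A ≤ centralizer (A : Set S) := by
    intro a ha
    have : a ∈ FH ⊓ centralizer (A : Set S) := by rw [hFC]; exact ha
    exact (mem_inf.mp this).2
  have hAab : ∀ a ∈ A, ∀ b ∈ A, a * b = b * a := fun a ha b hb =>
    (mem_centralizer_iff.mp (hAcent hb)) a ha
  have hfive : 5 ≤ r := by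
    have h2' : r ≠ 2 := fun h => h2 (h ▸ hrπ)
    have h3' : r ≠ 3 := fun h => h3 (h ▸ hrπ)
    have h4' : r ≠ 4 := fun h => by rw [h] at hr; norm_num at hr
    have := hr.two_le
    omega
  have hFHnil : Group.IsNilpotent FH := by
    haveI : Group.IsNilpotent (fittingSubgroup H) := Cfsg.Agent.Helper22.isNilpotent_fittingSubgroup
    exact Group.nilpotent_of_mulEquiv
      ((fittingSubgroup H).equivMapOfInjective H.subtype H.subtype_injective)
  have hcoreFH : ∀ p : ℕ, p.Prime → pCore p S ≤ FH := by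
    intro p hp
    haveI : Fact p.Prime := ⟨hp⟩
    by_cases hpπ : p ∈ π
    · exact pCore_le_fitting_map H p (pCore_le_hall π H hH p hpπ)
    · rw [hcore p hp hpπ]; exact bot_le
  have hmemA : ∀ y : S, y ∈ FH → (∀ a ∈ A, a * y = y * a) → y ∈ A := by
    intro y hy hya
    rw [← hFC]
    exact mem_inf.mpr ⟨hy, mem_centralizer_iff.mpr hya⟩
  -- Step C: `x` centralizes `O_p(S)` for `p ≠ r`
  have hcent : ∀ p : ℕ, p.Prime → p ≠ r → ∀ y ∈ pCore p S, y * x = x * y := by
    intro p hp hpr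
    haveI : Fact p.Prime := ⟨hp⟩
    have hQ : IsPGroup p (pCore p S) := Cfsg.Agent.Helper22.isPGroup_pCore p
    have hB : (Nat.card (zpowers x)).Coprime p := by
      rw [Nat.card_zpowers]
      have hd : orderOf x ∣ r ^ k := orderOf_dvd_of_pow_eq_one hxk
      exact Nat.Coprime.coprime_dvd_left hd
        (Nat.Coprime.pow_left k ((Nat.coprime_primes hr hp).mpr (Ne.symm hpr)))
    have hAB : ⁅ppart A hAab p, zpowers x⁆ = ⊥ := by
      rw [Subgroup.commutator_eq_bot_iff_le_centralizer]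
      intro a ha
      rw [mem_centralizer_iff]
      intro w hw
      exact ((mem_centralizer_iff.mp (hzx hw)) a (ppart_le A hAab p ha)).symm
    have hC : pCore p S ⊓ centralizer (ppart A hAab p : Set S) ≤ centralizer (zpowers x : Set S) := by
      intro y hy
      obtain ⟨hyQ, hyC⟩ := mem_inf.mp hy
      have hyFH : y ∈ FH := hcoreFH p hp hyQ
      obtain ⟨e, hye⟩ := hQ ⟨y, hyQ⟩
      have hye' : y ^ (p ^ e) = 1 := by simpa using congrArg Subtype.val hye
      have hyA : y ∈ A := by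
        apply hmemA y hyFH
        intro a ha
        obtain ⟨i, j, c, b, hbp, hdec, hi, hj⟩ := exists_pow_decomp' p a
        have hai : a ^ i ∈ ppart A hAab p := ⟨pow_mem ha i, c, hi⟩
        have h1 : a ^ i * y = y * a ^ i := (mem_centralizer_iff.mp hyC) _ hai
        have hcop : (orderOf (a ^ j)).Coprime p :=
          Nat.Coprime.coprime_dvd_left (orderOf_dvd_of_pow_eq_one hj) hbp
        have h2 : y * a ^ j = a ^ j * y :=
          Cfsg.Agent.S4242.commute_of_mem_nilpotent FH hFHnil p hyFH (hAF (pow_mem ha j)) hye' hcop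
        calc a * y = a ^ i * a ^ j * y := by rw [← hdec]
          _ = a ^ i * (a ^ j * y) := by rw [mul_assoc]
          _ = a ^ i * (y * a ^ j) := by rw [h2]
          _ = (a ^ i * y) * a ^ j := by rw [mul_assoc]
          _ = y * a ^ i * a ^ j := by rw [h1]
          _ = y * a := by rw [mul_assoc, ← hdec]
      rw [mem_centralizer_iff]
      intro w hw
      exact ((mem_centralizer_iff.mp (hzx hw)) y hyA).symm
    have hres := Cfsg.Agent.Helper30.thompson_AxB (ppart A hAab p) (zpowers x)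
      (ppart_isPGroup A hAab p) hB hAB (pCore p S) hQ
      (by rw [normalizer_eq_top]; exact le_top) (by rw [normalizer_eq_top]; exact le_top) hC
    rw [Subgroup.commutator_eq_bot_iff_le_centralizer] at hres
    intro y hy
    exact ((mem_centralizer_iff.mp (hres hy)) x (mem_zpowers x)).symm
  -- Step D: quadratic action on `O_r(S)` and `r`-stability
  set V : Subgroup S := pCore r S with hV
  have hVp : IsPGroup r V := Cfsg.Agent.Helper22.isPGroup_pCore r
  have hcommA : ⁅V, zpowers x⁆ ≤ A := by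
    rw [Subgroup.commutator_le]
    intro v hv w hw
    have hwA : ∀ a ∈ A, a * w = w * a := fun a ha => (mem_centralizer_iff.mp (hzx hw)) a ha
    have hvFH : v ∈ FH := hcoreFH r hr hv
    have hvN : v ∈ normalizer (A : Set S) := hFN hvFH
    apply hmemA
    · -- `⁅v, w⁆ ∈ V ≤ FH`
      apply hcoreFH r hr
      have h1 : w * v⁻¹ * w⁻¹ ∈ V := (inferInstance : V.Normal).conj_mem _ (inv_mem hv) w
      have : ⁅v, w⁆ = v * (w * v⁻¹ * w⁻¹) := by rw [commutatorElement_def]; group
      rw [this]; exact mul_mem hv h1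
    · intro a ha
      -- `v⁻¹ a v ∈ A`
      have h1 : v⁻¹ * a * v ∈ A := by
        have := (mem_normalizer_iff'.mp (inv_mem hvN)) a
        have h2 : v⁻¹ * a * v⁻¹⁻¹ ∈ A := (mem_normalizer_iff.mp (inv_mem hvN) a).mp ha
        simpa using h2
      have h3 : (v⁻¹ * a * v) * w = w * (v⁻¹ * a * v) := hwA _ h1
      have h4 : a * w = w * a := hwA a ha
      have h5 : a * w⁻¹ = w⁻¹ * a := by
        have : w⁻¹ * (a * w) * w⁻¹ = w⁻¹ * (w * a) * w⁻¹ := by rw [h4]
        simpa [mul_assoc] using this.symm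
      rw [commutatorElement_def]
      -- a * (v w v⁻¹ w⁻¹) = (v w v⁻¹ w⁻¹) * a
      have e1 : a * (v * w * v⁻¹ * w⁻¹) = v * ((v⁻¹ * a * v) * w) * v⁻¹ * w⁻¹ := by group
      have e2 : v * (w * (v⁻¹ * a * v)) * v⁻¹ * w⁻¹ = v * w * v⁻¹ * (a * w⁻¹) := by group
      rw [e1, h3, e2, h5]; group
  have hquad : ⁅⁅V, zpowers x⁆, zpowers x⁆ = ⊥ := by
    rw [eq_bot_iff]
    calc ⁅⁅V, zpowers x⁆, zpowers x⁆ ≤ ⁅A, zpowers x⁆ := commutator_mono hcommA le_rfl
      _ = ⊥ := by
        rw [Subgroup.commutator_eq_bot_iff_le_centralizer]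
        intro a ha
        rw [mem_centralizer_iff]
        intro w hw
        exact ((mem_centralizer_iff.mp (hzx hw)) a ha).symm
  have hstab : IsPStableOn r V := Cfsg.Agent.Helper90.PStab5.isPStableOn_of_solvable hfive V hVp
  have hxY := hstab x hquad
  -- Step E: the normal subgroup `M`
  set Cr : Subgroup S := centralizer (V : Set S) with hCr
  set Y : Subgroup S := (pCore r (S ⧸ Cr)).comap (QuotientGroup.mk' Cr) with hY
  set N1 : Subgroup S :=
    ⨅ p : {p : ℕ // p.Prime ∧ p ≠ r}, centralizer ((pCore (p : ℕ) S : Subgroup S) : Set S) with hN1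
  set M : Subgroup S := Y ⊓ N1 with hM
  have hxM : x ∈ M := by
    refine mem_inf.mpr ⟨hxY, ?_⟩
    rw [hN1, mem_iInf]
    rintro ⟨p, hp, hpr⟩
    rw [mem_centralizer_iff]
    intro y hy
    exact hcent p hp hpr y hy
  haveI hYn : Y.Normal := Subgroup.Normal.comap inferInstance _
  haveI hN1n : N1.Normal := Subgroup.normal_iInf_normal (fun p => inferInstance)
  haveI hMn : M.Normal := inferInstance
  have hFiSup : fittingSubgroup S = ⨆ p : {p : ℕ // p.Prime}, pCore (p : ℕ) S :=
    Cfsg.Agent.Helper22.fittingSubgroup_eq_iSup_pCore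
  have haux : ∀ (a b : S), a ∈ M → b ∈ M → ∀ t : ℕ, t.Prime → t ≠ r → ∀ j : ℕ,
      b ^ (t ^ j) = 1 → a * b = b * a := by
    intro a b ha hb t ht htr j hbj
    haveI : Fact t.Prime := ⟨ht⟩
    obtain ⟨hbY, hbN⟩ := mem_inf.mp hb
    obtain ⟨haY, haN⟩ := mem_inf.mp ha
    have hbCr : b ∈ Cr := by
      have h1 : (QuotientGroup.mk' Cr b) ∈ pCore r (S ⧸ Cr) := hbY
      have hPq : IsPGroup r (pCore r (S ⧸ Cr)) := Cfsg.Agent.Helper22.isPGroup_pCore r
      obtain ⟨e, he⟩ := hPq ⟨_, h1⟩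
      have he' : (QuotientGroup.mk' Cr b) ^ (r ^ e) = 1 := by
        simpa using congrArg Subtype.val he
      have h2 : (QuotientGroup.mk' Cr b) ^ (t ^ j) = 1 := by rw [← map_pow, hbj, map_one]
      have hcop : (r ^ e).Coprime (t ^ j) :=
        Nat.Coprime.pow _ _ ((Nat.coprime_primes hr ht).mpr (Ne.symm htr))
      have h3 : QuotientGroup.mk' Cr b = 1 := eq_one_of_pow_coprime he' h2 hcop
      exact (QuotientGroup.eq_one_iff b).mp h3
    have hball : ∀ p : ℕ, p.Prime → pCore p S ≤ centralizer ({b} : Set S) := by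
      intro p hp y hy
      rw [mem_centralizer_iff]
      intro h hh
      rw [Set.mem_singleton_iff] at hh
      subst hh
      by_cases hpr : p = r
      · subst hpr
        exact ((mem_centralizer_iff.mp hbCr) y hy).symm
      · have h1 := (mem_iInf.mp hbN) ⟨p, hp, hpr⟩
        exact ((mem_centralizer_iff.mp h1) y hy).symm
    have hbF : b ∈ fittingSubgroup S := by
      apply Cfsg.Agent.Helper94.centralizer_fitting_le
      rw [mem_centralizer_iff]
      intro y hy
      have h1 : fittingSubgroup S ≤ centralizer ({b} : Set S) := by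
        rw [hFiSup]; exact iSup_le fun p => hball p p.2
      exact ((mem_centralizer_iff.mp (h1 hy)) b rfl).symm
    have hbt : b ∈ pCore t S := mem_pCore_of_mem_fitting_pow t hbF hbj
    have h1 := (mem_iInf.mp haN) ⟨t, ht, htr⟩
    exact ((mem_centralizer_iff.mp h1) b hbt).symm
  have hMnil : Group.IsNilpotent M := by
    apply Cfsg.Agent.S1473.isNilpotent_of_commute
    rintro q t hq ht hqt a b ⟨i, hai⟩ ⟨j, hbj⟩
    by_cases htr : t = r
    · have hqr : q ≠ r := fun h => hqt (h.trans htr.symm)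
      have h1 := haux b.1 a.1 b.2 a.2 q hq hqr i (by simpa using congrArg Subtype.val hai)
      show a * b = b * a
      exact (Subtype.ext h1).symm
    · have h1 := haux a.1 b.1 a.2 b.2 t ht htr j (by simpa using congrArg Subtype.val hbj)
      show a * b = b * a
      exact Subtype.ext h1
  have hMF : M ≤ fittingSubgroup S := Cfsg.Agent.Helper22.le_fittingSubgroup hMn hMnil
  have hFF : fittingSubgroup S ≤ FH := by
    rw [hFiSup]
    exact iSup_le fun p => hcoreFH p p.2
  exact hmemA x (hFF (hMF hxM)) hxA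

end Core

section Transport

theorem fitting_map_le_of_equiv {G G' : Type*} [Group G] [Group G'] [Finite G] (e : G ≃* G') :
    (fittingSubgroup G).map e.toMonoidHom ≤ fittingSubgroup G' := by
  apply Cfsg.Agent.Helper22.le_fittingSubgroup
  · exact Subgroup.Normal.map Cfsg.Agent.Helper22.fittingSubgroup_normal _ e.surjective
  · haveI : Group.IsNilpotent (fittingSubgroup G) := Cfsg.Agent.Helper22.isNilpotent_fittingSubgroup
    exact Group.nilpotent_of_mulEquiv
      ((fittingSubgroup G).equivMapOfInjective e.toMonoidHom e.injective)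

theorem fitting_map_equiv {G G' : Type*} [Group G] [Group G'] [Finite G] [Finite G'] (e : G ≃* G') :
    (fittingSubgroup G).map e.toMonoidHom = fittingSubgroup G' := by
  apply le_antisymm (fitting_map_le_of_equiv e)
  have h := fitting_map_le_of_equiv e.symm
  intro y hy
  exact ⟨e.symm y, h ⟨y, hy, rfl⟩, by simp⟩

end Transport

section Reduction

theorem mem_aux : ∀ (n : ℕ) (S : Type u) [Group S] [Finite S] [Group.IsSolvable S], Nat.card S = n →
    ∀ (π : Set ℕ), 2 ∉ π → 3 ∉ π → ∀ (H : Subgroup S), IsPiHall π H → ∀ (A : Subgroup S),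
    IsSCN ((fittingSubgroup H).map H.subtype) A → ∀ (r : ℕ), r.Prime → r ∈ π →
    ∀ x ∈ centralizer (A : Set S), ∀ k : ℕ, x ^ (r ^ k) = 1 → x ∈ A := by
  intro n
  induction n using Nat.strong_induction_on with
  | _ n ih =>
  intro S _ _ _ hn π h2 h3 H hH A hA r hr hrπ x hx k hxk
  by_cases hR : ∃ R : Subgroup S, R.Normal ∧ R ≠ ⊥ ∧ ∀ q : ℕ, q.Prime → q ∣ Nat.card R → q ∉ π
  swap
  · apply mem_of_core_trivial π h2 h3 H hH A hA _ r hr hrπ x hx k hxk
    intro p hp hpπ
    by_contra hne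
    haveI : Fact p.Prime := ⟨hp⟩
    refine hR ⟨pCore p S, inferInstance, hne, fun q hq hqd => ?_⟩
    obtain ⟨e, he⟩ := IsPGroup.iff_card.mp (Cfsg.Agent.Helper22.isPGroup_pCore (G := S) p)
    rw [he] at hqd
    have : q = p := (Nat.prime_dvd_prime_iff_eq hq hp).mp (hq.dvd_of_dvd_pow hqd)
    rw [this]; exact hpπ
  obtain ⟨R, hRn, hR1, hRπ⟩ := hR
  haveI := hRn
  set f : S →* S ⧸ R := QuotientGroup.mk' R with hf
  have hfs : Function.Surjective f := QuotientGroup.mk'_surjective R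
  obtain ⟨hAF, hFN, hFC⟩ := hA
  set FH : Subgroup S := (fittingSubgroup H).map H.subtype with hFH
  have hFHH : FH ≤ H := map_subtype_le _
  have hcard : Nat.card (S ⧸ R) < n := by
    rw [← hn, ← R.card_mul_index, Subgroup.index_eq_card]
    have h1 : 1 < Nat.card R := by
      rw [Subgroup.one_lt_card_iff_ne_bot]; exact hR1
    have h0 : 0 < Nat.card (S ⧸ R) := Nat.card_pos
    nlinarith
  have hcopHR : (Nat.card H).Coprime (Nat.card R) :=
    Nat.coprime_of_dvd fun q hq hqH hqR => hRπ q hq hqR (hH.1 q hq hqH)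
  have hdis : H ⊓ R = ⊥ := disjoint_iff.mp (Subgroup.disjoint_of_coprime_natCard hcopHR)
  -- the isomorphism `H ≃ H̄`
  have hinj : Function.Injective (f.subgroupMap H) := by
    rw [injective_iff_map_eq_one]
    rintro ⟨y, hy⟩ h1
    have h2 : f y = 1 := by
      have := congrArg Subtype.val h1
      simpa using this
    have h3 : y ∈ R := (QuotientGroup.eq_one_iff y).mp h2
    have h4 : y ∈ H ⊓ R := mem_inf.mpr ⟨hy, h3⟩
    rw [hdis] at h4
    exact Subtype.ext (Subgroup.mem_bot.mp h4)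
  let e : ↥H ≃* ↥(H.map f) := MulEquiv.ofBijective (f.subgroupMap H) ⟨hinj, f.subgroupMap_surjective H⟩
  have hFbar : (fittingSubgroup ↥(H.map f)).map (H.map f).subtype = FH.map f := by
    rw [← fitting_map_equiv e, hFH, Subgroup.map_map, Subgroup.map_map]
    rfl
  have hHbar : IsPiHall π (H.map f) := by
    refine ⟨fun p hp hpd => hH.1 p hp ?_, fun p hp hpπ hpd => hH.2 p hp hpπ ?_⟩
    · rwa [Nat.card_congr e.toEquiv]
    · exact hpd.trans (Subgroup.index_map_dvd H hfs)
  have hAab : ∀ a ∈ A, ∀ b ∈ A, a * b = b * a := by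
    intro a ha b hb
    have : b ∈ FH ⊓ centralizer (A : Set S) := by rw [hFC]; exact hb
    exact (mem_centralizer_iff.mp (mem_inf.mp this).2) a ha
  have hAbar : IsSCN ((fittingSubgroup ↥(H.map f)).map (H.map f).subtype) (A.map f) := by
    rw [hFbar]
    refine ⟨map_mono hAF, (map_mono hFN).trans (le_normalizer_map f), ?_⟩
    apply le_antisymm
    · rintro y hy
      obtain ⟨hy1, hy2⟩ := mem_inf.mp hy
      obtain ⟨y0, hy0, rfl⟩ := hy1
      refine ⟨y0, ?_, rfl⟩
      have hy0A : y0 ∈ FH ⊓ centralizer (A : Set S) := by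
        refine mem_inf.mpr ⟨hy0, ?_⟩
        rw [mem_centralizer_iff]
        intro a ha
        have h1 : f a * f y0 = f y0 * f a := (mem_centralizer_iff.mp hy2) (f a) ⟨a, ha, rfl⟩
        have h2 : f (a * y0 * a⁻¹ * y0⁻¹) = 1 := by
          simp only [map_mul, map_inv]
          rw [h1]; group
        have h3 : a * y0 * a⁻¹ * y0⁻¹ ∈ R := (QuotientGroup.eq_one_iff _).mp h2
        have haH : a ∈ H := hFHH (hAF ha)
        have hyH : y0 ∈ H := hFHH hy0
        have h4 : a * y0 * a⁻¹ * y0⁻¹ ∈ H ⊓ R :=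
          mem_inf.mpr ⟨mul_mem (mul_mem (mul_mem haH hyH) (inv_mem haH)) (inv_mem hyH), h3⟩
        rw [hdis] at h4
        have h5 : a * y0 * a⁻¹ * y0⁻¹ = 1 := Subgroup.mem_bot.mp h4
        calc a * y0 = (a * y0 * a⁻¹ * y0⁻¹) * (y0 * a) := by group
          _ = y0 * a := by rw [h5, one_mul]
      rw [hFC] at hy0A
      exact hy0A
    · intro y hy
      refine mem_inf.mpr ⟨map_mono hAF hy, ?_⟩
      obtain ⟨a, ha, rfl⟩ := hy
      rw [mem_centralizer_iff]
      rintro _ ⟨b, hb, rfl⟩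
      rw [← map_mul, ← map_mul, hAab b hb a ha]
  have hxbar : f x ∈ centralizer ((A.map f : Subgroup (S ⧸ R)) : Set (S ⧸ R)) := by
    rw [mem_centralizer_iff]
    rintro _ ⟨a, ha, rfl⟩
    rw [← map_mul, ← map_mul, (mem_centralizer_iff.mp hx) a ha]
  have hxbark : (f x) ^ (r ^ k) = 1 := by rw [← map_pow, hxk, map_one]
  have hmem := ih _ hcard (S ⧸ R) rfl π h2 h3 (H.map f) hHbar (A.map f) hAbar r hr hrπ (f x) hxbar k hxbark
  obtain ⟨a, ha, hax⟩ := hmem
  have hcR : a⁻¹ * x ∈ R := QuotientGroup.eq.mp hax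
  have hcomm : Commute a⁻¹ x :=
    (show Commute a x from (mem_centralizer_iff.mp hx) a ha).inv_left
  have haH : a ∈ H := hFHH (hAF ha)
  have hapow : a ^ (Nat.card H) = 1 := by
    have := pow_card_eq_one' (G := H) (x := ⟨a, haH⟩)
    exact congrArg Subtype.val this
  have hc1 : (a⁻¹ * x) ^ (Nat.card H * r ^ k) = 1 := by
    rw [hcomm.mul_pow, pow_mul, inv_pow, hapow, inv_one, one_pow, one_mul, mul_comm, pow_mul, hxk,
      one_pow]
  have hc2 : (a⁻¹ * x) ^ (Nat.card R) = 1 := by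
    have := pow_card_eq_one' (G := R) (x := ⟨a⁻¹ * x, hcR⟩)
    exact congrArg Subtype.val this
  have hcop : (Nat.card H * r ^ k).Coprime (Nat.card R) := by
    apply Nat.Coprime.mul_left hcopHR
    apply Nat.Coprime.pow_left
    exact (Nat.Prime.coprime_iff_not_dvd hr).mpr (fun hd => hRπ r hr hd hrπ)
  have hc : a⁻¹ * x = 1 := eq_one_of_pow_coprime hc1 hc2 hcop
  have : x = a := by
    have := congrArg (fun z => a * z) hc
    simpa using this
  rw [this]; exact ha

end Reduction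

section Main

/-- **`C_S(A) = A × D`** for `A ∈ SCN(F(H))`, `H` a Hall `π`-subgroup of the solvable group `S`, `2, 3 ∉ π`. -/
theorem main {S : Type u} [Group S] [Finite S] [Group.IsSolvable S]
    (π : Set ℕ) (h2 : 2 ∉ π) (h3 : 3 ∉ π) (H : Subgroup S) (hH : IsPiHall π H)
    (A : Subgroup S) (hA : IsSCN ((fittingSubgroup H).map H.subtype) A) :
    ∃ D : Subgroup S, D ≤ centralizer (A : Set S) ∧
      (∀ c ∈ centralizer (A : Set S), ∀ d ∈ D, c * d * c⁻¹ ∈ D) ∧
      A ⊓ D = ⊥ ∧ A ⊔ D = centralizer (A : Set S) ∧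
      ∀ q : ℕ, q.Prime → q ∣ Nat.card D → q ∉ π := by
  have hkey : ∀ (r : ℕ), r.Prime → r ∈ π → ∀ x ∈ centralizer (A : Set S), ∀ k : ℕ,
      x ^ (r ^ k) = 1 → x ∈ A :=
    fun r hr hrπ x hx k hxk => mem_aux _ S rfl π h2 h3 H hH A hA r hr hrπ x hx k hxk
  obtain ⟨hAF, hFN, hFC⟩ := hA
  set C : Subgroup S := centralizer (A : Set S) with hC
  have hAC : A ≤ C := by
    intro a ha
    have : a ∈ (fittingSubgroup H).map H.subtype ⊓ centralizer (A : Set S) := by rw [hFC]; exact ha
    exact (mem_inf.mp this).2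
  have hFHH : (fittingSubgroup H).map H.subtype ≤ H := map_subtype_le _
  -- elements of `A` commute with elements of `C`
  have hcomm : ∀ a ∈ A, ∀ g ∈ C, a * g = g * a := fun a ha g hg => (mem_centralizer_iff.mp hg) a ha
  set N : Subgroup C := A.subgroupOf C with hN
  have hNcentral : ∀ n ∈ N, ∀ g : C, g * n = n * g := by
    intro n hn g
    apply Subtype.ext
    exact (hcomm n.1 (mem_subgroupOf.mp hn) g.1 g.2).symm
  haveI hNn : N.Normal := by
    constructor
    intro n hn g
    have : g * n * g⁻¹ = n := by rw [hNcentral n hn g, mul_inv_cancel_right]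
    rw [this]; exact hn
  have hidx : ∀ q : ℕ, q.Prime → q ∈ π → ¬ q ∣ N.index := by
    intro q hq hqπ
    haveI : Fact q.Prime := ⟨hq⟩
    obtain ⟨Q⟩ : Nonempty (Sylow q C) := inferInstance
    have hQN : (Q : Subgroup C) ≤ N := by
      intro y hy
      obtain ⟨e, he⟩ := Q.isPGroup' ⟨y, hy⟩
      have he' : y ^ (q ^ e) = 1 := by simpa using congrArg Subtype.val he
      have he'' : (y : S) ^ (q ^ e) = 1 := by simpa using congrArg Subtype.val he'
      exact mem_subgroupOf.mpr (hkey q hq hqπ y.1 y.2 e he'')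
    intro hd
    exact Q.not_dvd_index (hd.trans (Subgroup.index_dvd_of_le hQN))
  have hcardN : Nat.card N = Nat.card A := Nat.card_congr (subgroupOfEquivOfLe hAC).toEquiv
  have hcop : (Nat.card N).Coprime N.index := by
    apply Nat.coprime_of_dvd
    intro q hq hqN hqi
    rw [hcardN] at hqN
    have h2' : q ∣ Nat.card H := hqN.trans (Subgroup.card_dvd_of_le (hAF.trans hFHH))
    exact hidx q hq (hH.1 q hq h2') hqi
  obtain ⟨D', hD'⟩ := exists_right_complement'_of_coprime hcop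
  have hfact : ∀ c : C, ∃ n ∈ N, ∃ d ∈ D', n * d = c := by
    intro c
    obtain ⟨⟨n, d⟩, hnd⟩ := hD'.2 c
    exact ⟨n.1, n.2, d.1, d.2, hnd⟩
  refine ⟨D'.map C.subtype, map_subtype_le _, ?_, ?_, ?_, ?_⟩
  · rintro c hc _ ⟨d, hd, rfl⟩
    obtain ⟨n, hn, d0, hd0, hnd⟩ := hfact ⟨c, hc⟩
    refine ⟨d0 * d * d0⁻¹, mul_mem (mul_mem hd0 hd) (inv_mem hd0), ?_⟩
    have h1 : (⟨c, hc⟩ : C) * d * (⟨c, hc⟩ : C)⁻¹ = d0 * d * d0⁻¹ := by
      rw [← hnd]
      have e1 : n * d0 * d * (n * d0)⁻¹ = n * (d0 * d * d0⁻¹) * n⁻¹ := by group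
      rw [e1, ← hNcentral n hn (d0 * d * d0⁻¹), mul_inv_cancel_right]
    have := congrArg Subtype.val h1
    simpa using this.symm
  · rw [eq_bot_iff]
    rintro y hy
    obtain ⟨hyA, d, hd, rfl⟩ := mem_inf.mp hy
    have hdN : d ∈ N := mem_subgroupOf.mpr hyA
    have hdd : d ∈ N ⊓ D' := mem_inf.mpr ⟨hdN, hd⟩
    rw [disjoint_iff.mp hD'.disjoint] at hdd
    rw [Subgroup.mem_bot] at hdd ⊢
    rw [hdd]; rfl
  · apply le_antisymm (sup_le hAC (map_subtype_le _))
    intro c hc
    obtain ⟨n, hn, d0, hd0, hnd⟩ := hfact ⟨c, hc⟩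
    have h1 : c = (n : S) * (d0 : S) := by
      have := congrArg Subtype.val hnd
      simpa using this.symm
    rw [h1]
    exact mul_mem_sup (mem_subgroupOf.mp hn) ⟨d0, hd0, rfl⟩
  · intro q hq hqd hqπ
    have h1 : Nat.card (D'.map C.subtype) = Nat.card D' :=
      Nat.card_congr (D'.equivMapOfInjective C.subtype C.subtype_injective).symm.toEquiv
    have h2' : N.index = Nat.card D' := hD'.symm.index_eq_card
    rw [h1, ← h2'] at hqd
    exact hidx q hq hqπ hqd

end Main

end Cfsg.Agent.Helper90.SCNHall
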