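import Mathlib
import Cfsg.Agent.S1450
import Cfsg.Agent.Lib.Helper24.RankTwoAut
import Cfsg.Agent.Lib.Helper22.QPrimeCore
import Cfsg.Agent.Lib.Helper22.Radical
import Cfsg.Agent.Lib.Helper63.FittingCrit
import Cfsg.Agent.Lib.Helper94.Solvable
import Cfsg.Agent.Lib.Helper90.SCNHall

/-!
# Type-level lemmas for Bender–Glauberman Lemma 9.5 (helper73's proof of S1402)

* `centralizes_of_le_commutator` (R4): `X` solvable of odd order with `r`-rank at most 2; an `r'`-subgroup
  `P1 ≤ X'` centralizes every `r`-subgroup of `X` it normalizes.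
* `le_centralizer_pCore` (R5): if `O_r(X)` has rank at most 2 then every `r'`-subgroup of `X'` centralizes
  `O_r(X)`.
* `le_pCore_of_centralizes` (R6): if `O_p(X)` has rank at most 2 and the `p`-subgroup `P1 ≤ X'`
  centralizes `O_r(X)` for all primes `r ≠ p`, then `P1 ≤ O_p(X)`.
-/

set_option autoImplicit false

namespace Cfsg.Agent.Helper90.BG95

open Cfsg Subgroup

variable {X : Type*} [Group X] [Finite X]

/-- the subgroup of `P1` is trivial in a quotient-like situation: an element killed by coprime exponents -/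
private theorem eq_one_of_pows {Y : Type*} [Group Y] {g : Y} {m n : ℕ} (hm : g ^ m = 1) (hn : g ^ n = 1)
    (hmn : m.Coprime n) : g = 1 := by
  have h1 : orderOf g ∣ m := orderOf_dvd_of_pow_eq_one hm
  have h2 : orderOf g ∣ n := orderOf_dvd_of_pow_eq_one hn
  have h3 : orderOf g ∣ 1 := by
    have := Nat.dvd_gcd h1 h2
    rwa [hmn.gcd_eq_one] at this
  exact orderOf_eq_one_iff.mp (Nat.dvd_one.mp h3)

/-- (R4) -/
theorem centralizes_of_le_commutator [Group.IsSolvable X] (hodd : Odd (Nat.card X))
    (r : ℕ) [hrp : Fact r.Prime] (hr : PRankLE r 2 X)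
    (P1 : Subgroup X) (hP1 : P1 ≤ commutator X) (hcop : (Nat.card P1).Coprime r)
    (Y : Subgroup X) (hY : IsPGroup r Y) (hN : P1 ≤ normalizer (Y : Set X)) :
    P1 ≤ centralizer (Y : Set X) := by
  classical
  by_cases hrX : r ∣ Nat.card X
  · obtain ⟨-, -, -, h4, -, -⟩ := Cfsg.Agent.S1450.result hodd r hrX hr
    have hL : (Nat.card (P1.subgroupOf (commutator X))).Coprime r := by
      rw [Nat.card_congr (Subgroup.subgroupOfEquivOfLe hP1).toEquiv]; exact hcop
    have h5 := h4 _ hL
    set N : Subgroup X := (pPrimeCore r ↥(commutator X)).map (commutator X).subtype with hNdef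
    have hNn : N.Normal := by
      have h := Cfsg.Agent.Helper22.normalizer_le_normalizer_map_of_characteristic (commutator X)
        (pPrimeCore r ↥(commutator X))
      rw [Subgroup.normalizer_eq_top] at h
      exact Subgroup.normalizer_eq_top_iff.mp (top_le_iff.mp h)
    have hNc : (Nat.card N).Coprime r := by
      rw [hNdef, Nat.card_congr
        ((pPrimeCore r ↥(commutator X)).equivMapOfInjective _
          (Subgroup.subtype_injective _)).symm.toEquiv]
      exact Cfsg.Agent.Helper22.card_pPrimeCore_coprime r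
    have hP1N : P1 ≤ N := by
      intro x hx
      refine ⟨⟨x, hP1 hx⟩, h5 ?_, rfl⟩
      rw [Subgroup.mem_subgroupOf]
      exact hx
    have hdis : Disjoint Y N := by
      apply Subgroup.disjoint_of_coprime_natCard
      obtain ⟨k, hk⟩ := IsPGroup.iff_card.mp hY
      rw [hk]
      exact Nat.Coprime.pow_left k hNc.symm
    intro x hx
    rw [Subgroup.mem_centralizer_iff]
    intro y hy
    have h1 : x * y * x⁻¹ ∈ Y := (Subgroup.mem_normalizer_iff.mp (hN hx) y).mp hy
    have h2 : x * y * x⁻¹ * y⁻¹ ∈ Y := Y.mul_mem h1 (Y.inv_mem hy)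
    have h3 : x * y * x⁻¹ * y⁻¹ ∈ N := by
      have h6 : y * x⁻¹ * y⁻¹ ∈ N := hNn.conj_mem _ (N.inv_mem (hP1N hx)) y
      have h7 := N.mul_mem (hP1N hx) h6
      have h8 : x * (y * x⁻¹ * y⁻¹) = x * y * x⁻¹ * y⁻¹ := by group
      rwa [h8] at h7
    have h4' : x * y * x⁻¹ * y⁻¹ ∈ Y ⊓ N := Subgroup.mem_inf.mpr ⟨h2, h3⟩
    rw [disjoint_iff.mp hdis, Subgroup.mem_bot] at h4'
    have h9 : x * y = y * x := by
      have : x * y = (x * y * x⁻¹ * y⁻¹) * (y * x) := by group
      rw [this, h4', one_mul]
    exact h9.symm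
  · -- `Y` is trivial
    have hY1 : Y = ⊥ := by
      obtain ⟨k, hk⟩ := IsPGroup.iff_card.mp hY
      have hdvd : Nat.card Y ∣ Nat.card X := Subgroup.card_subgroup_dvd_card Y
      rcases Nat.eq_zero_or_pos k with h0 | hpos
      · rw [h0, pow_zero] at hk
        exact Subgroup.eq_bot_of_card_eq Y hk
      · exfalso
        apply hrX
        refine dvd_trans ?_ hdvd
        rw [hk]
        exact dvd_pow_self r (Nat.pos_iff_ne_zero.mp hpos)
    rw [hY1]
    intro x _
    rw [Subgroup.mem_centralizer_iff]
    intro y hy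
    have : y = 1 := by simpa using hy
    rw [this, one_mul, mul_one]

/-- (R5) -/
theorem le_centralizer_pCore [Group.IsSolvable X] (hodd : Odd (Nat.card X))
    (r : ℕ) [hrp : Fact r.Prime] (hr : PRankLE r 2 ↥(pCore r X))
    (P1 : Subgroup X) (hP1 : P1 ≤ commutator X) (hcop : (Nat.card P1).Coprime r) :
    P1 ≤ centralizer (pCore r X : Set X) := by
  classical
  have hRn : (pCore r X).Normal := Cfsg.Agent.Helper94.pCore_normal r
  have hRp : IsPGroup r ↥(pCore r X) := Cfsg.Agent.Helper22.isPGroup_pCore r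
  by_cases hr2 : r = 2
  · -- `O_2(X) = 1` in a group of odd order
    have hbot : pCore r X = ⊥ := by
      obtain ⟨k, hk⟩ := IsPGroup.iff_card.mp hRp
      have hdvd : Nat.card ↥(pCore r X) ∣ Nat.card X := Subgroup.card_subgroup_dvd_card _
      rcases Nat.eq_zero_or_pos k with h0 | hpos
      · rw [h0, pow_zero] at hk
        exact Subgroup.eq_bot_of_card_eq _ hk
      · exfalso
        have h2 : 2 ∣ Nat.card X := by
          refine dvd_trans ?_ hdvd
          rw [hk, hr2]
          exact dvd_pow_self 2 (Nat.pos_iff_ne_zero.mp hpos)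
        exact (Nat.not_even_iff_odd.mpr hodd) (even_iff_two_dvd.mpr h2)
    rw [hbot]
    intro x _
    rw [Subgroup.mem_centralizer_iff]
    intro y hy
    have : y = 1 := by simpa using hy
    rw [this, one_mul, mul_one]
  · -- the conjugation action on `O_r(X)`
    let φ : X →* MulAut ↥(pCore r X) := MulAut.conjNormal
    let A : Subgroup (MulAut ↥(pCore r X)) := φ.range
    have hAsolv : Group.IsSolvable ↥A :=
      Group.isSolvable_of_surjective (f := φ.rangeRestrict) φ.rangeRestrict_surjective
    have hAodd : Odd (Nat.card ↥A) := by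
      have hdvd : Nat.card ↥A ∣ Nat.card X := by
        have := Subgroup.card_dvd_of_surjective φ.rangeRestrict φ.rangeRestrict_surjective
        exact this
      exact Odd.of_dvd_nat hodd hdvd
    have hcomm : IsPGroup r (commutator ↥A) :=
      Cfsg.Agent.Helper24.RankTwoAut.isPGroup_commutator_of_rank_two hr2 hRp hr
        A.subtype (Subgroup.subtype_injective A) hAodd hAsolv
    intro x hx
    -- the image of `x` lies in the commutator subgroup of `A`
    have hxc : φ.rangeRestrict x ∈ commutator ↥A := by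
      have h1 : (commutator X).map φ.rangeRestrict ≤ commutator ↥A := by
        rw [commutator_def, commutator_def, Subgroup.map_commutator]
        exact Subgroup.commutator_mono le_top le_top
      exact h1 ⟨x, hP1 hx, rfl⟩
    obtain ⟨k, hk⟩ := hcomm ⟨φ.rangeRestrict x, hxc⟩
    have hk' : (φ.rangeRestrict x) ^ (r ^ k) = 1 := by
      have := congrArg Subtype.val hk
      simpa using this
    have hx1 : x ^ (Nat.card P1) = 1 := by
      have := pow_card_eq_one' (G := P1) (x := ⟨x, hx⟩)
      exact congrArg Subtype.val this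
    have hk2 : (φ.rangeRestrict x) ^ (Nat.card P1) = 1 := by
      rw [← map_pow, hx1, map_one]
    have h1 : φ.rangeRestrict x = 1 :=
      eq_one_of_pows hk' hk2 (Nat.Coprime.pow_left k hcop.symm)
    have h2 : φ x = 1 := by
      have := congrArg Subtype.val h1
      simpa using this
    rw [Subgroup.mem_centralizer_iff]
    intro y hy
    have h3 : φ x ⟨y, hy⟩ = ⟨y, hy⟩ := by rw [h2]; rfl
    have h4 : x * y * x⁻¹ = y := by
      have := congrArg Subtype.val h3
      simpa [φ, MulAut.conjNormal_apply] using this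
    calc y * x = (x * y * x⁻¹) * x := by rw [h4]
      _ = x * y := by group

/-- (R6) -/
theorem le_pCore_of_centralizes [Group.IsSolvable X] (hodd : Odd (Nat.card X))
    (p : ℕ) [hpp : Fact p.Prime] (hr : PRankLE p 2 ↥(pCore p X))
    (P1 : Subgroup X) (hP1p : IsPGroup p P1) (hP1 : P1 ≤ commutator X)
    (hcent : ∀ r : ℕ, r.Prime → r ≠ p → P1 ≤ centralizer (pCore r X : Set X)) :
    P1 ≤ pCore p X := by
  classical
  -- the normal subgroup `H = X' ∩ ⋂_{r ≠ p} C_X(O_r(X))`
  let H : Subgroup X := commutator X ⊓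
    ⨅ r : {r : ℕ // r.Prime ∧ r ≠ p}, centralizer (pCore (r : ℕ) X : Set X)
  have hHn : H.Normal := by
    have h1 : ∀ r : {r : ℕ // r.Prime ∧ r ≠ p},
        (centralizer (pCore (r : ℕ) X : Set X)).Normal := by
      intro r
      have : (pCore (r : ℕ) X).Normal := Cfsg.Agent.Helper94.pCore_normal (r : ℕ)
      infer_instance
    have h2 : (⨅ r : {r : ℕ // r.Prime ∧ r ≠ p},
        centralizer (pCore (r : ℕ) X : Set X)).Normal := Subgroup.normal_iInf_normal h1
    infer_instance
  have hP1H : P1 ≤ H := by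
    refine le_inf hP1 (le_iInf ?_)
    intro r
    exact hcent r r.2.1 r.2.2
  have hHF : H ≤ fittingSubgroup X := by
    refine Cfsg.Agent.Helper63.le_fittingSubgroup_of_centralizes inferInstance H ?_
    intro q hq y hy hyq
    by_cases hqp : q = p
    · subst hqp
      -- `⟨y⟩ ≤ X'` is a `p'`-subgroup
      have hy1 : y ∈ commutator X := (Subgroup.mem_inf.mp hy).1
      have hz : Subgroup.zpowers y ≤ commutator X := by
        rw [Subgroup.zpowers_le]; exact hy1
      have hzc : (Nat.card (Subgroup.zpowers y)).Coprime q := by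
        rw [Nat.card_zpowers]; exact hyq
      exact le_centralizer_pCore hodd q hr (Subgroup.zpowers y) hz hzc
        (Subgroup.mem_zpowers y)
    · have hy2 := (Subgroup.mem_inf.mp hy).2
      rw [Subgroup.mem_iInf] at hy2
      exact hy2 ⟨q, hq.out, hqp⟩
  intro x hx
  obtain ⟨k, hk⟩ := hP1p ⟨x, hx⟩
  have hk' : x ^ (p ^ k) = 1 := by
    have := congrArg Subtype.val hk
    simpa using this
  exact Cfsg.Agent.Helper90.SCNHall.mem_pCore_of_mem_fitting_pow p (hHF (hP1H hx)) hk'

end Cfsg.Agent.Helper90.BG95
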