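import Mathlib
import Cfsg.Agent.Lib.Helper90.BG95
import Cfsg.Agent.Lib.Helper22.Fitting
import Cfsg.Agent.Lib.Helper15.BGU.Transport

/-!
# Transport of R4/R5/R6 (Bender–Glauberman 9.5) to a subgroup `M ≤ G`

Exact shapes requested by helper73 (#2453, "TR"), with `O_r(M) := Cfsg.pCoreOf r M`.
-/

set_option autoImplicit false

namespace Cfsg.Agent.Helper90.BG95Sub

open Cfsg Subgroup

variable {G : Type*} [Group G]

/-- `p`-rank transports along an injective hom (backwards). -/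
private theorem pRankLE_of_inj {H K : Type*} [Group H] [Group K] {p k : ℕ} (f : H →* K)
    (hf : Function.Injective f) (h : PRankLE p k K) : PRankLE p k H := by
  intro A hA hAp
  have hc : IsMulCommutative ↥(A.map f) := by
    refine ⟨⟨?_⟩⟩
    rintro ⟨x, a, ha, rfl⟩ ⟨y, b, hb, rfl⟩
    apply Subtype.ext
    show f a * f b = f b * f a
    rw [← map_mul, ← map_mul]
    congr 1
    have := hA.is_comm.comm ⟨a, ha⟩ ⟨b, hb⟩
    exact congrArg Subtype.val this
  have hp : ∀ a ∈ A.map f, a ^ p = 1 := by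
    rintro _ ⟨a, ha, rfl⟩
    rw [← map_pow, hAp a ha, map_one]
  have := h (A.map f) hc hp
  rwa [Nat.card_congr (A.equivMapOfInjective f hf).symm.toEquiv] at this

/-- membership in the derived subgroup of `↥M` from membership in `⁅M, M⁆` -/
private theorem mem_commutator_subtype (M : Subgroup G) {x : G} (hx : x ∈ ⁅M, M⁆) (hxM : x ∈ M) :
    (⟨x, hxM⟩ : ↥M) ∈ commutator ↥M := by
  have h1 : (commutator ↥M).map M.subtype = ⁅M, M⁆ := by
    rw [commutator_def, Subgroup.map_commutator, ← MonoidHom.range_eq_map, Subgroup.range_subtype]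
  rw [← h1] at hx
  obtain ⟨y, hy, hyx⟩ := hx
  have : y = ⟨x, hxM⟩ := Subtype.ext hyx
  rwa [← this]

private theorem commutator_le_self (M : Subgroup G) : ⁅M, M⁆ ≤ M :=
  Subgroup.commutator_le.mpr (fun a ha b hb =>
    M.mul_mem (M.mul_mem (M.mul_mem ha hb) (M.inv_mem ha)) (M.inv_mem hb))

variable [Finite G]

/-- (R4) inside `M ≤ G` -/
theorem r4_sub (M : Subgroup G) (hsolv : Group.IsSolvable ↥M) (hodd : Odd (Nat.card M))
    (r : ℕ) [Fact r.Prime] (hr : PRankLE r 2 ↥M) (P1 Y : Subgroup G) (hP1 : P1 ≤ ⁅M, M⁆)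
    (hcop : (Nat.card P1).Coprime r) (hYM : Y ≤ M) (hY : IsPGroup r Y)
    (hN : P1 ≤ normalizer (Y : Set G)) : P1 ≤ centralizer (Y : Set G) := by
  have hP1M : P1 ≤ M := hP1.trans (commutator_le_self M)
  have h1 : P1.subgroupOf M ≤ commutator ↥M := by
    intro x hx
    rw [Subgroup.mem_subgroupOf] at hx
    exact mem_commutator_subtype M (hP1 hx) x.2
  have h2 : (Nat.card (P1.subgroupOf M)).Coprime r := by
    rw [Nat.card_congr (Subgroup.subgroupOfEquivOfLe hP1M).toEquiv]; exact hcop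
  have h3 : IsPGroup r (Y.subgroupOf M) := hY.comap_subtype
  have h4 : P1.subgroupOf M ≤ normalizer ((Y.subgroupOf M : Subgroup ↥M) : Set ↥M) := by
    intro x hx
    rw [Subgroup.mem_subgroupOf] at hx
    rw [Subgroup.mem_normalizer_iff]
    intro y
    rw [Subgroup.mem_subgroupOf, Subgroup.mem_subgroupOf]
    have := Subgroup.mem_normalizer_iff.mp (hN hx) (y : G)
    simpa using this
  have h5 := Cfsg.Agent.Helper90.BG95.centralizes_of_le_commutator (X := ↥M) hodd r hr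
    (P1.subgroupOf M) h1 h2 (Y.subgroupOf M) h3 h4
  intro x hx
  rw [Subgroup.mem_centralizer_iff]
  intro y hy
  have hx' : (⟨x, hP1M hx⟩ : ↥M) ∈ P1.subgroupOf M := by
    rw [Subgroup.mem_subgroupOf]; exact hx
  have hy' : (⟨y, hYM hy⟩ : ↥M) ∈ ((Y.subgroupOf M : Subgroup ↥M) : Set ↥M) := by
    show _ ∈ Y.subgroupOf M
    rw [Subgroup.mem_subgroupOf]; exact hy
  have := Subgroup.mem_centralizer_iff.mp (h5 hx') _ hy'
  exact congrArg Subtype.val this

private theorem pRankLE_pCore_of_pCoreOf (M : Subgroup G) (r : ℕ)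
    (hr : PRankLE r 2 ↥(pCoreOf r M)) : PRankLE r 2 ↥(pCore r ↥M) := by
  have e : ↥(pCore r ↥M) ≃* ↥(pCoreOf r M) :=
    (pCore r ↥M).equivMapOfInjective M.subtype (Subgroup.subtype_injective M)
  exact pRankLE_of_inj e.toMonoidHom e.injective hr

/-- centralizing `O_r(↥M)` inside `↥M` is centralizing `O_r(M)` inside `G` -/
private theorem le_centralizer_pCoreOf_iff (M : Subgroup G) (r : ℕ) (P1 : Subgroup G) (hP1M : P1 ≤ M) :
    P1.subgroupOf M ≤ centralizer (pCore r ↥M : Set ↥M) ↔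
      P1 ≤ centralizer (pCoreOf r M : Set G) := by
  constructor
  · intro h x hx
    rw [Subgroup.mem_centralizer_iff]
    rintro _ ⟨y, hy, rfl⟩
    have hx' : (⟨x, hP1M hx⟩ : ↥M) ∈ P1.subgroupOf M := by
      rw [Subgroup.mem_subgroupOf]; exact hx
    have := Subgroup.mem_centralizer_iff.mp (h hx') y hy
    exact congrArg Subtype.val this
  · intro h x hx
    rw [Subgroup.mem_subgroupOf] at hx
    rw [Subgroup.mem_centralizer_iff]
    intro y hy
    have hy' : (y : G) ∈ ((pCoreOf r M : Subgroup G) : Set G) := ⟨y, hy, rfl⟩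
    have := Subgroup.mem_centralizer_iff.mp (h hx) _ hy'
    exact Subtype.ext this

/-- (R5) inside `M ≤ G` -/
theorem r5_sub (M : Subgroup G) (hsolv : Group.IsSolvable ↥M) (hodd : Odd (Nat.card M))
    (r : ℕ) [Fact r.Prime] (hr : PRankLE r 2 ↥(pCoreOf r M)) (P1 : Subgroup G)
    (hP1 : P1 ≤ ⁅M, M⁆) (hcop : (Nat.card P1).Coprime r) :
    P1 ≤ centralizer (pCoreOf r M : Set G) := by
  have hP1M : P1 ≤ M := hP1.trans (commutator_le_self M)
  have h1 : P1.subgroupOf M ≤ commutator ↥M := by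
    intro x hx
    rw [Subgroup.mem_subgroupOf] at hx
    exact mem_commutator_subtype M (hP1 hx) x.2
  have h2 : (Nat.card (P1.subgroupOf M)).Coprime r := by
    rw [Nat.card_congr (Subgroup.subgroupOfEquivOfLe hP1M).toEquiv]; exact hcop
  have h5 := Cfsg.Agent.Helper90.BG95.le_centralizer_pCore (X := ↥M) hodd r
    (pRankLE_pCore_of_pCoreOf M r hr) (P1.subgroupOf M) h1 h2
  exact (le_centralizer_pCoreOf_iff M r P1 hP1M).mp h5

/-- (R6) inside `M ≤ G` -/
theorem r6_sub (M : Subgroup G) (hsolv : Group.IsSolvable ↥M) (hodd : Odd (Nat.card M))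
    (p : ℕ) [Fact p.Prime] (hr : PRankLE p 2 ↥(pCoreOf p M)) (P1 : Subgroup G)
    (hP1p : IsPGroup p P1) (hP1 : P1 ≤ ⁅M, M⁆)
    (hcent : ∀ r : ℕ, r.Prime → r ≠ p → P1 ≤ centralizer (pCoreOf r M : Set G)) :
    P1 ≤ pCoreOf p M := by
  have hP1M : P1 ≤ M := hP1.trans (commutator_le_self M)
  have h1 : P1.subgroupOf M ≤ commutator ↥M := by
    intro x hx
    rw [Subgroup.mem_subgroupOf] at hx
    exact mem_commutator_subtype M (hP1 hx) x.2
  have h3 : IsPGroup p (P1.subgroupOf M) := hP1p.comap_subtype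
  have h5 := Cfsg.Agent.Helper90.BG95.le_pCore_of_centralizes (X := ↥M) hodd p
    (pRankLE_pCore_of_pCoreOf M p hr) (P1.subgroupOf M) h3 h1
    (fun r hrp hne => (le_centralizer_pCoreOf_iff M r P1 hP1M).mpr (hcent r hrp hne))
  intro x hx
  have hx' : (⟨x, hP1M hx⟩ : ↥M) ∈ P1.subgroupOf M := by
    rw [Subgroup.mem_subgroupOf]; exact hx
  exact ⟨⟨x, hP1M hx⟩, h5 hx', rfl⟩

/-- `O_r(M) ≤ F(M)` as subgroups of `G` -/
theorem pCoreOf_le_fittingOf (M : Subgroup G) (r : ℕ) [Fact r.Prime] :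
    pCoreOf r M ≤ fittingOf M := by
  unfold pCoreOf fittingOf
  exact Subgroup.map_mono (Cfsg.Agent.Helper22.pCore_le_fittingSubgroup r)

/-- `O_{p'}(M)` centralizes `O_p(M)` -/
theorem coreIn_le_centralizer_pCoreOf (M : Subgroup G) (p : ℕ) [Fact p.Prime] :
    Cfsg.Agent.Helper15.BGU.coreIn p M ≤ centralizer (pCoreOf p M : Set G) := by
  have hn1 : (pPrimeCore p ↥M).Normal := inferInstance
  have hn2 : (pCore p ↥M).Normal := Cfsg.Agent.Helper94.pCore_normal p
  have hc1 : (Nat.card ↥(pPrimeCore p ↥M)).Coprime p := Cfsg.Agent.Helper22.card_pPrimeCore_coprime p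
  have hp2 : IsPGroup p ↥(pCore p ↥M) := Cfsg.Agent.Helper22.isPGroup_pCore p
  have hdis : Disjoint (pPrimeCore p ↥M) (pCore p ↥M) := by
    apply Subgroup.disjoint_of_coprime_natCard
    obtain ⟨k, hk⟩ := IsPGroup.iff_card.mp hp2
    rw [hk]
    exact Nat.Coprime.pow_right k hc1
  rintro _ ⟨x, hx, rfl⟩
  rw [Subgroup.mem_centralizer_iff]
  rintro _ ⟨y, hy, rfl⟩
  have := Subgroup.commute_of_normal_of_disjoint _ _ hn1 hn2 hdis x y hx hy
  have h2 : y * x = x * y := this.eq.symm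
  exact congrArg Subtype.val h2

end Cfsg.Agent.Helper90.BG95Sub
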