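import Mathlib
import Cfsg.Agent.Lib.Helper13.OrthPermB

/-!
# Theorem P, piece (F1): the Sylow part

For an automorphism `α` of `EK Q / Z` and a singular point `u`, the image under `α` of the point
stabiliser of `u` contains the image of some root group.
-/

set_option autoImplicit false

namespace Cfsg.Agent.Helper90.OrthPermF1

open Matrix QuadraticMap Cfsg.Agent.Helper13 Cfsg.Agent.Helper43
open Cfsg.Agent.Helper13.OrthPermA
open scoped commutatorElement

variable {F : Type*} [Field F] {ι : Type} [Fintype ι] [DecidableEq ι]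
  {Q : QuadraticForm F (ι → F)}

theorem E_pow {u w : ι → F} (hu : Q u = 0) (huw : polar (⇑Q) u w = 0) (n : ℕ) :
    (E Q u w) ^ n = E Q u (n • w) := by
  induction n with
  | zero => rw [pow_zero, zero_smul, E_zero]
  | succ k ih =>
    have h1 : polar (⇑Q) u (k • w) = 0 := by
      rw [← Nat.cast_smul_eq_nsmul F, polar_smul_right, huw, smul_zero]
    rw [pow_succ, ih, E_mul hu h1 huw, succ_nsmul]

theorem rootGroup_isPGroup {u : ι → F} (hu : Q u = 0) (p : ℕ) [CharP F p] :
    IsPGroup p (rootGroup Q u hu) := by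
  intro g
  refine ⟨1, ?_⟩
  obtain ⟨w, hw, hg⟩ := (mem_rootGroup_iff hu g.1).1 g.2
  apply Subtype.ext
  rw [Subgroup.coe_pow, pow_one, hg, Subgroup.coe_one, E_pow hu hw]
  have h1 : (p • w : ι → F) = 0 := by
    rw [← Nat.cast_smul_eq_nsmul F, CharP.cast_eq_zero, zero_smul]
  rw [h1, E_zero]

section Fin

variable [Fintype F]

set_option synthInstance.maxHeartbeats 400000 in
/-- a `p`-subgroup of `EK Q` containing a root group fixes the point -/
theorem le_stabilizer_of_pgroup (h : WI3 Q) {p : ℕ} (hpp : p.Prime) (hch : CharP F p)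
    (S : Subgroup ↥(EK Q)) (hS : IsPGroup p S) {u : ι → F} (hu0 : u ≠ 0) (hu : Q u = 0)
    (hle : rootGroup Q u hu ≤ S) :
    S ≤ MulAction.stabilizer ↥(EK Q) (mkS Q u hu0 hu) := by
  classical
  have : Fact p.Prime := ⟨hpp⟩
  have hne : Nonempty ι := by
    by_contra hcon
    rw [not_nonempty_iff] at hcon
    exact hu0 (Subsingleton.elim _ _)
  have hcard : p ∣ Nat.card (ι → F) := by
    rw [Nat.card_eq_fintype_card, Fintype.card_fun]
    have hpF : p ∣ Fintype.card F := by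
      rw [← CharP.cast_eq_zero_iff F p]
      exact Nat.cast_card_eq_zero F
    exact dvd_pow hpF Fintype.card_ne_zero
  have h0 : (0 : ι → F) ∈ MulAction.fixedPoints S (ι → F) := by
    intro g
    exact smul_zero' g.1
  obtain ⟨y, hy, hy0⟩ := hS.exists_fixed_point_of_prime_dvd_card_of_fixed_point _ hcard h0
  have hyfix : ∀ g ∈ S, g • y = y := fun g hg => hy ⟨g, hg⟩
  obtain ⟨c, hc⟩ := fixed_of_rootGroup h hu0 hu y (fun w hw => hyfix _ (hle (E_mem_rootGroup hu hw)))
  have hc0 : c ≠ 0 := by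
    rintro rfl
    rw [zero_smul] at hc
    exact hy0 hc.symm
  intro g hg
  rw [MulAction.mem_stabilizer_iff, smul_mkS, mkS_eq_iff]
  refine ⟨1, ?_⟩
  rw [one_smul]
  have h1 := hyfix g hg
  rw [hc, smul_smul'] at h1
  have h2 : c⁻¹ • (c • g • u) = c⁻¹ • (c • u) := by rw [h1]
  rw [smul_smul, smul_smul, inv_mul_cancel₀ hc0, one_smul, one_smul] at h2
  exact h2.symm

omit [Fintype F] in
theorem mem_rootGroup_smul_iff (g : ↥(EK Q)) {u : ι → F} (hu : Q u = 0) (h' : Q (g • u) = 0)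
    (x : ↥(EK Q)) :
    x ∈ rootGroup Q (g • u) h' ↔ ∃ z ∈ rootGroup Q u hu, x = g * z * g⁻¹ := by
  rw [rootGroup_conj Q g u hu h', Subgroup.mem_smul_pointwise_iff_exists]
  constructor
  · rintro ⟨z, hz, rfl⟩
    exact ⟨z, hz, by rw [MulAut.smul_def, MulAut.conj_apply]⟩
  · rintro ⟨z, hz, rfl⟩
    exact ⟨z, hz, by rw [MulAut.smul_def, MulAut.conj_apply]⟩

/-- (F1) Sylow part -/
theorem exists_rootGroup_le_map (h : WI3 Q)
    (α : (↥(EK Q) ⧸ Subgroup.center ↥(EK Q)) ≃* (↥(EK Q) ⧸ Subgroup.center ↥(EK Q)))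
    {u : ι → F} (hu0 : u ≠ 0) (hu : Q u = 0) :
    ∃ (u' : ι → F) (_ : u' ≠ 0) (hu' : Q u' = 0),
      (rootGroup Q u' hu').map (QuotientGroup.mk' (Subgroup.center ↥(EK Q))) ≤
        ((MulAction.stabilizer ↥(EK Q) (mkS Q u hu0 hu)).map
          (QuotientGroup.mk' (Subgroup.center ↥(EK Q)))).map α.toMonoidHom := by
  classical
  set p := ringChar F with hp
  have : CharP F p := ringChar.charP F
  have : Fact p.Prime := ⟨CharP.char_is_prime F p⟩
  let π := QuotientGroup.mk' (Subgroup.center ↥(EK Q))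
  have hπ : Function.Surjective π := QuotientGroup.mk'_surjective _
  obtain ⟨S, hS⟩ := (rootGroup_isPGroup hu p).exists_le_sylow
  have hstab := le_stabilizer_of_pgroup h (CharP.char_is_prime F p) (ringChar.charP F) (S : Subgroup ↥(EK Q)) S.2 hu0 hu hS
  let S0 : Sylow p (↥(EK Q) ⧸ Subgroup.center ↥(EK Q)) := Sylow.mapSurjective hπ S
  let S1 : Sylow p (↥(EK Q) ⧸ Subgroup.center ↥(EK Q)) :=
    Sylow.mapSurjective (f := α.toMonoidHom) α.surjective S0
  obtain ⟨gb, hgb⟩ := MulAction.exists_smul_eq (↥(EK Q) ⧸ Subgroup.center ↥(EK Q)) S0 S1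
  have hsub : ((S : Subgroup _).map π).map α.toMonoidHom
      = ((S : Subgroup _).map π).map (MulAut.conj gb).toMonoidHom := by
    have h1 := congrArg (fun T : Sylow p (↥(EK Q) ⧸ Subgroup.center ↥(EK Q)) =>
      (T : Subgroup (↥(EK Q) ⧸ Subgroup.center ↥(EK Q)))) hgb
    simp only [Sylow.coe_subgroup_smul, Subgroup.pointwise_smul_def] at h1
    exact h1.symm
  obtain ⟨g, rfl⟩ := hπ gb
  have hgu : Q (g • u) = 0 := by rw [EK_Q_smul]; exact hu
  refine ⟨g • u, EK_smul_ne_zero Q g u hu0, hgu, ?_⟩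
  have h2 : (rootGroup Q (g • u) hgu).map π
      ≤ ((S : Subgroup _).map π).map (MulAut.conj (π g)).toMonoidHom := by
    rintro x ⟨y, hy, rfl⟩
    obtain ⟨z, hz, rfl⟩ := (mem_rootGroup_smul_iff g hu hgu y).1 hy
    refine ⟨π z, ⟨z, hS hz, rfl⟩, ?_⟩
    simp [MulAut.conj_apply]
  calc (rootGroup Q (g • u) hgu).map π
      ≤ ((S : Subgroup _).map π).map (MulAut.conj (π g)).toMonoidHom := h2
    _ = ((S : Subgroup _).map π).map α.toMonoidHom := hsub.symm
    _ ≤ _ := Subgroup.map_mono (Subgroup.map_mono hstab)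

end Fin

end Cfsg.Agent.Helper90.OrthPermF1
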