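import Mathlib
import Cfsg.Agent.Lib.Helper82.BG1215b
import Cfsg.Agent.Lib.Helper22.Radical
import Cfsg.Agent.Lib.Helper76.EqOrd1

/-!
# Pure group-theoretic lemmas for the kill of configuration (Omega) of B-G Lemma 13.2 (S1428)

* `dvd_card_commutator_of_factor` (Lemma B): if `L = B N` with `B` normal in `L` of order prime
  to `p`, and `p` divides `|L'|`, then `p` divides `|N'|`.
* `factor_normalizer` (Lemma A): a Frattini-type factorisation `H = B N_H(X)`.
-/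

set_option autoImplicit false
open Pointwise
open scoped commutatorElement

namespace Cfsg.Agent.Helper90.BGOmega

open Subgroup Cfsg
open Cfsg.Agent.Helper33 (map_conj_eq_smul mem_conj_smul conj_mem_conj_smul conj_smul_le_iff
  mem_normalizer_iff_smul_eq smul_eq_of_mem_normalizer card_conj_smul conj_smul_le_conj_smul
  IsSylIn isSylIn_of_sylow exists_isSylIn_ge exists_isSylIn conj_inv_smul_smul conj_mul_smul
  normalizer_conj_smul relIndex_conj_smul isPGroup_conj_smul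
  conj_smul_le_iff_le_inv)

variable {G : Type*} [Group G]

/-- `H` normalizes its own derived subgroup (as subgroups of `G`). -/
theorem le_normalizer_commutator_self (H : Subgroup G) :
    H ≤ normalizer ((⁅H, H⁆ : Subgroup G) : Set G) := by
  have key : ∀ h ∈ H, ∀ x ∈ ⁅H, H⁆, h * x * h⁻¹ ∈ ⁅H, H⁆ := by
    intro h hh x hx
    have hxH : x ∈ H := Subgroup.commutator_le_self H hx
    have h1 : ⁅h, x⁆ ∈ ⁅H, H⁆ := Subgroup.commutator_mem_commutator hh hxH
    have h2 : h * x * h⁻¹ = ⁅h, x⁆ * x := by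
      simp [commutatorElement_def, mul_assoc]
    rw [h2]
    exact mul_mem h1 hx
  intro h hh
  rw [Subgroup.mem_normalizer_iff]
  intro x
  constructor
  · exact key h hh x
  · intro hx
    have := key h⁻¹ (H.inv_mem hh) _ hx
    simpa [mul_assoc] using this

/-- Lemma B: `L = B N`, `B` normalized by `L`, `p ∤ |B|`, `p ∣ |L'|` ⇒ `p ∣ |N'|`. -/
theorem dvd_card_commutator_of_factor [Finite G] {L B N : Subgroup G} {p : ℕ} (hp : p.Prime)
    (hn : L ≤ normalizer (B : Set G)) (hNL : N ≤ L)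
    (hdec : ∀ m ∈ L, ∃ b ∈ B, ∃ c ∈ N, m = b * c)
    (hpB : ¬ p ∣ Nat.card B) (hpL : p ∣ Nat.card ↥⁅L, L⁆) : p ∣ Nat.card ↥⁅N, N⁆ := by
  have hconjB : ∀ g ∈ L, ∀ b ∈ B, g * b * g⁻¹ ∈ B := by
    intro g hg b hb
    have := hn hg
    rw [Subgroup.mem_normalizer_iff] at this
    exact (this b).mp hb
  have hle : ⁅L, L⁆ ≤ B ⊔ ⁅N, N⁆ := by
    rw [Subgroup.commutator_le]
    intro g₁ hg₁ g₂ hg₂
    obtain ⟨b₁, hb₁, c₁, hc₁, rfl⟩ := hdec g₁ hg₁
    obtain ⟨b₂, hb₂, c₂, hc₂, rfl⟩ := hdec g₂ hg₂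
    have hc₁L : c₁ ∈ L := hNL hc₁
    have hc₂L : c₂ ∈ L := hNL hc₂
    have hcc : ⁅c₁, c₂⁆ ∈ ⁅N, N⁆ := Subgroup.commutator_mem_commutator hc₁ hc₂
    have hccL : ⁅c₁, c₂⁆ ∈ L := hNL (Subgroup.commutator_le_self N hcc)
    have e : ⁅b₁ * c₁, b₂ * c₂⁆ =
        (b₁ * (c₁ * b₂ * c₁⁻¹) * ((c₁ * c₂ * c₁⁻¹) * b₁⁻¹ * (c₁ * c₂ * c₁⁻¹)⁻¹) *
          (⁅c₁, c₂⁆ * b₂⁻¹ * ⁅c₁, c₂⁆⁻¹)) * ⁅c₁, c₂⁆ := by
      simp only [commutatorElement_def]
      group
    rw [e]
    refine mul_mem (Subgroup.mem_sup_left ?_) (Subgroup.mem_sup_right hcc)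
    refine mul_mem (mul_mem (mul_mem hb₁ (hconjB c₁ hc₁L b₂ hb₂)) ?_) ?_
    · exact hconjB _ (mul_mem (mul_mem hc₁L hc₂L) (L.inv_mem hc₁L)) _ (B.inv_mem hb₁)
    · exact hconjB _ hccL _ (B.inv_mem hb₂)
  have hN'B : ⁅N, N⁆ ≤ normalizer (B : Set G) :=
    (Subgroup.commutator_le_self N).trans (hNL.trans hn)
  have h1 : Nat.card ↥⁅L, L⁆ ∣ Nat.card (⁅N, N⁆ ⊔ B : Subgroup G) := by
    rw [sup_comm]
    exact Subgroup.card_dvd_of_le hle
  have h2 := Cfsg.Agent.Helper22.card_sup_dvd_of_le_normalizer hN'B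
  have h3 : p ∣ Nat.card ↥⁅N, N⁆ * Nat.card B := hpL.trans (h1.trans h2)
  rcases (Nat.Prime.dvd_mul hp).mp h3 with h | h
  · exact h
  · exact absurd h hpB

/-- a normal subgroup `B` and a subgroup `K` of `D` of coprime orders with `|D| = |K| |B|`
factorise `D`. -/
theorem dec_of_card [Finite G] {D B K : Subgroup G} (hBD : B ≤ D) (hKD : K ≤ D)
    (hcard : Nat.card D = Nat.card K * Nat.card B)
    (hcop : (Nat.card K).Coprime (Nat.card B)) :
    ∀ d ∈ D, ∃ b ∈ B, ∃ c ∈ K, d = b * c := by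
  have hc : Subgroup.IsComplement' (B.subgroupOf D) (K.subgroupOf D) := by
    apply Subgroup.isComplement'_of_coprime
    · rw [Cfsg.Agent.Helper22.card_subgroupOf_of_le hBD, Cfsg.Agent.Helper22.card_subgroupOf_of_le hKD, hcard, mul_comm]
    · rw [Cfsg.Agent.Helper22.card_subgroupOf_of_le hBD, Cfsg.Agent.Helper22.card_subgroupOf_of_le hKD]
      exact hcop.symm
  intro d hd
  obtain ⟨⟨⟨b, hb⟩, ⟨c, hc'⟩⟩, hbc, -⟩ := (Subgroup.isComplement_iff_existsUnique.mp hc) ⟨d, hd⟩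
  refine ⟨b, mem_subgroupOf.mp hb, c, mem_subgroupOf.mp hc', ?_⟩
  have := congrArg Subtype.val hbc
  simpa using this.symm

/-- Lemma A: a Frattini-type factorisation `H = B N_H(X)`, for `X` of prime order `q` inside a
normal solvable subgroup `D = B K1` of `H` with `K1` nilpotent, when the `q`-subgroups of `D`
are cyclic. -/
theorem factor_normalizer [Finite G] {H D B K1 X : Subgroup G} {q : ℕ} [hq : Fact q.Prime]
    (hDH : D ≤ H) (hnD : H ≤ normalizer (D : Set G)) (hDsol : Group.IsSolvable D)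
    (hBD : B ≤ D) (hnB : H ≤ normalizer (B : Set G))
    (hK1D : K1 ≤ D) (hK1nil : Group.IsNilpotent K1)
    (hcard : Nat.card D = Nat.card K1 * Nat.card B)
    (hcop : (Nat.card K1).Coprime (Nat.card B))
    (hXD : X ≤ D) (hX : Nat.card X = q) (hqB : ¬ q ∣ Nat.card B)
    (hcyc : ∀ Q : Subgroup G, Q ≤ D → IsPGroup q Q → IsCyclic Q) :
    ∀ h ∈ H, ∃ b ∈ B, ∃ n ∈ H ⊓ normalizer (X : Set G), h = b * n := by
  classical
  have hBpos : 0 < Nat.card B := Nat.card_pos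
  have hrel : B.relIndex D = Nat.card K1 := by
    have h1 := Cfsg.Agent.Helper82.BG1215.card_eq_relIndex_mul hBD
    rw [hcard] at h1
    exact (Nat.eq_of_mul_eq_mul_right hBpos h1).symm
  have hcopBD : (Nat.card B).Coprime (B.relIndex D) := by rw [hrel]; exact hcop.symm
  have hXq : IsPGroup q X := IsPGroup.of_card (n := 1) (by rw [hX, pow_one])
  have hXB : (Nat.card X).Coprime (Nat.card B) := by
    rw [hX]; exact (Nat.Prime.coprime_iff_not_dvd hq.out).mpr hqB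
  have hdec1 := dec_of_card hBD hK1D hcard hcop
  -- conjugate `X` into `K1`
  obtain ⟨k, hkD, hkX⟩ := Cfsg.Agent.Helper82.BG1215.exists_conj_le_of_dec hDsol hBD
    (hDH.trans hnB) hK1D hdec1 hcopBD hXD hXB
  set K2 : Subgroup G := MulAut.conj k⁻¹ • K1 with hK2def
  have hXK2 : X ≤ K2 := by
    have := conj_smul_le_iff_le_inv.mp hkX
    exact this
  have hK2D : K2 ≤ D := by
    calc K2 ≤ MulAut.conj k⁻¹ • D := conj_smul_le_conj_smul hK1D
      _ = D := Cfsg.Agent.Helper33.conj_smul_eq_self_of_mem (D.inv_mem hkD)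
  have hK2card : Nat.card K2 = Nat.card K1 := card_conj_smul _ _
  have hK2nil : Group.IsNilpotent K2 :=
    (Group.isNilpotent_congr (Subgroup.equivSMul (MulAut.conj k⁻¹) K1)).mp hK1nil
  have hdec2 := dec_of_card hBD hK2D (by rw [hK2card]; exact hcard) (by rw [hK2card]; exact hcop)
  -- the normalizer of `K2` normalizes `X`
  obtain ⟨T, hT, hXT⟩ := exists_isSylIn_ge hXq hXK2
  have hTcyc : IsCyclic T := hcyc T (hT.1.trans hK2D) hT.2.1
  have hK2T : K2 ≤ normalizer (T : Set G) :=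
    Cfsg.Agent.Helper82.BG1215.le_normalizer_of_isSylIn_nilpotent hK2nil hT
  have hNK2 : normalizer (K2 : Set G) ≤ normalizer (X : Set G) := by
    intro g hg
    rw [mem_normalizer_iff_smul_eq]
    have hX'K2 : MulAut.conj g • X ≤ K2 := by
      calc MulAut.conj g • X ≤ MulAut.conj g • K2 := conj_smul_le_conj_smul hXK2
        _ = K2 := smul_eq_of_mem_normalizer hg
    obtain ⟨x, hx, hxle⟩ := hT.exists_conj_le (isPGroup_conj_smul (g := g) hXq) hX'K2
    have hX'T : MulAut.conj g • X ≤ T := by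
      have h1 := conj_smul_le_iff_le_inv.mp hxle
      rwa [smul_eq_of_mem_normalizer (hK2T (K2.inv_mem hx))] at h1
    exact Cfsg.Agent.Helper76.EqOrd.eq_of_card_eq_of_le_isCyclic T _ _ hX'T hXT
      (card_conj_smul g X)
  -- Frattini
  intro h hh
  have hYD : MulAut.conj h • K2 ≤ D := by
    calc MulAut.conj h • K2 ≤ MulAut.conj h • D := conj_smul_le_conj_smul hK2D
      _ = D := smul_eq_of_mem_normalizer (hnD hh)
  have hYB : (Nat.card (MulAut.conj h • K2 : Subgroup G)).Coprime (Nat.card B) := by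
    rw [card_conj_smul, hK2card]; exact hcop
  obtain ⟨k', hk'D, hk'le⟩ := Cfsg.Agent.Helper82.BG1215.exists_conj_le_of_dec hDsol hBD
    (hDH.trans hnB) hK2D hdec2 hcopBD hYD hYB
  have hk'eq : MulAut.conj (k' * h) • K2 = K2 := by
    rw [conj_mul_smul]
    apply Subgroup.eq_of_le_of_card_ge hk'le
    rw [card_conj_smul k', card_conj_smul h]
  have hk'h : k' * h ∈ normalizer (X : Set G) := hNK2 (mem_normalizer_iff_smul_eq.mpr hk'eq)
  obtain ⟨b, hb, c, hc, hbc⟩ := hdec2 k'⁻¹ (D.inv_mem hk'D)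
  refine ⟨b, hb, c * (k' * h), ⟨?_, ?_⟩, ?_⟩
  · exact mul_mem (hDH (hK2D hc)) (mul_mem (hDH hk'D) hh)
  · exact mul_mem (hNK2 (le_normalizer hc)) hk'h
  · rw [← mul_assoc, ← hbc]
    group

end Cfsg.Agent.Helper90.BGOmega
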