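import Mathlib
import Cfsg.Agent.Lib.Helper90.BGOmegaA
import Cfsg.Agent.Lib.Helper82.BG1215d

/-!
# Configuration (Omega) of B-G Lemma 13.2 (S1428) is impossible

`omega_false_of`: relative to the earlier rows (as hypotheses in the style of
`Cfsg.Agent.Helper82.BG1215`), there are no maximal subgroups `M`, `H`, primes `p`, `q`, and
subgroups `P`, `X` of `M` of orders `p`, `q` with `[P, X] = 1`, `p ∤ |M'|`,
`p ∈ σ(H) - β(H)`, `q ∈ σ(M) ∩ τ₃(H)`, `X ≤ H'`.
-/

set_option autoImplicit false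
open Pointwise

namespace Cfsg.Agent.Helper90.BGOmega

open Subgroup Cfsg
open Cfsg.Agent.Helper33 (map_conj_eq_smul mem_conj_smul conj_mem_conj_smul conj_smul_le_iff
  mem_normalizer_iff_smul_eq smul_eq_of_mem_normalizer card_conj_smul conj_smul_le_conj_smul
  IsSylIn isSylIn_of_sylow exists_isSylIn_ge exists_isSylIn conj_inv_smul_smul conj_mul_smul
  normalizer_conj_smul relIndex_conj_smul isPGroup_conj_smul)
open Cfsg.Agent.Helper34.BG
open Cfsg.Agent.Helper55.BGB (le_sigmaCore_of_isPGroup le_normalizer_sigmaCore sigmaCore_le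
  isPi_sigmaCore le_normalizer_map_subtype)
open Cfsg.Agent.Helper82.BG1215

variable {G : Type*} [Group G]

/-- S1414 (part 3): `M'` has a nilpotent Hall `β(M)'`-subgroup. -/
def H1414c (G : Type*) [Group G] : Prop :=
  ∀ M : Subgroup G, IsCoatom M →
    ∃ K : Subgroup G, IsPiHallOf {q | q.Prime ∧ q ∉ beta M} K ⁅M, M⁆ ∧ Group.IsNilpotent K

/-- orders of complementary Hall subgroups multiply to the group order. -/
theorem card_eq_mul_of_hall [Finite G] {D B K : Subgroup G} {π : Set ℕ} (hBD : B ≤ D)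
    (hKD : K ≤ D)
    (hB1 : ∀ r : ℕ, r.Prime → r ∣ Nat.card B → r ∈ π)
    (hB2 : ∀ r : ℕ, r.Prime → r ∈ π → ¬ r ∣ B.relIndex D)
    (hK1 : ∀ r : ℕ, r.Prime → r ∣ Nat.card K → r ∉ π)
    (hK2 : ∀ r : ℕ, r.Prime → r ∉ π → ¬ r ∣ K.relIndex D) :
    Nat.card D = Nat.card K * Nat.card B ∧ (Nat.card K).Coprime (Nat.card B) := by
  have hcop : (Nat.card K).Coprime (Nat.card B) :=
    Nat.coprime_of_dvd fun r hr h1 h2 => hK1 r hr h1 (hB1 r hr h2)
  have e1 : Nat.card D = B.relIndex D * Nat.card B := card_eq_relIndex_mul hBD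
  have e2 : Nat.card D = K.relIndex D * Nat.card K := card_eq_relIndex_mul hKD
  have hk_i : Nat.card K ∣ B.relIndex D := by
    have : Nat.card K ∣ B.relIndex D * Nat.card B := by
      rw [← e1, e2]; exact dvd_mul_left _ _
    exact hcop.dvd_of_dvd_mul_right this
  have ha_j : Nat.card B ∣ K.relIndex D := by
    have : Nat.card B ∣ K.relIndex D * Nat.card K := by
      rw [← e2, e1]; exact dvd_mul_left _ _
    exact hcop.symm.dvd_of_dvd_mul_right this
  obtain ⟨i', hi'⟩ := hk_i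
  obtain ⟨j', hj'⟩ := ha_j
  have hKpos : 0 < Nat.card K := Nat.card_pos
  have hBpos : 0 < Nat.card B := Nat.card_pos
  have hij : i' = j' := by
    have h : Nat.card K * Nat.card B * i' = Nat.card K * Nat.card B * j' := by
      have h1 : Nat.card K * i' * Nat.card B = Nat.card B * j' * Nat.card K := by
        rw [← hi', ← hj', ← e1, ← e2]
      nlinarith [h1]
    exact Nat.eq_of_mul_eq_mul_left (Nat.mul_pos hKpos hBpos) h
  have hi1 : i' = 1 := by
    by_contra hne
    obtain ⟨r, hr, hrd⟩ := Nat.exists_prime_and_dvd hne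
    have hri : r ∣ B.relIndex D := by rw [hi']; exact Dvd.dvd.mul_left hrd _
    have hrj : r ∣ K.relIndex D := by rw [hj', ← hij]; exact Dvd.dvd.mul_left hrd _
    have hrπ : r ∈ π := by
      by_contra h
      exact hK2 r hr h hrj
    exact hB2 r hr hrπ hri
  refine ⟨?_, hcop⟩
  rw [e1, hi', hi1, mul_one]

/-- Part I: in configuration (Omega), `p` divides `|N'|` for `N = N_H(X)`. -/
theorem dvd_card_commutator_normalizer [Finite G] (hG : IsMinSimpleOddOrder G) (hU : UniqHyp G)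
    (h1350 : H1350 G) (h1414 : H1414 G) (h1414c : H1414c G)
    (H : Subgroup G) (hH : IsCoatom H) (p q : ℕ) [hp : Fact p.Prime] [hq : Fact q.Prime]
    (hpH : p ∈ sigma H) (hpβ : p ∉ beta H) (X : Subgroup G)
    (hX : Nat.card X = q) (hqH : q ∈ tau3 H) (hXH : X ≤ ⁅H, H⁆) :
    p ∣ Nat.card ↥⁅H ⊓ normalizer (X : Set G), H ⊓ normalizer (X : Set G)⁆ := by
  classical
  obtain ⟨hBhall, -⟩ := h1414 H hH
  obtain ⟨K1, hK1hall, hK1nil⟩ := h1414c H hH
  obtain ⟨hHs, -⟩ := h1350 H hH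
  set B : Subgroup G := piCoreOf (beta H) H with hBdef
  set D : Subgroup G := ⁅H, H⁆ with hDdef
  have hDH : D ≤ H := Subgroup.commutator_le_self H
  have hBσ : B ≤ sigmaCore H :=
    le_sigmaCore_of_pi hHs hBhall.1
      (fun r hr hrd => alpha_subset_sigma hG hU hH (hBhall.2.1 r hr hrd).1)
  have hBD : B ≤ D := hBσ.trans (sigmaCore_le_commutator hG hU hH)
  have hnB : H ≤ normalizer (B : Set G) := by
    rw [hBdef]
    unfold piCoreOf
    exact le_normalizer_map_subtype H (piCore (beta H) H)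
  have hnD : H ≤ normalizer (D : Set G) := le_normalizer_commutator_self H
  have hHsol : Group.IsSolvable H := solvable_of_ne_top hG hH.1
  have hDsol : Group.IsSolvable D := solvable_of_le hHsol hDH
  have hB2 : ∀ r : ℕ, r.Prime → r ∈ beta H → ¬ r ∣ B.relIndex D := by
    intro r hr hrβ hrd
    apply hBhall.2.2 r hr hrβ
    rw [← Subgroup.relIndex_mul_relIndex B D H hBD hDH]
    exact Dvd.dvd.mul_right hrd _
  obtain ⟨hcard, hcop⟩ := card_eq_mul_of_hall (π := beta H) hBD hK1hall.1 hBhall.2.1 hB2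
    (fun r hr hrd => (hK1hall.2.1 r hr hrd).2)
    (fun r hr hrβ => hK1hall.2.2 r hr ⟨hr, hrβ⟩)
  have hqβ : q ∉ beta H := fun h => hqH.2.1 (alpha_subset_sigma hG hU hH h.1)
  have hqB : ¬ q ∣ Nat.card B := fun h => hqβ (hBhall.2.1 q hq.out h)
  have hpB : ¬ p ∣ Nat.card B := fun h => hpβ (hBhall.2.1 p hp.out h)
  have hqD : q ∣ Nat.card D := hqH.2.2.1
  have hqHd : q ∣ Nat.card H := hqD.trans (Subgroup.card_dvd_of_le hDH)
  have hq2 : q ≠ 2 := prime_ne_two hG H hqHd
  have hcyc : ∀ Q : Subgroup G, Q ≤ D → IsPGroup q Q → IsCyclic Q := by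
    intro Q hQD hQ
    exact isCyclic_of_pRankLE_one hq2 hQ (pRankLE_mono (hQD.trans hDH) hqH.2.2.2)
  have hdecH := factor_normalizer hDH hnD hDsol hBD hnB hK1hall.1 hK1nil hcard hcop hXH hX hqB
    hcyc
  have hpD : p ∣ Nat.card D := by
    have h1 : p ∣ Nat.card H := hpH.2.1
    have h2 : ¬ p ∣ D.relIndex H := not_dvd_relIndex_commutator_of_sigma hG hU hH hpH
    rw [card_eq_relIndex_mul hDH] at h1
    rcases (Nat.Prime.dvd_mul hp.out).mp h1 with h | h
    · exact absurd h h2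
    · exact h
  exact dvd_card_commutator_of_factor hp.out hnB inf_le_left hdecH hpB hpD

/-- Configuration (Omega) is impossible. -/
theorem omega_false_of [Finite G] (hG : IsMinSimpleOddOrder G) (hU : UniqHyp G)
    (h1350 : H1350 G) (h1414 : H1414 G) (h1414c : H1414c G) (h1417 : H1417 G)
    (h1420 : H1420 G) (h1424 : H1424 G)
    (M H : Subgroup G) (hM : IsCoatom M) (hH : IsCoatom H) (p q : ℕ) [hp : Fact p.Prime]
    [hq : Fact q.Prime] (hpM' : ¬ p ∣ Nat.card ↥⁅M, M⁆) (P : Subgroup G) (hPM : P ≤ M)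
    (hP : Nat.card P = p) (hpH : p ∈ sigma H) (hpβ : p ∉ beta H) (hqM : q ∈ sigma M)
    (X : Subgroup G) (hXM : X ≤ M) (hX : Nat.card X = q)
    (hPX : P ≤ centralizer (X : Set G)) (hqH : q ∈ tau3 H) (hXH : X ≤ ⁅H, H⁆) : False := by
  classical
  have hpN := dvd_card_commutator_normalizer hG hU h1350 h1414 h1414c H hH p q hpH hpβ X hX hqH
    hXH
  have hXq : IsPGroup q X := IsPGroup.of_card (n := 1) (by rw [hX, pow_one])
  have hPp : IsPGroup p P := IsPGroup.of_card (n := 1) (by rw [hP, pow_one])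
  have hXne : X ≠ ⊥ := by
    intro h
    have h1 : Nat.card X = 1 := by rw [h]; exact Subgroup.card_bot
    rw [hX] at h1
    exact hq.out.one_lt.ne' h1
  have hPne : P ≠ ⊥ := by
    intro h
    have h1 : Nat.card P = 1 := by rw [h]; exact Subgroup.card_bot
    rw [hP] at h1
    exact hp.out.one_lt.ne' h1
  have hXtop : X ≠ ⊤ := ne_top_of_le_coatom hM hXM
  obtain ⟨L, hL, hNL⟩ := exists_coatom_ge (normalizer_ne_top hG hXne hXtop)
  -- `p` divides `|L'|`
  have hpL : p ∣ Nat.card ↥⁅L, L⁆ := by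
    have hle : H ⊓ normalizer (X : Set G) ≤ L := inf_le_right.trans hNL
    exact hpN.trans (Subgroup.card_dvd_of_le (Subgroup.commutator_mono hle hle))
  by_cases hne : L = M
  · subst hne
    exact hpM' hpL
  have hXL : X ≤ L := le_normalizer.trans hNL
  have hPL : P ≤ L := (hPX.trans (Subgroup.centralizer_le_normalizer _)).trans hNL
  have hXI : X ≤ M ⊓ L := le_inf hXM hXL
  have hXsub : IsPGroup q (X.subgroupOf (M ⊓ L)) := hXq.comap_subtype
  obtain ⟨S, hS⟩ := hXsub.exists_le_sylow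
  set Sg : Subgroup G := (S : Subgroup ↥(M ⊓ L)).map (M ⊓ L).subtype with hSgdef
  have hXS : X ≤ Sg := by
    intro x hx
    exact ⟨⟨x, hXI hx⟩, hS (mem_subgroupOf.mpr hx), rfl⟩
  obtain ⟨hconj, hNS, hSidx⟩ := h1424 M hM q hqM X hXq hXne hXM L hL hne hNL S hXS
  have hSgI : IsSylIn q Sg (M ⊓ L) := isSylIn_of_sylow (M ⊓ L) S
  have hSgM : Sg ≤ M := hSgI.1.trans inf_le_left
  have hSg : IsSylIn q Sg L := ⟨hSgI.1.trans inf_le_right, hSgI.2.1, hSidx⟩
  -- the common endgame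
  have hend : ∀ B : Subgroup G, L ≤ normalizer (B : Set G) → ¬ p ∣ Nat.card B →
      (∀ m ∈ L, ∃ b ∈ B, ∃ c ∈ M ⊓ L, m = b * c) → False := by
    intro B hnB hpB hdec
    have h1 : p ∣ Nat.card ↥⁅M ⊓ L, M ⊓ L⁆ :=
      dvd_card_commutator_of_factor hp.out hnB inf_le_right hdec hpB hpL
    exact hpM' (h1.trans (Subgroup.card_dvd_of_le
      (Subgroup.commutator_mono inf_le_left inf_le_left)))
  obtain ⟨hLs, hLsG⟩ := h1350 L hL
  by_cases hqs : q ∈ sigma L
  · -- case B
    obtain ⟨hdec, -⟩ := caseB hG hU h1350 h1414 hM hL hne hqs hSg hSgM hNS hconj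
    obtain ⟨hBhall, -⟩ := h1414 L hL
    have hBn : L ≤ normalizer ((piCoreOf (beta L) L : Subgroup G) : Set G) := by
      unfold piCoreOf
      exact le_normalizer_map_subtype L (piCore (beta L) L)
    refine hend _ hBn ?_ hdec
    intro hpd
    have hpβL : p ∈ beta L := hBhall.2.1 p hp.out hpd
    apply hpβ
    refine ⟨⟨hp.out, ?_⟩, hpβL.2⟩
    -- `H` has `p`-rank at least 3
    intro hr2
    obtain ⟨E, hE, hEc⟩ := exists_elemAb_of_not_pRankLE_top hpβL.2.2.1
    obtain ⟨T, hT⟩ := exists_isSylIn (p := p) H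
    obtain ⟨hHs, hHsG⟩ := h1350 H hH
    have hTtop := isSylIn_top_of_sigma hHs hHsG hpH hT
    obtain ⟨x, -, hx⟩ := hTtop.exists_conj_le (isElementaryAbelian_isPGroup hE) le_top
    exact not_pRankLE_of_elemAb (hx.trans hT.1) (isElementaryAbelian_conj hE x)
      (by rw [card_conj_smul]; exact hEc) hr2
  · -- case A
    have hScyc : ¬ IsCyclic Sg := by
      intro hcyc
      apply hqs
      refine mem_sigma_of_isSylIn hSg (dvd_card_of_isPGroup_le hXq hXne hXL) ?_
      intro g hg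
      apply hNL
      rw [mem_normalizer_iff_smul_eq, ← map_conj_eq_smul]
      apply Cfsg.Agent.Helper55.BGB.map_conj_eq_of_le_cyclic hcyc hXS g
      rw [map_conj_eq_smul]
      calc MulAut.conj g • X ≤ MulAut.conj g • Sg := conj_smul_le_conj_smul hXS
        _ = Sg := smul_eq_of_mem_normalizer hg
    obtain ⟨hdec, -⟩ := caseA hG hU h1350 h1417 h1420 hM hL hne hqM hqs hSg hSgM hScyc hconj
    -- `L_σ ∩ M = 1`
    have hqdvd : q ∣ Nat.card L := dvd_card_of_isPGroup_le hXq hXne hXL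
    have hq2 : q ≠ 2 := prime_ne_two hG L hqdvd
    have hr2 : PRankLE q 2 L := by
      by_contra h
      exact hqs (alpha_subset_sigma hG hU hL ⟨hq.out, h⟩)
    have hr1S : ¬ PRankLE q 1 Sg := fun h => hScyc (isCyclic_of_pRankLE_one hq2 hSg.2.1 h)
    have hr1 : ¬ PRankLE q 1 L := fun h => hr1S (pRankLE_mono hSg.1 h)
    have hτ : q ∈ tau2 L := ⟨hq.out, hqs, hr2, hr1⟩
    obtain ⟨A1, hA1S, hA1e, hA1c⟩ := exists_elemAb_of_not_pRankLE hr1S
    obtain ⟨A0, hA0A1, hA0e, hA0c⟩ := exists_elemAb_card_eq hA1e hA1c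
    have hA0c' : Nat.card A0 = q ^ 2 := by simpa using hA0c
    have hA0S : A0 ≤ Sg := hA0A1.trans hA1S
    obtain ⟨-, -, -, he⟩ := h1417 L hL q hτ A0 ⟨hA0S.trans hSg.1, hA0e, hA0c'⟩
    have hLM : sigmaCore L ⊓ M = ⊥ := he M hM (Ne.symm hne) (hA0S.trans hSgM)
    refine hend _ (le_normalizer_sigmaCore L) ?_ hdec
    intro hpd
    have hpσL : p ∈ sigma L := isPi_sigmaCore L p hp.out hpd
    have hPσ : P ≤ sigmaCore L := le_sigmaCore_of_isPGroup hp.out hLs hpσL hPL hPp
    apply hPne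
    rw [eq_bot_iff, ← hLM]
    exact le_inf hPσ hPM

end Cfsg.Agent.Helper90.BGOmega
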