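import Mathlib
import Cfsg.Agent.S1350
import Cfsg.Agent.S1403
import Cfsg.Agent.S1414
import Cfsg.Agent.S1417
import Cfsg.Agent.S1420
import Cfsg.Agent.S1424
import Cfsg.Agent.Lib.Helper90.BGOmegaB

/-!
# Configuration (Omega) of B-G Lemma 13.2 (S1428) is impossible: unconditional form

`omega_false`: `omega_false_of` with its hypotheses discharged by the rows
S1350, S1403, S1414, S1417, S1420, S1424.
-/

set_option autoImplicit false

namespace Cfsg.Agent.Helper90.BGOmega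

open Subgroup Cfsg

/-- There are no maximal subgroups `M`, `H` of a minimal simple group of odd order, primes `p`,
`q`, and subgroups `P`, `X` of `M` of orders `p`, `q` with `[P, X] = 1`, `p ∤ |M'|`,
`p ∈ σ(H) - β(H)`, `q ∈ σ(M) ∩ τ₃(H)`, `X ≤ H'`. -/
theorem omega_false {G : Type*} [Group G] [Finite G] (hG : IsMinSimpleOddOrder G)
    (M H : Subgroup G) (hM : IsCoatom M) (hH : IsCoatom H) (p q : ℕ) [Fact p.Prime]
    [Fact q.Prime] (hpM' : ¬ p ∣ Nat.card ↥⁅M, M⁆) (P : Subgroup G) (hPM : P ≤ M)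
    (hP : Nat.card P = p) (hpH : p ∈ sigma H) (hpβ : p ∉ beta H) (hqM : q ∈ sigma M)
    (X : Subgroup G) (hXM : X ≤ M) (hX : Nat.card X = q)
    (hPX : P ≤ centralizer (X : Set G)) (hqH : q ∈ tau3 H) (hXH : X ≤ ⁅H, H⁆) : False := by
  have hU : Cfsg.Agent.Helper34.BG.UniqHyp G :=
    fun K hK h1 h2 => Cfsg.Agent.S1403.result hG K hK h1 h2
  have h1350 : Cfsg.Agent.Helper82.BG1215.H1350 G := fun L hL =>
    ⟨(Cfsg.Agent.S1350.result hG L hL).1, (Cfsg.Agent.S1350.result hG L hL).2.1⟩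
  have h1414 : Cfsg.Agent.Helper82.BG1215.H1414 G := fun L hL =>
    ⟨(Cfsg.Agent.S1414.result hG L hL).1, (Cfsg.Agent.S1414.result hG L hL).2.2.2.1⟩
  have h1414c : H1414c G := fun L hL => (Cfsg.Agent.S1414.result hG L hL).2.2.1
  have h1417 : Cfsg.Agent.Helper82.BG1215.H1417 G := by
    intro L hL p _ hp A hA
    obtain ⟨h1, h2, h3, -, h5, -⟩ := Cfsg.Agent.S1417.result hG L hL p hp A hA
    exact ⟨h1, fun P hAP => ((h2 P).2 hAP).1, h3, h5⟩
  have h1420 : Cfsg.Agent.Helper82.BG1215.H1420 G := by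
    intro L hL
    obtain ⟨E, hE⟩ := Cfsg.Agent.Helper55.BGB.exists_compl_sigmaCore (h1350 L hL).1
    exact (Cfsg.Agent.S1420.result hG L hL E hE).2.2.1
  have h1424 : Cfsg.Agent.Helper82.BG1215.H1424 G := by
    intro L hL q _ hq X hXq hX1 hXM Ls hLs hne hNX S hXS
    exact Cfsg.Agent.S1424.result hG L hL q hq X hXq hX1 hXM Ls hLs hne hNX S hXS
  exact omega_false_of hG hU h1350 h1414 h1414c h1417 h1420 h1424 M H hM hH p q hpM' P hPM hP
    hpH hpβ hqM X hXM hX hPX hqH hXH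

end Cfsg.Agent.Helper90.BGOmega
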