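import Mathlib
import Cfsg.Agent.Lib.Helper24.CYCDefs

/-!
CYC server (helper24, S4016), piece (C10): in a `Min` group, `p'`-elements normalising a `p'`-subgroup centralise it.
Also the generic tool `card_zpowers_sup_dvd`.
-/

set_option autoImplicit false

namespace Cfsg.Agent.Helper90.CYC

open Subgroup Cfsg.Agent.Helper24.CYC

universe u

variable {G : Type u} [Group G] [Finite G] {p : ℕ} [Fact p.Prime]

omit [Finite G] in
/-- If `Z` normalises `R` then `|Z ⊔ R|` divides `|Z| * |R|`. -/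
theorem card_sup_dvd_of_le_normalizer (Z R : Subgroup G) (hZ : Z ≤ Subgroup.normalizer (R : Set G)) :
    Nat.card (Z ⊔ R : Subgroup G) ∣ Nat.card Z * Nat.card R := by
  classical
  set N : Subgroup G := Subgroup.normalizer (R : Set G) with hN
  have hRN : R ≤ N := Subgroup.le_normalizer
  have hsupN : Z ⊔ R ≤ N := sup_le hZ hRN
  let R' : Subgroup N := R.subgroupOf N
  let Z' : Subgroup N := Z.subgroupOf N
  have hnorm : R'.Normal := Subgroup.normal_in_normalizer
  have h1 : R'.relIndex (Z' ⊔ R') = R'.relIndex Z' := Subgroup.relIndex_sup_right Z' R'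
  have h2 : R'.relIndex Z' ∣ Nat.card Z' := Subgroup.relIndex_dvd_card R' Z'
  have h3 : (⊥ : Subgroup N).relIndex R' * R'.relIndex (Z' ⊔ R') = (⊥ : Subgroup N).relIndex (Z' ⊔ R') :=
    Subgroup.relIndex_mul_relIndex ⊥ R' (Z' ⊔ R') bot_le le_sup_right
  rw [Subgroup.relIndex_bot_left, Subgroup.relIndex_bot_left] at h3
  have hcR : Nat.card R' = Nat.card R := Nat.card_congr (Subgroup.subgroupOfEquivOfLe hRN).toEquiv
  have hcZ : Nat.card Z' = Nat.card Z := Nat.card_congr (Subgroup.subgroupOfEquivOfLe hZ).toEquiv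
  have hsup : Z' ⊔ R' = (Z ⊔ R).subgroupOf N := by
    rw [Subgroup.subgroupOf_sup hZ hRN]
  have hcS : Nat.card (Z' ⊔ R' : Subgroup N) = Nat.card (Z ⊔ R : Subgroup G) := by
    rw [hsup]
    exact Nat.card_congr (Subgroup.subgroupOfEquivOfLe hsupN).toEquiv
  rw [← hcS, ← h3, h1, hcR, mul_comm]
  exact Nat.mul_dvd_mul_right (hcZ ▸ h2) _

/-- (C10) `p'`-elements normalising a `p'`-subgroup `R` centralise it: `⟨y⟩R` is a `p'`-group (order divides `o(y)|R|`), abelian. -/
theorem pcent_of_min (hM : Min p G) (R : Subgroup G) (hR : ¬ p ∣ Nat.card R) (y : G) (hy : y ∈ nrm R)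
    (hyp : (orderOf y).Coprime p) : y ∈ ctr R := by
  have hp : p.Prime := Fact.out
  have hZ : Subgroup.zpowers y ≤ Subgroup.normalizer (R : Set G) := by
    rw [Subgroup.zpowers_le]; exact hy
  have hdvd := card_sup_dvd_of_le_normalizer (Subgroup.zpowers y) R hZ
  have hH : ¬ p ∣ Nat.card (Subgroup.zpowers y ⊔ R : Subgroup G) := by
    intro h
    have h2 := h.trans hdvd
    rcases (Nat.Prime.dvd_mul hp).1 h2 with h3 | h3
    · rw [Nat.card_zpowers] at h3
      have := Nat.Coprime.eq_one_of_dvd hyp.symm h3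
      exact hp.one_lt.ne' this
    · exact hR h3
  have hab := hM.ab _ hH
  rw [Subgroup.mem_centralizer_iff]
  intro r hr
  have hyH : y ∈ (Subgroup.zpowers y ⊔ R : Subgroup G) :=
    (le_sup_left : Subgroup.zpowers y ≤ _) (Subgroup.mem_zpowers y)
  have hrH : r ∈ (Subgroup.zpowers y ⊔ R : Subgroup G) := (le_sup_right : R ≤ _) hr
  exact hab r hrH y hyH

end Cfsg.Agent.Helper90.CYC
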