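import Mathlib
import Cfsg.Agent.Lib.Helper64.S4017Defs
import Cfsg.Agent.Lib.Helper54.Solv

/-!
S4017M server (helper64, S4017), piece (HGEN): generic Lemma H.

Route WITHOUT induction: `K = O_{p'}(H)` is a normal `2`-subgroup, so `K ≤ Q`; if `K ≠ 1` transitivity gives `Q = K ⊴ H`.
If `K = 1`, Hall-Higman `C_H(O_p(H)) ≤ O_p(H)` (`Helper54.centralizer_pCore_le`, on main) and abelian Sylow `p`-subgroups give
`O_p(H)` = the Sylow `p`-subgroup, `x ∈ O_p(H)`, `[Q, x] ≤ Q ∩ O_p(H) = 1`, contradicting transitivity as `|Q| ≥ 4`.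
-/

set_option autoImplicit false

namespace Cfsg.Agent.Helper90.S4017M

open Cfsg.Agent.Helper64.S4017

/-- (HGEN) generic Lemma H. -/
theorem normal_of_transitive {H : Type*} [Group H] [Finite H] (hsolv : Group.IsSolvable H)
    {a p : ℕ} (hp : p.Prime) (hp2 : p ≠ 2) (ha : 2 ≤ a)
    (Q : Subgroup H) (hcard : Nat.card Q = 2 ^ a) (hsyl : ¬ 2 ^ (a + 1) ∣ Nat.card H)
    (hord : ∀ r : ℕ, r.Prime → r ∣ Nat.card H → r = 2 ∨ r = p)
    (habel : ∀ P : Sylow p H, ∀ g ∈ P, ∀ h ∈ P, g * h = h * g)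
    (x : H) (hx : ∀ s ∈ Q, x * s * x⁻¹ ∈ Q) (hxp : IsPel p x)
    (htrans : ∀ t ∈ Q, t ≠ 1 → ∀ s ∈ Q, s ≠ 1 → ∃ i : ℕ, x ^ i * t * (x ^ i)⁻¹ = s) :
    Q.Normal := by
  classical
  have : Fact p.Prime := ⟨hp⟩
  have : Fact (Nat.Prime 2) := ⟨Nat.prime_two⟩
  have hQ2 : IsPGroup 2 Q := IsPGroup.of_card hcard
  have hKn : (Cfsg.pPrimeCore p H).Normal := inferInstance
  have hKcop : (Nat.card (Cfsg.pPrimeCore p H)).Coprime p := Cfsg.Agent.Helper54.pPrimeCore_coprime p
  -- `K = O_{p'}(H)` is a `2`-group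
  have hK2 : IsPGroup 2 (Cfsg.pPrimeCore p H) := by
    have hq : ∀ {r : ℕ}, r.Prime → r ∣ Nat.card (Cfsg.pPrimeCore p H) → r = 2 := by
      intro r hr hdvd
      rcases hord r hr (hdvd.trans (Subgroup.card_subgroup_dvd_card _)) with h | h
      · exact h
      · exfalso
        rw [h] at hdvd
        exact hp.one_lt.ne' (Nat.Coprime.eq_one_of_dvd hKcop.symm hdvd)
    exact IsPGroup.of_card (Nat.eq_prime_pow_of_unique_prime_dvd Nat.card_pos.ne' hq)
  -- `K ≤ Q`
  have hKQ : Cfsg.pPrimeCore p H ≤ Q := by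
    have hsup2 : IsPGroup 2 (Cfsg.pPrimeCore p H ⊔ Q : Subgroup H) := hK2.to_sup_of_normal_left hQ2
    obtain ⟨n, hn⟩ := IsPGroup.iff_card.1 hsup2
    have hle : Q ≤ Cfsg.pPrimeCore p H ⊔ Q := le_sup_right
    have hdvd : 2 ^ n ∣ Nat.card H := hn ▸ Subgroup.card_subgroup_dvd_card _
    have hna : n ≤ a := by
      by_contra hlt
      push Not at hlt
      exact hsyl ((pow_dvd_pow 2 hlt).trans hdvd)
    have hcardle : Nat.card (Cfsg.pPrimeCore p H ⊔ Q : Subgroup H) ≤ Nat.card Q := by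
      rw [hn, hcard]; exact Nat.pow_le_pow_right (by norm_num) hna
    have heq : Q = Cfsg.pPrimeCore p H ⊔ Q := Subgroup.eq_of_le_of_card_ge hle hcardle
    rw [heq]; exact le_sup_left
  by_cases hKbot : Cfsg.pPrimeCore p H = ⊥
  · exfalso
    have hcent := Cfsg.Agent.Helper54.centralizer_pCore_le (G := H) p hKbot
    have hAn : (Cfsg.pCore p H).Normal := inferInstance
    have hAp : IsPGroup p (Cfsg.pCore p H) := Cfsg.Agent.Helper54.isPGroup_pCore
    -- `x ∈ O_p(H)`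
    have hxA : x ∈ Cfsg.pCore p H := by
      obtain ⟨j, hj⟩ := hxp
      have hzp : IsPGroup p (Subgroup.zpowers x) := by
        apply IsPGroup.of_card (n := j)
        rw [Nat.card_zpowers, hj]
      obtain ⟨P, hP⟩ := hzp.exists_le_sylow
      have hAP : Cfsg.pCore p H ≤ P := Cfsg.Agent.Helper54.pCore_le_sylow P
      have hPC : (P : Subgroup H) ≤ Subgroup.centralizer (Cfsg.pCore p H : Set H) := by
        intro g hg
        rw [Subgroup.mem_centralizer_iff]
        intro y hy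
        exact habel P y (hAP hy) g hg
      exact hcent (hPC (hP (Subgroup.mem_zpowers x)))
    -- `Q ∩ O_p(H) = 1`
    have hQA : ∀ g, g ∈ Q → g ∈ Cfsg.pCore p H → g = 1 := by
      intro g hgQ hgA
      obtain ⟨k, hk⟩ := hQ2 ⟨g, hgQ⟩
      obtain ⟨l, hl⟩ := hAp ⟨g, hgA⟩
      have hk' : g ^ 2 ^ k = 1 := by simpa using congrArg Subtype.val hk
      have hl' : g ^ p ^ l = 1 := by simpa using congrArg Subtype.val hl
      have h1 : orderOf g ∣ 2 ^ k := orderOf_dvd_of_pow_eq_one hk'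
      have h2 : orderOf g ∣ p ^ l := orderOf_dvd_of_pow_eq_one hl'
      have hcop : (2 ^ k).Coprime (p ^ l) :=
        Nat.Coprime.pow k l ((Nat.coprime_primes Nat.prime_two hp).2 (Ne.symm hp2))
      have : orderOf g = 1 := Nat.eq_one_of_dvd_coprimes hcop h1 h2
      exact orderOf_eq_one_iff.1 this
    -- `x` centralises `Q`
    have hxc : ∀ s ∈ Q, x * s * x⁻¹ = s := by
      intro s hs
      have h1 : x * s * x⁻¹ * s⁻¹ ∈ Q := Q.mul_mem (hx s hs) (Q.inv_mem hs)
      have h2 : x * s * x⁻¹ * s⁻¹ ∈ Cfsg.pCore p H := by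
        have e : x * s * x⁻¹ * s⁻¹ = x * (s * x⁻¹ * s⁻¹) := by group
        rw [e]
        exact Subgroup.mul_mem _ hxA (hAn.conj_mem _ (Subgroup.inv_mem _ hxA) s)
      exact mul_inv_eq_one.1 (hQA _ h1 h2)
    have hxi : ∀ i : ℕ, ∀ s ∈ Q, x ^ i * s * (x ^ i)⁻¹ = s := by
      intro i
      induction i with
      | zero => intro s _; simp
      | succ k ih =>
        intro s hs
        have e : x ^ (k + 1) * s * (x ^ (k + 1))⁻¹ = x ^ k * (x * s * x⁻¹) * (x ^ k)⁻¹ := by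
          rw [pow_succ]; group
        rw [e, hxc s hs, ih s hs]
    -- two distinct nonidentity elements of `Q`
    have hQcard : 2 < Nat.card Q := by
      rw [hcard]
      calc 2 < 2 ^ 2 := by norm_num
        _ ≤ 2 ^ a := Nat.pow_le_pow_right (by norm_num) ha
    have : Fintype Q := Fintype.ofFinite Q
    rw [Nat.card_eq_fintype_card] at hQcard
    obtain ⟨u, v, w, huv, huw, hvw⟩ := Fintype.two_lt_card_iff.1 hQcard
    have key : ∀ t s : Q, t ≠ 1 → s ≠ 1 → t ≠ s → False := by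
      intro t s ht hs hts
      have ht' : (t : H) ≠ 1 := fun h => ht (Subtype.ext h)
      have hs' : (s : H) ≠ 1 := fun h => hs (Subtype.ext h)
      obtain ⟨i, hi⟩ := htrans t t.2 ht' s s.2 hs'
      rw [hxi i t t.2] at hi
      exact hts (Subtype.ext hi)
    by_cases hu : u = 1
    · exact key v w (fun h => huv (hu.trans h.symm)) (fun h => huw (hu.trans h.symm)) hvw
    · by_cases hv : v = 1
      · exact key u w hu (fun h => hvw (hv.trans h.symm)) huw
      · exact key u v hu hv huv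
  · -- `K ≠ 1`: `Q = K`
    obtain ⟨⟨t, htK⟩, ht1⟩ := (Subgroup.ne_bot_iff_exists_ne_one).1 hKbot
    have ht1' : t ≠ 1 := fun h => ht1 (Subtype.ext h)
    have hQK : Q ≤ Cfsg.pPrimeCore p H := by
      intro s hs
      by_cases hs1 : s = 1
      · rw [hs1]; exact Subgroup.one_mem _
      · obtain ⟨i, hi⟩ := htrans t (hKQ htK) ht1' s hs hs1
        rw [← hi]; exact hKn.conj_mem t htK (x ^ i)
    have hQeq : Q = Cfsg.pPrimeCore p H := le_antisymm hQK hKQ
    rw [hQeq]; exact hKn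

end Cfsg.Agent.Helper90.S4017M
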