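import Cfsg.Agent.Lib.Helper64.S4017Defs

/-!
# S4017M (C1) for helper64: `eigen_generate`.

An abelian group `Z` all of whose elements have odd order, normalised by a finite abelian group
`Q` of exponent `2`, is generated by its `Q`-eigenvectors (elements that every `s ∈ Q` fixes or
inverts).
-/

namespace Cfsg.Agent.Helper90.S4017M

open Cfsg.Agent.Helper64.S4017

variable {G : Type*} [Group G]

/-- An element of odd order lies in every subgroup containing its square. -/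
theorem c1_mem_of_sq_mem {w : G} (K : Subgroup G) (hodd : Odd (orderOf w)) (h : w * w ∈ K) :
    w ∈ K := by
  obtain ⟨k, hk⟩ := hodd
  have h1 : w ^ (2 * k + 1) = 1 := by rw [← hk]; exact pow_orderOf_eq_one w
  have h2 : w = (w * w) ^ (k + 1) := by
    rw [← pow_two, ← pow_mul]
    have : 2 * (k + 1) = (2 * k + 1) + 1 := by ring
    rw [this, pow_succ, h1, one_mul]
  rw [h2]; exact K.pow_mem h _

/-- The finset version of (C1). -/
theorem c1_finset (Z Q : Subgroup G) (hZ : ∀ z ∈ Z, ∀ z' ∈ Z, z * z' = z' * z)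
    (hQ : ∀ s ∈ Q, ∀ s' ∈ Q, s * s' = s' * s) (hQ2 : ∀ s ∈ Q, s * s = 1)
    (hnorm : ∀ s ∈ Q, ∀ z ∈ Z, s * z * s⁻¹ ∈ Z) (hodd : ∀ z ∈ Z, Odd (orderOf z))
    (S : Finset G) (hS : ∀ s ∈ S, s ∈ Q) :
    Z ≤ Subgroup.closure
      {w | w ∈ Z ∧ ∀ s ∈ S, s * w * s⁻¹ = w ∨ s * w * s⁻¹ = w⁻¹} := by
  classical
  induction S using Finset.induction_on with
  | empty =>
    intro z hz
    exact Subgroup.subset_closure ⟨hz, by simp⟩
  | insert s₀ S hs₀ ih =>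
    have hs₀Q : s₀ ∈ Q := hS s₀ (Finset.mem_insert_self _ _)
    have ih' := ih (fun s hs => hS s (Finset.mem_insert_of_mem hs))
    refine ih'.trans ?_
    rw [Subgroup.closure_le]
    rintro w ⟨hwZ, hwS⟩
    obtain ⟨w', hw'⟩ : ∃ w', w' = s₀ * w * s₀⁻¹ := ⟨_, rfl⟩
    have hw'Z : w' ∈ Z := by rw [hw']; exact hnorm s₀ hs₀Q w hwZ
    have hww' : w * w' = w' * w := hZ w hwZ w' hw'Z
    have hs₀w : s₀ * w * s₀⁻¹ = w' := hw'.symm
    have hs₀w' : s₀ * w' * s₀⁻¹ = w := by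
      have hinv : s₀⁻¹ = s₀ := by
        rw [inv_eq_iff_mul_eq_one]; exact hQ2 s₀ hs₀Q
      rw [hw', hinv]
      calc s₀ * (s₀ * w * s₀) * s₀ = (s₀ * s₀) * w * (s₀ * s₀) := by group
        _ = w := by rw [hQ2 s₀ hs₀Q]; simp
    have hSw' : ∀ s ∈ S, (s * w * s⁻¹ = w ∧ s * w' * s⁻¹ = w') ∨
        (s * w * s⁻¹ = w⁻¹ ∧ s * w' * s⁻¹ = w'⁻¹) := by
      intro s hs
      have hsQ : s ∈ Q := hS s (Finset.mem_insert_of_mem hs)
      have hcomm : s * s₀ = s₀ * s := hQ s hsQ s₀ hs₀Q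
      have h1 : s * w' * s⁻¹ = s₀ * (s * w * s⁻¹) * s₀⁻¹ := by
        rw [hw']
        calc s * (s₀ * w * s₀⁻¹) * s⁻¹ = (s * s₀) * w * (s * s₀)⁻¹ := by group
          _ = (s₀ * s) * w * (s₀ * s)⁻¹ := by rw [hcomm]
          _ = s₀ * (s * w * s⁻¹) * s₀⁻¹ := by group
      rcases hwS s hs with h | h
      · left; exact ⟨h, by rw [h1, h, hs₀w]⟩
      · right; refine ⟨h, ?_⟩; rw [h1, h, hw']; group
    -- `u = w w'` is an eigenvector for `insert s₀ S`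
    have hu : w * w' ∈ {w | w ∈ Z ∧ ∀ s ∈ insert s₀ S, s * w * s⁻¹ = w ∨ s * w * s⁻¹ = w⁻¹} := by
      refine ⟨Z.mul_mem hwZ hw'Z, ?_⟩
      intro s hs
      rcases Finset.mem_insert.1 hs with h | hs
      · left
        rw [h]
        calc s₀ * (w * w') * s₀⁻¹ = (s₀ * w * s₀⁻¹) * (s₀ * w' * s₀⁻¹) := by group
          _ = w' * w := by rw [hs₀w', hs₀w]
          _ = w * w' := hww'.symm
      · rcases hSw' s hs with ⟨h1, h2⟩ | ⟨h1, h2⟩
        · left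
          calc s * (w * w') * s⁻¹ = (s * w * s⁻¹) * (s * w' * s⁻¹) := by group
            _ = w * w' := by rw [h1, h2]
        · right
          calc s * (w * w') * s⁻¹ = (s * w * s⁻¹) * (s * w' * s⁻¹) := by group
            _ = w⁻¹ * w'⁻¹ := by rw [h1, h2]
            _ = (w' * w)⁻¹ := by group
            _ = (w * w')⁻¹ := by rw [hww']
    -- `v = w w'⁻¹` is an eigenvector for `insert s₀ S`
    have hww'i : w * w'⁻¹ = w'⁻¹ * w := hZ w hwZ w'⁻¹ (Z.inv_mem hw'Z)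
    have hv : w * w'⁻¹ ∈
        {w | w ∈ Z ∧ ∀ s ∈ insert s₀ S, s * w * s⁻¹ = w ∨ s * w * s⁻¹ = w⁻¹} := by
      refine ⟨Z.mul_mem hwZ (Z.inv_mem hw'Z), ?_⟩
      intro s hs
      rcases Finset.mem_insert.1 hs with h | hs
      · right
        rw [h]
        calc s₀ * (w * w'⁻¹) * s₀⁻¹ = (s₀ * w * s₀⁻¹) * (s₀ * w' * s₀⁻¹)⁻¹ := by group
          _ = w' * w⁻¹ := by rw [hs₀w', hs₀w]
          _ = (w * w'⁻¹)⁻¹ := by group
      · rcases hSw' s hs with ⟨h1, h2⟩ | ⟨h1, h2⟩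
        · left
          calc s * (w * w'⁻¹) * s⁻¹ = (s * w * s⁻¹) * (s * w' * s⁻¹)⁻¹ := by group
            _ = w * w'⁻¹ := by rw [h1, h2]
        · right
          calc s * (w * w'⁻¹) * s⁻¹ = (s * w * s⁻¹) * (s * w' * s⁻¹)⁻¹ := by group
            _ = w⁻¹ * (w'⁻¹)⁻¹ := by rw [h1, h2]
            _ = (w'⁻¹ * w)⁻¹ := by group
            _ = (w * w'⁻¹)⁻¹ := by rw [hww'i]
    -- `w² = u v`
    have hsq : w * w = (w * w') * (w * w'⁻¹) := by
      calc w * w = w * (w' * w'⁻¹) * w := by group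
        _ = w * w' * (w'⁻¹ * w) := by group
        _ = (w * w') * (w * w'⁻¹) := by rw [hww'i]
    apply c1_mem_of_sq_mem _ (hodd w hwZ)
    rw [hsq]
    exact Subgroup.mul_mem _ (Subgroup.subset_closure hu) (Subgroup.subset_closure hv)

/-- (C1) generic: induction over a finset `S ⊆ Q` of the statement with `∀ s ∈ S`; for the step
`w² = (w * s₀ w s₀⁻¹) * (w * (s₀ w s₀⁻¹)⁻¹)` and `w ∈ ⟨w²⟩`. -/
theorem eigen_generate (Z Q : Subgroup G) [Finite Q] (hZ : ∀ z ∈ Z, ∀ z' ∈ Z, z * z' = z' * z)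
    (hQ : ∀ s ∈ Q, ∀ s' ∈ Q, s * s' = s' * s) (hQ2 : ∀ s ∈ Q, s * s = 1)
    (hnorm : ∀ s ∈ Q, ∀ z ∈ Z, s * z * s⁻¹ ∈ Z) (hodd : ∀ z ∈ Z, Odd (orderOf z)) :
    Z ≤ Subgroup.closure {w | w ∈ Z ∧ IsEig Q w} := by
  classical
  have hfin : (Q : Set G).Finite := Set.toFinite _
  have h := c1_finset Z Q hZ hQ hQ2 hnorm hodd hfin.toFinset
    (fun s hs => by simpa using hs)
  refine h.trans (Subgroup.closure_mono ?_)
  rintro w ⟨hwZ, hw⟩
  refine ⟨hwZ, ?_⟩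
  intro s hs
  exact hw s (by simpa using hs)

end Cfsg.Agent.Helper90.S4017M
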