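import Mathlib

/-!
# S4017M (A7) for helper64: the arithmetic contradiction `A_arith`.
-/

namespace Cfsg.Agent.Helper90.S4017M

/-- (A7) arithmetic: `|G| = (p+1) m`, `m² = m p + N |P|`, `N * 2|P| = |G| (|P| - 1)`, `|P| = p^b`,
`b ≥ 1`, `p ∣ m`: `2 m = 2 p + (p + 1)(p^b - 1)`, so `p ∣ 1`. -/
theorem A_arith {p a m N c g : ℕ} (hp : p.Prime) (hp2 : p ≠ 2) (hpa : p + 1 = 2 ^ a)
    (hm : m * 2 ^ a = g) (hN : N * (2 * c) = g * (c - 1)) (hcount : m * m = m * p + N * c)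
    (hc : ∃ b : ℕ, 1 ≤ b ∧ c = p ^ b) (hg : p ∣ g) (hg0 : 0 < g) : False := by
  obtain ⟨b, hb, rfl⟩ := hc
  have hcop : Nat.Coprime p (p + 1) := by
    simp
  have hm0 : 0 < m := by
    rcases Nat.eq_zero_or_pos m with h | h
    · subst h; simp at hm; omega
    · exact h
  -- p ∣ m
  have hpm : p ∣ m := by
    rw [← hm, ← hpa] at hg
    exact hcop.dvd_of_dvd_mul_right hg
  -- 2 m = 2 p + (p+1)(c-1)
  have hkey : 2 * m = 2 * p + (p + 1) * (p ^ b - 1) := by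
    have h1 : m * (2 * m) = m * (2 * p + (p + 1) * (p ^ b - 1)) := by
      have h2 : N * (2 * p ^ b) = m * (p + 1) * (p ^ b - 1) := by
        rw [hN, ← hm, ← hpa]
      calc m * (2 * m) = 2 * (m * m) := by ring
        _ = 2 * (m * p + N * p ^ b) := by rw [hcount]
        _ = 2 * m * p + N * (2 * p ^ b) := by ring
        _ = 2 * m * p + m * (p + 1) * (p ^ b - 1) := by rw [h2]
        _ = m * (2 * p + (p + 1) * (p ^ b - 1)) := by ring
    exact Nat.eq_of_mul_eq_mul_left hm0 h1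
  -- p ∣ (p+1)(c-1)
  have hd : p ∣ (p + 1) * (p ^ b - 1) := by
    have h1 : p ∣ 2 * m := Dvd.dvd.mul_left hpm 2
    rw [hkey] at h1
    exact (Nat.dvd_add_right (Dvd.intro_left 2 rfl)).1 h1
  have hd2 : p ∣ p ^ b - 1 := hcop.dvd_of_dvd_mul_left hd
  have hd3 : p ∣ p ^ b := dvd_pow_self p (by omega)
  have hpos : 0 < p ^ b := Nat.pow_pos hp.pos
  have h1 : p ∣ 1 := by
    have : p ^ b = (p ^ b - 1) + 1 := by omega
    rw [this] at hd3
    exact (Nat.dvd_add_right hd2).1 hd3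
  exact hp.one_lt.ne' (Nat.dvd_one.1 h1)

end Cfsg.Agent.Helper90.S4017M
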