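import Mathlib
import Cfsg.Prelude.Def_OddOrderLocal

/-!
# BG157 (B) (helper2 server for S1383): a group acting faithfully on a group of prime order `p`
has order dividing `p - 1`
-/

set_option autoImplicit false

namespace Cfsg.Agent.Helper90.BG157

open Subgroup Cfsg

variable {G : Type*} [Group G] [Finite G]

/-- (B) of the BG157 server, statement verbatim. -/
theorem card_dvd_pred_of_faithful {p : ℕ} [Fact p.Prime] (K Z : Subgroup G) (hZ : Nat.card Z = p)
    (hKZ : K ≤ normalizer (Z : Set G))
    (hfaith : ∀ k ∈ K, k ≠ 1 → ¬ Z ≤ centralizer ({k} : Set G)) : Nat.card K ∣ p - 1 := by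
  have hp : p.Prime := Fact.out
  have hnorm : (Z.subgroupOf (normalizer (Z : Set G))).Normal := Subgroup.normal_in_normalizer
  have hcardZ' : Nat.card (Z.subgroupOf (normalizer (Z : Set G))) = p := by
    rw [← hZ]
    exact Nat.card_congr (Subgroup.subgroupOfEquivOfLe (Subgroup.le_normalizer)).toEquiv
  have hcyc : IsCyclic (Z.subgroupOf (normalizer (Z : Set G))) :=
    isCyclic_of_prime_card hcardZ'
  have hcardAut : Nat.card (MulAut (Z.subgroupOf (normalizer (Z : Set G)))) = p - 1 := by
    rw [IsCyclic.card_mulAut, hcardZ', Nat.totient_prime hp]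
  let φ : K →* MulAut (Z.subgroupOf (normalizer (Z : Set G))) :=
    (MulAut.conjNormal).comp (Subgroup.inclusion hKZ)
  have hinj : Function.Injective φ := by
    rw [injective_iff_map_eq_one]
    intro k hk
    by_contra hk1
    have hk1' : (k : G) ≠ 1 := fun h => hk1 (Subtype.ext h)
    apply hfaith k k.2 hk1'
    intro z hz
    rw [mem_centralizer_singleton_iff]
    have hzN : z ∈ normalizer (Z : Set G) := Subgroup.le_normalizer hz
    have h1 := congrArg (fun f => ((f ⟨⟨z, hzN⟩, hz⟩ : Z.subgroupOf (normalizer (Z : Set G))) : G)) hk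
    simp only [φ, MonoidHom.comp_apply, MulAut.one_apply] at h1
    rw [MulAut.conjNormal_apply] at h1
    simp only [Subgroup.coe_inclusion, Subgroup.coe_mul, Subgroup.coe_inv] at h1
    -- h1 : k * z * k⁻¹ = z
    calc z * (k : G) = ((k : G) * z * (k : G)⁻¹) * k := by rw [h1]
      _ = (k : G) * z := by group
  have := Subgroup.card_dvd_of_injective φ hinj
  rwa [hcardAut] at this

end Cfsg.Agent.Helper90.BG157
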