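import Mathlib
import Cfsg.Agent.Lib.Helper7.M11LADefs

/-!
# M11LA (K8) "Lemma T" (helper7 server for S0435)
Sylow 2-subgroups of order 16, `f` of order 4, `t = f ^ 2`: the 2-part of `|C(t)|` is not 8.
-/

set_option autoImplicit false

namespace Cfsg.Agent.Helper90.M11LA

open Subgroup Cfsg.Agent.Helper7.M11LA

variable {G : Type*} [Group G] [Finite G]

omit [Finite G] in
/-- cardinality of `H.subgroupOf K` for `H ≤ K` -/
theorem k8_card_subgroupOf {H K : Subgroup G} (h : H ≤ K) :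
    Nat.card (H.subgroupOf K) = Nat.card H :=
  Nat.card_congr (Subgroup.subgroupOfEquivOfLe h).toEquiv

omit [Finite G] in
/-- index of `H.subgroupOf K` from the two cardinalities -/
theorem k8_index_two {H K : Subgroup G} (h : H ≤ K) (n : ℕ) (hn : 0 < n) (hH : Nat.card H = n)
    (hK : Nat.card K = 2 * n) : (H.subgroupOf K).index = 2 := by
  have h1 := (H.subgroupOf K).card_mul_index
  rw [k8_card_subgroupOf h, hH, hK] at h1
  have : n * (H.subgroupOf K).index = n * 2 := by rw [h1]; ring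
  exact Nat.eq_of_mul_eq_mul_left hn this

/-- an element of order 2 in a cyclic group `⟨f⟩` of order 4 is `f ^ 2` -/
theorem k8_eq_sq (f x : G) (hf : orderOf f = 4) (hx : orderOf x = 2) (hxf : x ∈ zpowers f) :
    x = f ^ 2 := by
  classical
  rw [mem_zpowers_iff_mem_range_orderOf, hf] at hxf
  rw [Finset.mem_image] at hxf
  obtain ⟨k, hk, rfl⟩ := hxf
  rw [Finset.mem_range] at hk
  have hord : orderOf (f ^ k) = 4 / Nat.gcd 4 k := by rw [orderOf_pow, hf]
  interval_cases k
  · simp at hx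
  · rw [pow_one, hf] at hx; omega
  · rfl
  · rw [hord] at hx; norm_num at hx

/-- (K8) "Lemma T", statement verbatim. -/
theorem lemmaT (h16 : ∀ S : Sylow 2 G, Nat.card S = 16) (f : G) (hf : orderOf f = 4) (m : ℕ)
    (hm : Odd m) (hC : Nat.card (centralizer ({f ^ 2} : Set G)) = 8 * m) : False := by
  have : Fact (Nat.Prime 2) := ⟨Nat.prime_two⟩
  obtain ⟨t, ht⟩ : ∃ t : G, t = f ^ 2 := ⟨_, rfl⟩
  rw [← ht] at hC
  have ht2 : orderOf t = 2 := by rw [ht, orderOf_pow, hf]; norm_num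
  obtain ⟨C, hCdef⟩ : ∃ C : Subgroup G, C = centralizer ({t} : Set G) := ⟨_, rfl⟩
  rw [← hCdef] at hC
  have hmemC : ∀ g : G, g ∈ C ↔ g * t = t * g := by
    intro g; rw [hCdef, mem_centralizer_singleton_iff]
  have hfC : f ∈ C := by
    rw [hmemC, ht, ← pow_succ', ← pow_succ]
  have hm0 : m ≠ 0 := by rintro rfl; simp at hm
  have hm2 : ¬ 2 ∣ m := by
    intro h; exact (Nat.not_even_iff_odd.mpr hm) (even_iff_two_dvd.mpr h)
  -- a Sylow 2-subgroup of `C` containing `f`
  have hZpg : IsPGroup 2 (zpowers f) := by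
    apply IsPGroup.of_card (n := 2)
    rw [Nat.card_zpowers, hf]; norm_num
  obtain ⟨T, hT⟩ := (hZpg.comap_subtype (K := C)).exists_le_sylow
  have hTcard : Nat.card T = 8 := by
    rw [Sylow.card_eq_multiplicity, hC, Nat.factorization_mul (by norm_num) hm0]
    have h8 : (8 : ℕ) = 2 ^ 3 := by norm_num
    rw [h8, Nat.Prime.factorization_pow Nat.prime_two]
    simp [Nat.factorization_eq_zero_of_not_dvd hm2]
  obtain ⟨T', hT'⟩ : ∃ T' : Subgroup G, T' = (T : Subgroup C).map C.subtype := ⟨_, rfl⟩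
  have hT'card : Nat.card T' = 8 := by
    rw [hT', Subgroup.card_map_of_injective (Subgroup.subtype_injective C)]
    exact hTcard
  have hT'pg : IsPGroup 2 T' := by
    rw [hT']; exact T.isPGroup'.map _
  have hT'C : T' ≤ C := by rw [hT']; exact Subgroup.map_subtype_le _
  have hfT' : f ∈ T' := by
    rw [hT']
    refine ⟨⟨f, hfC⟩, ?_, rfl⟩
    apply hT
    show f ∈ zpowers f
    exact mem_zpowers f
  obtain ⟨S, hS⟩ := hT'pg.exists_le_sylow
  have hScard : Nat.card (S : Subgroup G) = 16 := h16 S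
  -- `D = C_S(t)` has order 8
  obtain ⟨D, hD⟩ : ∃ D : Subgroup G, D = (S : Subgroup G) ⊓ C := ⟨_, rfl⟩
  have hDS : D ≤ (S : Subgroup G) := by rw [hD]; exact inf_le_left
  have hDC : D ≤ C := by rw [hD]; exact inf_le_right
  have hT'D : T' ≤ D := by rw [hD]; exact le_inf hS hT'C
  have hDcard : Nat.card D = 8 := by
    apply Nat.dvd_antisymm
    · have h1 : Nat.card D ∣ 16 := hScard ▸ Subgroup.card_dvd_of_le hDS
      have h2 : Nat.card D ∣ 8 * m := hC ▸ Subgroup.card_dvd_of_le hDC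
      have h3 : Nat.card D ∣ Nat.gcd (8 * 2) (8 * m) := Nat.dvd_gcd h1 h2
      rw [Nat.gcd_mul_left] at h3
      have h4 : Nat.gcd 2 m = 1 := (Nat.Prime.coprime_iff_not_dvd Nat.prime_two).mpr hm2
      rwa [h4, mul_one] at h3
    · exact hT'card ▸ Subgroup.card_dvd_of_le hT'D
  have hfD : f ∈ D := hT'D hfT'
  have htD : t ∈ D := by rw [ht]; exact pow_mem hfD 2
  -- `D` is normal in `S`
  have hidx : (D.subgroupOf (S : Subgroup G)).index = 2 :=
    k8_index_two hDS 8 (by norm_num) hDcard (by rw [hScard])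
  have hnorm : (D.subgroupOf (S : Subgroup G)).Normal := Subgroup.normal_of_index_eq_two hidx
  -- an element `s ∈ S \ D`
  obtain ⟨s, hsS, hsD⟩ : ∃ s : G, s ∈ (S : Subgroup G) ∧ s ∉ D := by
    by_contra hcon
    push Not at hcon
    have hle : (S : Subgroup G) ≤ D := fun x hx => hcon x hx
    have := Subgroup.card_le_of_le hle
    rw [hScard, hDcard] at this
    omega
  have hst : s * t ≠ t * s := by
    intro h
    apply hsD
    rw [hD]
    exact ⟨hsS, (hmemC s).mpr h⟩
  -- `f' = s f s⁻¹ ∈ D`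
  have hf'D : s * f * s⁻¹ ∈ D := by
    have h1 : (⟨f, hDS hfD⟩ : (S : Subgroup G)) ∈ D.subgroupOf (S : Subgroup G) := by
      rw [Subgroup.mem_subgroupOf]; exact hfD
    have h2 := hnorm.conj_mem _ h1 ⟨s, hsS⟩
    rw [Subgroup.mem_subgroupOf] at h2
    exact h2
  -- squares of elements of `D` lie in `⟨f⟩`
  have hZD : zpowers f ≤ D := by
    rw [Subgroup.zpowers_le]; exact hfD
  have hZcard : Nat.card (zpowers f) = 4 := by rw [Nat.card_zpowers, hf]
  have hidx2 : ((zpowers f).subgroupOf D).index = 2 :=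
    k8_index_two hZD 4 (by norm_num) hZcard (by rw [hDcard])
  have hsq := Subgroup.sq_mem_of_index_two hidx2 ⟨s * f * s⁻¹, hf'D⟩
  rw [Subgroup.mem_subgroupOf] at hsq
  have hsq' : (s * f * s⁻¹) ^ 2 ∈ zpowers f := by
    simpa using hsq
  rw [conj_pow, ← ht] at hsq'
  have hord : orderOf (s * t * s⁻¹) = 2 := by
    rw [← ht2]
    have hsc : SemiconjBy s t (s * t * s⁻¹) := by
      unfold SemiconjBy; group
    exact (hsc.orderOf_eq s).symm
  have heq := k8_eq_sq f _ hf hord hsq'
  rw [← ht] at heq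
  apply hst
  calc s * t = s * t * s⁻¹ * s := by group
    _ = t * s := by rw [heq]

end Cfsg.Agent.Helper90.M11LA
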