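import Mathlib
import Cfsg.Agent.Lib.Helper83.Ord7920Defs

/-!
# Order 7920 (S2490), piece (D0): the base case

A group of order 495 has no subgroup of order 11 whose normalizer has index 45.
-/

set_option autoImplicit false

open Cfsg.Agent.Helper83.Ord7920

namespace Cfsg.Agent.Helper90.Ord7920

open Subgroup

/-- an element of order dividing 11 acts trivially by conjugation on a normal subgroup of
order 5. -/
theorem commute_of_normal_card_five {G : Type*} [Group G] [Finite G] (F : Subgroup G) [F.Normal]
    (hF : Nat.card F = 5) (x : G) (hx : x ^ 11 = 1) : ∀ y ∈ F, x * y = y * x := by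
  classical
  set α : MulAut F := MulAut.conjNormal x with hα
  have h1 : α ^ 11 = 1 := by
    rw [hα, ← map_pow, hx, map_one]
  have h2 : orderOf α ∣ 11 := orderOf_dvd_of_pow_eq_one h1
  -- the order of `α` divides `5! = 120`
  have hinj : Function.Injective (MulAut.toPerm F) := by
    intro a b hab
    apply MulEquiv.ext
    intro y
    exact congrArg (fun σ : Equiv.Perm F => σ y) hab
  have h3 : orderOf α = orderOf (MulAut.toPerm F α) := (orderOf_injective _ hinj α).symm
  have h4 : orderOf (MulAut.toPerm F α) ∣ Nat.card (Equiv.Perm F) := orderOf_dvd_natCard _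
  have h5 : Nat.card (Equiv.Perm F) = 120 := by
    rw [Nat.card_perm, hF]
    rfl
  rw [← h3, h5] at h4
  have h6 : orderOf α ∣ Nat.gcd 11 120 := Nat.dvd_gcd h2 h4
  have h7 : orderOf α = 1 := by
    have : Nat.gcd 11 120 = 1 := by norm_num
    rw [this] at h6
    exact Nat.dvd_one.mp h6
  have h8 : α = 1 := orderOf_eq_one_iff.mp h7
  intro y hy
  have h9 : α ⟨y, hy⟩ = ⟨y, hy⟩ := by rw [h8]; rfl
  have h10 : x * y * x⁻¹ = y := by
    have := congrArg Subtype.val h9
    simpa [hα, MulAut.conjNormal_apply] using this
  calc x * y = x * y * x⁻¹ * x := by group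
    _ = y * x := by rw [h10]

/-- (D0) base case. -/
theorem not_bad_495 {G : Type*} [Group G] [Finite G] (hord : Nat.card G = 495) : ¬ Bad G := by
  classical
  rintro ⟨P, hP, hidx⟩
  have h11 : Fact (Nat.Prime 11) := ⟨by norm_num⟩
  have h5 : Fact (Nat.Prime 5) := ⟨by norm_num⟩
  have hN : Nat.card (normalizer (P : Set G)) = 11 := by
    have h := Subgroup.card_mul_index (normalizer (P : Set G))
    rw [hidx, hord] at h
    omega
  have hNP : normalizer (P : Set G) = P :=
    (Subgroup.eq_of_le_of_card_ge le_normalizer (by rw [hN, hP])).symm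
  have hPp : IsPGroup 11 P := IsPGroup.of_card (n := 1) (by rw [hP]; norm_num)
  have hPidx : P.index = 45 := by
    have h := Subgroup.card_mul_index P
    rw [hP, hord] at h
    omega
  let PS : Sylow 11 G := hPp.toSylow (by rw [hPidx]; norm_num)
  have hPS : (PS : Subgroup G) = P := rfl
  -- `P` is commutative
  have hcomm : ∀ a ∈ P, ∀ b ∈ P, a * b = b * a := by
    have hpr : Fact (Nat.Prime (Nat.card P)) := by rw [hP]; exact h11
    have hc : IsCyclic P := isCyclic_of_prime_card rfl
    intro a ha b hb
    have h := (IsCyclic.isMulCommutative (α := P)).is_comm.comm ⟨a, ha⟩ ⟨b, hb⟩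
    exact congrArg Subtype.val h
  have hNC : normalizer ((PS : Subgroup G) : Set G) ≤ centralizer ((PS : Subgroup G) : Set G) := by
    rw [hPS, hNP]
    intro a ha
    rw [Subgroup.mem_centralizer_iff]
    intro b hb
    exact hcomm b hb a ha
  have hcompl := MonoidHom.ker_transferSylow_isComplement' PS hNC
  set Q : Subgroup G := (MonoidHom.transferSylow PS hNC).ker with hQ
  have hQcard : Nat.card Q = 45 := by
    have h1 := hcompl.card_mul_card
    rw [hord] at h1
    have h2 : Nat.card (PS : Subgroup G) = 11 := hP
    rw [h2] at h1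
    omega
  -- the Sylow 5-subgroup of `Q` is unique
  obtain ⟨F⟩ : Nonempty (Sylow 5 Q) := inferInstance
  have hFcard : Nat.card (F : Subgroup Q) = 5 ∧ (F : Subgroup Q).index = 9 := by
    obtain ⟨k, hk⟩ := IsPGroup.iff_card.mp F.isPGroup'
    have h1 := Subgroup.card_mul_index (F : Subgroup Q)
    rw [hQcard, hk] at h1
    have h2 := F.not_dvd_index
    have hk1 : k ≤ 1 := by
      by_contra hlt
      push Not at hlt
      have h3 : 5 ^ 2 ∣ 5 ^ k := pow_dvd_pow 5 hlt
      have h4 : 5 ^ 2 ∣ 45 := by rw [← h1]; exact Dvd.dvd.mul_right h3 _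
      norm_num at h4
    interval_cases k
    · exfalso
      rw [pow_zero, one_mul] at h1
      rw [h1] at h2
      norm_num at h2
    · rw [hk]
      constructor
      · norm_num
      · omega
  have hone : Nat.card (Sylow 5 Q) = 1 := by
    have hmod := card_sylow_modEq_one 5 Q
    have hdvd := F.card_dvd_index
    rw [hFcard.2] at hdvd
    have hle := Nat.le_of_dvd (by norm_num) hdvd
    unfold Nat.ModEq at hmod
    generalize Nat.card (Sylow 5 Q) = n at *
    interval_cases n <;> simp_all
  have hsub : Subsingleton (Sylow 5 Q) := (Nat.card_eq_one_iff_unique.mp hone).1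
  have hchar : (F : Subgroup Q).Characteristic := Sylow.characteristic_of_subsingleton F
  have hQn : Q.Normal := MonoidHom.normal_ker _
  have hFn : ((F : Subgroup Q).map Q.subtype).Normal := ConjAct.normal_of_characteristic_of_normal
  set F' : Subgroup G := (F : Subgroup Q).map Q.subtype with hF'
  have hF'card : Nat.card F' = 5 := by
    rw [hF', Subgroup.card_map_of_injective Q.subtype_injective]
    exact hFcard.1
  -- `F' ≤ C_G(P) ≤ N_G(P) = P`
  have hF'P : F' ≤ P := by
    intro y hy
    rw [← hNP]
    apply Subgroup.centralizer_le_normalizer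
    rw [Subgroup.mem_centralizer_iff]
    intro x hx
    have hx11 : x ^ 11 = 1 := by
      have h2 : (⟨x, hx⟩ : P) ^ Nat.card P = 1 := pow_card_eq_one'
      rw [hP] at h2
      exact congrArg Subtype.val h2
    exact commute_of_normal_card_five F' hF'card x hx11 y hy
  have h1 : Nat.card F' ∣ Nat.card P := Subgroup.card_dvd_of_le hF'P
  rw [hF'card, hP] at h1
  norm_num at h1

end Cfsg.Agent.Helper90.Ord7920
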