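import Mathlib
import Cfsg.Agent.Lib.Helper83.Ord7920Defs
import Cfsg.Agent.Lib.Helper33.Syl
import Cfsg.Agent.Lib.Helper22.Radical

/-!
# Order 7920 (S2490), piece (Dq): the quotient step

If `P` has order 11, `N_G(P)` has index 45 and `K ≤ N_G(P)` is a normal subgroup of `G` of order
prime to 11, then `G ⧸ K` is again `Bad`.
-/

set_option autoImplicit false
open Pointwise

open Cfsg.Agent.Helper83.Ord7920

namespace Cfsg.Agent.Helper90.Ord7920

open Subgroup
open Cfsg.Agent.Helper33 (mem_conj_smul conj_smul_le_iff mem_normalizer_iff_smul_eq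
  smul_eq_of_mem_normalizer card_conj_smul conj_smul_le_conj_smul IsSylIn isPGroup_conj_smul
  conj_smul_le_iff_le_inv)

/-- (Dq) quotient step. -/
theorem bad_quotient {G : Type*} [Group G] [Finite G] (P K : Subgroup G) [K.Normal]
    (hP : Nat.card P = 11) (hidx : (Subgroup.normalizer (P : Set G)).index = 45) (hK : K ≤ Subgroup.normalizer (P : Set G))
    (hK11 : (Nat.card K).Coprime 11) : Bad (G ⧸ K) := by
  classical
  have h11 : Fact (Nat.Prime 11) := ⟨by norm_num⟩
  set f : G →* G ⧸ K := QuotientGroup.mk' K with hf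
  have hfsurj : Function.Surjective f := QuotientGroup.mk'_surjective K
  have hPp : IsPGroup 11 P := IsPGroup.of_card (n := 1) (by rw [hP]; norm_num)
  -- the image of `P` has order 11
  have hPK : P ⊓ K = ⊥ :=
    disjoint_iff.mp (Subgroup.disjoint_of_coprime_natCard (by rw [hP]; exact hK11.symm))
  have hinj : Function.Injective (f.comp P.subtype) := by
    rw [← MonoidHom.ker_eq_bot_iff, eq_bot_iff]
    rintro ⟨x, hx⟩ hxk
    rw [MonoidHom.mem_ker, MonoidHom.comp_apply, Subgroup.coe_subtype, hf,
      QuotientGroup.mk'_apply, QuotientGroup.eq_one_iff] at hxk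
    have h1 : x ∈ P ⊓ K := ⟨hx, hxk⟩
    rw [hPK, Subgroup.mem_bot] at h1
    exact Subgroup.mem_bot.mpr (Subtype.ext h1)
  have hmap : P.map f = (f.comp P.subtype).range := by
    rw [MonoidHom.range_comp, Subgroup.range_subtype]
  have hcard : Nat.card (P.map f) = 11 := by
    rw [hmap, ← hP]
    exact Nat.card_congr (MonoidHom.ofInjective hinj).toEquiv.symm
  refine ⟨P.map f, hcard, ?_⟩
  -- the normalizer
  have hPL : P ≤ K ⊔ P := le_sup_right
  have hLN : K ⊔ P ≤ normalizer (P : Set G) := sup_le hK le_normalizer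
  have hsyl : IsSylIn 11 P (K ⊔ P) := by
    refine ⟨hPL, hPp, ?_⟩
    have h1 : Nat.card (K ⊔ P : Subgroup G) ∣ Nat.card K * Nat.card P :=
      Cfsg.Agent.Helper22.card_sup_dvd_of_le_normalizer hK
    have h2 : Nat.card (K ⊔ P : Subgroup G) = P.relIndex (K ⊔ P) * Nat.card P := by
      have h5 := Subgroup.card_mul_index (P.subgroupOf (K ⊔ P))
      rw [Cfsg.Agent.Helper22.card_subgroupOf_of_le hPL] at h5
      rw [← h5, mul_comm]
      rfl
    rw [h2, mul_comm (Nat.card K)] at h1
    have hPpos : 0 < Nat.card P := Nat.card_pos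
    have h3 : P.relIndex (K ⊔ P) ∣ Nat.card K := by
      rw [mul_comm (Nat.card P)] at h1
      exact Nat.dvd_of_mul_dvd_mul_right hPpos h1
    intro hd
    have h4 : 11 ∣ Nat.card K := hd.trans h3
    have := Nat.Coprime.eq_one_of_dvd hK11.symm h4
    norm_num at this
  have hnorm : normalizer ((K ⊔ P : Subgroup G) : Set G) = normalizer (P : Set G) := by
    apply le_antisymm
    · intro g hg
      rw [mem_normalizer_iff_smul_eq]
      have hR : MulAut.conj g • P ≤ K ⊔ P := by
        calc MulAut.conj g • P ≤ MulAut.conj g • (K ⊔ P) := conj_smul_le_conj_smul hPL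
          _ = K ⊔ P := smul_eq_of_mem_normalizer hg
      obtain ⟨x, hx, hxle⟩ := hsyl.exists_conj_le (isPGroup_conj_smul (g := g) hPp) hR
      have h1 : MulAut.conj g • P ≤ P := by
        have h2 := conj_smul_le_iff_le_inv.mp hxle
        rwa [smul_eq_of_mem_normalizer (hLN ((K ⊔ P).inv_mem hx))] at h2
      exact Subgroup.eq_of_le_of_card_ge h1 (by rw [card_conj_smul])
    · intro g hg
      rw [mem_normalizer_iff_smul_eq]
      have h1 : MulAut.conj g • P = P := smul_eq_of_mem_normalizer hg
      have h2 : MulAut.conj g • K = K := Subgroup.Normal.conj_smul_eq_self g K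
      rw [Subgroup.smul_sup, h1, h2]
  have hcomap : (normalizer ((P.map f : Subgroup (G ⧸ K)) : Set (G ⧸ K))).comap f =
      normalizer (P : Set G) := by
    rw [Subgroup.comap_normalizer_eq_of_surjective _ hfsurj, hf, QuotientGroup.comap_map_mk', hnorm]
  rw [← Subgroup.index_comap_of_surjective _ hfsurj, hcomap, hidx]

end Cfsg.Agent.Helper90.Ord7920
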