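import Mathlib
import Cfsg.Agent.Lib.Helper83.Ord7920Defs
import Cfsg.Agent.Lib.Helper22.Radical

/-!
# Order 7920 (S2490), piece (Ds): subgroups of index two

If `|G| = 2 ^ a * 495` and `G` is `Bad`, then every subgroup of index 2 is `Bad`.
-/

set_option autoImplicit false

open Cfsg.Agent.Helper83.Ord7920

namespace Cfsg.Agent.Helper90.Ord7920

open Subgroup

/-- (Ds) subgroup of index two. -/
theorem bad_index_two {G : Type*} [Group G] [Finite G] {a : ℕ} (hord : Nat.card G = 2 ^ a * 495)
    (H : Subgroup G) (hH : H.index = 2) (hb : Bad G) : Bad H := by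
  classical
  obtain ⟨P, hP, hidx⟩ := hb
  have hHn : H.Normal := Subgroup.normal_of_index_eq_two hH
  set N : Subgroup G := normalizer (P : Set G) with hN
  -- `P ≤ H`
  have hPH : P ≤ H := by
    intro x hx
    have h1 : x ^ 11 = 1 := by
      have h2 : (⟨x, hx⟩ : P) ^ Nat.card P = 1 := pow_card_eq_one'
      rw [hP] at h2
      exact congrArg Subtype.val h2
    have h3 : x ^ 2 ∈ H := Subgroup.sq_mem_of_index_two hH x
    have h4 : x = (x ^ 2) ^ 6 * (x ^ 11)⁻¹ := by
      rw [← pow_mul]
      group
    rw [h4, h1, inv_one, mul_one]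
    exact H.pow_mem h3 6
  -- `a = b + 1`
  have hGH : Nat.card H * 2 = Nat.card G := by
    rw [← hH]; exact Subgroup.card_mul_index H
  obtain ⟨b, rfl⟩ : ∃ b, a = b + 1 := by
    cases a with
    | zero =>
      exfalso
      rw [hord] at hGH
      omega
    | succ b => exact ⟨b, rfl⟩
  have hpow : 0 < 2 ^ b := Nat.pos_of_ne_zero (by positivity)
  have hHcard : Nat.card H = 2 ^ b * 495 := by
    rw [hord, pow_succ] at hGH
    nlinarith [hGH]
  have hNcard : Nat.card N = 2 ^ (b + 1) * 11 := by
    have h1 := Subgroup.card_mul_index N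
    rw [hidx, hord] at h1
    have : Nat.card N * 45 = 2 ^ (b + 1) * 11 * 45 := by rw [h1]; ring
    exact Nat.eq_of_mul_eq_mul_right (by norm_num) this
  refine ⟨P.subgroupOf H, ?_, ?_⟩
  · rw [Cfsg.Agent.Helper22.card_subgroupOf_of_le hPH, hP]
  · rw [← Subgroup.subgroupOf_normalizer_eq hPH]
    change N.relIndex H = 45
    -- `m = |N ⊓ H|`
    have hk : H.relIndex N ∣ 2 := by
      rw [← hH]; exact Subgroup.relIndex_dvd_index_of_normal H N
    have e1 : Nat.card (N ⊓ H : Subgroup G) * H.relIndex N = Nat.card N := by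
      have h5 := Subgroup.card_mul_index ((N ⊓ H).subgroupOf N)
      rw [Cfsg.Agent.Helper22.card_subgroupOf_of_le inf_le_left] at h5
      rw [← h5]
      congr 1
      exact (Subgroup.inf_relIndex_left N H).symm
    have e2 : Nat.card (N ⊓ H : Subgroup G) * N.relIndex H = Nat.card H := by
      have h5 := Subgroup.card_mul_index ((N ⊓ H).subgroupOf H)
      rw [Cfsg.Agent.Helper22.card_subgroupOf_of_le inf_le_right] at h5
      rw [← h5]
      congr 1
      exact (Subgroup.inf_relIndex_right N H).symm
    rw [hNcard] at e1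
    rw [hHcard] at e2
    have hk12 : H.relIndex N = 1 ∨ H.relIndex N = 2 := by
      have h2 : H.relIndex N ∈ Nat.divisors 2 := Nat.mem_divisors.mpr ⟨hk, by norm_num⟩
      have h3 : Nat.divisors 2 = {1, 2} := by decide
      rw [h3] at h2
      simpa using h2
    generalize Nat.card (N ⊓ H : Subgroup G) = m at e1 e2
    generalize N.relIndex H = j at e2 ⊢
    generalize H.relIndex N = k at e1 hk12
    rcases hk12 with h | h
    · exfalso
      rw [h, mul_one] at e1
      rw [e1, pow_succ] at e2
      have : 2 ^ b * (2 * 11 * j) = 2 ^ b * 495 := by rw [← e2]; ring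
      have := Nat.eq_of_mul_eq_mul_left hpow this
      omega
    · rw [h, pow_succ] at e1
      have hm' : m = 2 ^ b * 11 := by
        have : m * 2 = 2 ^ b * 11 * 2 := by rw [e1]; ring
        exact Nat.eq_of_mul_eq_mul_right (by norm_num) this
      rw [hm'] at e2
      have : 2 ^ b * (11 * j) = 2 ^ b * 495 := by rw [← e2]; ring
      have := Nat.eq_of_mul_eq_mul_left hpow this
      omega

end Cfsg.Agent.Helper90.Ord7920
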