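import Mathlib
import Cfsg.Agent.Lib.Helper24.CYCDefs

/-!
CYC server (helper24, S4016), piece (C11): from a homomorphism `N_G(P) → (ZMod p)ˣ` with kernel `C_G(P)`:
`|N_G(P) : C_G(P)|` divides `p - 1` and `N_G(P)/C_G(P)` is cyclic.
-/

set_option autoImplicit false

namespace Cfsg.Agent.Helper90.CYC

open Subgroup Cfsg.Agent.Helper24.CYC

universe u

variable {G : Type u} [Group G] [Finite G] {p : ℕ} [Fact p.Prime]

/-- (C11) from (G2): `|N : C| = |N / ker f|` divides `|(ZMod p)ˣ| = p - 1`; `N / C` is isomorphic to a subgroup of the cyclic group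
`(ZMod p)ˣ`, so cyclic: take `y` mapping to a generator of the image. -/
theorem ediv_cycq_of_hom (P : Sylow p G) (f : ↥(NP P) →* (ZMod p)ˣ) (hf : ∀ x : ↥(NP P), f x = 1 ↔ (x : G) ∈ CP P) :
    (∃ e : ℕ, e ∣ p - 1 ∧ Nat.card (NP P) = e * Nat.card (CP P)) ∧
      ∃ y ∈ NP P, ∀ x ∈ NP P, ∃ n : ℕ, x⁻¹ * y ^ n ∈ CP P := by
  classical
  have hCN : CP P ≤ NP P := Subgroup.centralizer_le_normalizer _
  refine ⟨⟨Nat.card f.range, ?_, ?_⟩, ?_⟩
  · have h1 : Nat.card f.range ∣ Nat.card (ZMod p)ˣ := Subgroup.card_subgroup_dvd_card _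
    have h2 : Nat.card (ZMod p)ˣ = p - 1 := by
      rw [Nat.card_eq_fintype_card, ZMod.card_units]
    rwa [h2] at h1
  · have hker : f.ker = (CP P).subgroupOf (NP P) := by
      ext x
      rw [MonoidHom.mem_ker, hf x, Subgroup.mem_subgroupOf]
    have hc : Nat.card f.ker = Nat.card (CP P) := by
      rw [hker]
      exact Nat.card_congr (Subgroup.subgroupOfEquivOfLe hCN).toEquiv
    have h3 := f.ker.card_mul_index
    rw [Subgroup.index_ker, hc] at h3
    rw [← h3, mul_comm]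
  · have hcyc : IsCyclic f.range := Subgroup.isCyclic _
    obtain ⟨g, hg⟩ := IsCyclic.exists_monoid_generator (α := f.range)
    obtain ⟨y, hy⟩ := g.2
    refine ⟨(y : G), y.2, ?_⟩
    intro x hx
    have hxr : f ⟨x, hx⟩ ∈ f.range := ⟨_, rfl⟩
    obtain ⟨n, hn⟩ := hg ⟨f ⟨x, hx⟩, hxr⟩
    refine ⟨n, ?_⟩
    have hn' : (g : (ZMod p)ˣ) ^ n = f ⟨x, hx⟩ := by
      have := congrArg (fun z : f.range => (z : (ZMod p)ˣ)) hn
      simpa using this
    have h4 : f (⟨x, hx⟩⁻¹ * y ^ n) = 1 := by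
      rw [map_mul, map_inv, map_pow, hy, hn', inv_mul_cancel]
    have h5 := (hf _).1 h4
    simpa using h5

end Cfsg.Agent.Helper90.CYC
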