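import Mathlib
import Cfsg.Agent.Lib.Helper24.CYCDefs

/-!
CYC server (helper24, S4016), piece (C9): the KEY lemma, `C_G(t) = N_G(P)` for a nontrivial `p'`-element `t`
commuting with some `1 ≠ a ∈ P`.
-/

set_option autoImplicit false

namespace Cfsg.Agent.Helper90.CYC

open Subgroup Cfsg.Agent.Helper24.CYC

universe u

variable {G : Type u} [Group G] [Finite G] {p : ℕ} [Fact p.Prime]

/-- (C9) KEY.  `t ∈ C_G(a) ≤ N_G(P)` (`centp`), `t ∈ C_G(P)` (`fpf`), `t ∈ K` (`compl`), `K` abelian (`min.ab`): `K ≤ C_G(t)`, `P ≤ C_G(t)`,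
`N_G(P) = PK ≤ C_G(t) ≠ ⊤` (`center`), equality by `max`. -/
theorem key_of_core1 (h1 : Core1 p G) (P : Sylow p G) (a t : G) (ha : a ∈ P) (ha1 : a ≠ 1) (ht1 : t ≠ 1)
    (htp : (orderOf t).Coprime p) (hat : a * t = t * a) : Subgroup.centralizer {t} = NP P := by
  classical
  have hp : p.Prime := Fact.out
  -- `t ∈ N_G(P)`
  have htCa : t ∈ Subgroup.centralizer ({a} : Set G) := by
    rw [Subgroup.mem_centralizer_singleton_iff]; exact hat.symm
  have htN : t ∈ NP P := h1.centp P a ha ha1 htCa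
  have htC : t ∈ CP P := h1.fpf P t a htN htp ha ha1 hat.symm
  obtain ⟨K, hKN, hKp, hKcard, hKt⟩ := h1.compl P
  have htK : t ∈ K := hKt t htC htp
  have hKab := h1.min.ab K hKp
  have hKle : K ≤ Subgroup.centralizer ({t} : Set G) := by
    intro k hk
    rw [Subgroup.mem_centralizer_singleton_iff]
    exact hKab k hk t htK
  have hPle : (P : Subgroup G) ≤ Subgroup.centralizer ({t} : Set G) := by
    intro b hb
    rw [Subgroup.mem_centralizer_singleton_iff]
    rw [Subgroup.mem_centralizer_iff] at htC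
    exact htC b hb
  have hPN : (P : Subgroup G) ≤ NP P := Subgroup.le_normalizer
  have hsupN : (P : Subgroup G) ⊔ K ≤ NP P := sup_le hPN hKN
  -- `|P ⊔ K| = |N_G(P)|`
  obtain ⟨n, hn⟩ := IsPGroup.iff_card.1 P.2
  have hcop : (Nat.card (P : Subgroup G)).Coprime (Nat.card K) := by
    rw [hn]
    exact Nat.Coprime.pow_left n ((Nat.Prime.coprime_iff_not_dvd hp).2 hKp)
  have hd1 : Nat.card (P : Subgroup G) ∣ Nat.card ((P : Subgroup G) ⊔ K : Subgroup G) :=
    Subgroup.card_dvd_of_le le_sup_left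
  have hd2 : Nat.card K ∣ Nat.card ((P : Subgroup G) ⊔ K : Subgroup G) :=
    Subgroup.card_dvd_of_le le_sup_right
  have hd3 : Nat.card (P : Subgroup G) * Nat.card K ∣ Nat.card ((P : Subgroup G) ⊔ K : Subgroup G) :=
    Nat.Coprime.mul_dvd_of_dvd_of_dvd hcop hd1 hd2
  have hle : Nat.card (NP P) ≤ Nat.card ((P : Subgroup G) ⊔ K : Subgroup G) := by
    rw [← hKcard, mul_comm]
    exact Nat.le_of_dvd Nat.card_pos hd3
  have hsup : (P : Subgroup G) ⊔ K = NP P := Subgroup.eq_of_le_of_card_ge hsupN hle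
  have hNle : NP P ≤ Subgroup.centralizer ({t} : Set G) := by
    rw [← hsup]; exact sup_le hPle hKle
  have hne : Subgroup.centralizer ({t} : Set G) ≠ ⊤ := by
    intro htop
    apply ht1
    apply h1.center t
    intro g
    have hg : g ∈ Subgroup.centralizer ({t} : Set G) := by rw [htop]; exact Subgroup.mem_top g
    rwa [Subgroup.mem_centralizer_singleton_iff] at hg
  exact h1.max P _ hNle hne

end Cfsg.Agent.Helper90.CYC
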