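import Mathlib
import Cfsg.Agent.Lib.Helper93.RU0
import Cfsg.Agent.Lib.Helper82.RUA

/-!
# RJ server (helper35, S2279), piece (R2): abstract core
`s = (1 + λ b' φ'ᵀ)(1 + λ b φᵀ)⁻¹`, `T = 1 + x v φᵀ`: `s T s⁻¹ T⁻¹ = 1 - ε λ x v φ'ᵀ`
when `φ·v = φ'·v = φ·b = 0`, `φ·b' = ε`.
-/

set_option autoImplicit false

namespace Cfsg.Agent.Helper90.RJ

open Matrix Cfsg.Agent.Helper93.RU Cfsg.Agent.Helper82.RU

variable {F : Type*} [Field F] {m : ℕ}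

theorem h90_tvM_mulVec (b ψ v : Fin (m + 3) → F) : tvM b ψ *ᵥ v = v + (ψ ⬝ᵥ v) • b := by
  unfold tvM
  rw [Matrix.add_mulVec, Matrix.one_mulVec, Matrix.vecMulVec_mulVec]
  congr 1
  ext i
  simp [mul_comm]

theorem h90_vecMul_tvM (b ψ φ : Fin (m + 3) → F) : φ ᵥ* tvM b ψ = φ + (φ ⬝ᵥ b) • ψ := by
  unfold tvM
  rw [Matrix.vecMul_add, Matrix.vecMul_one, Matrix.vecMul_vecMulVec]

/-- abstract (R2) -/
theorem h90_step_abs (v b b' φ φ' : Fin (m + 3) → F) (lam x ε : F)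
    (hv : φ ⬝ᵥ v = 0) (hv' : φ' ⬝ᵥ v = 0) (hb : φ ⬝ᵥ b = 0) (hb' : φ' ⬝ᵥ b' = 0)
    (hε : φ ⬝ᵥ b' = ε) :
    (tvS b' (lam • φ') * (tvS b (lam • φ))⁻¹) * tvS v (x • φ) *
      (tvS b' (lam • φ') * (tvS b (lam • φ))⁻¹)⁻¹ * (tvS v (x • φ))⁻¹ =
      tvS v ((-(ε * lam * x)) • φ') := by
  have h1 : (lam • φ) ⬝ᵥ b = 0 := by rw [smul_dotProduct, hb, smul_zero]
  have h1' : (lam • φ') ⬝ᵥ b' = 0 := by rw [smul_dotProduct, hb', smul_zero]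
  have hx : (x • φ) ⬝ᵥ v = 0 := by rw [smul_dotProduct, hv, smul_zero]
  have hBinv : (tvS b (lam • φ))⁻¹ = tvS b (-(lam • φ)) := tvS_inv b _ h1
  have h1n : (-(lam • φ)) ⬝ᵥ b = 0 := by rw [neg_dotProduct, h1, neg_zero]
  -- conjugation by `B = (tvS b (λ φ))⁻¹`
  obtain ⟨hB0, hBc⟩ := tvS_conj (tvS b (-(lam • φ))) v (x • φ) hx
  have hBv : (tvS b (-(lam • φ))).1 *ᵥ v = v := by
    rw [tvS_val _ _ h1n, h90_tvM_mulVec, neg_dotProduct, smul_dotProduct, hv, smul_zero, neg_zero,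
      zero_smul, add_zero]
  have hBi : (tvS b (-(lam • φ)))⁻¹ = tvS b (lam • φ) := by
    rw [← hBinv, inv_inv]
  have hBφ : (x • φ) ᵥ* ((tvS b (-(lam • φ)))⁻¹).1 = x • φ := by
    rw [hBi, tvS_val _ _ h1, h90_vecMul_tvM, smul_dotProduct, hb, smul_zero, zero_smul, add_zero]
  rw [hBv, hBφ] at hBc
  -- conjugation by `A = tvS b' (λ φ')`
  obtain ⟨hA0, hAc⟩ := tvS_conj (tvS b' (lam • φ')) v (x • φ) hx
  have hAv : (tvS b' (lam • φ')).1 *ᵥ v = v := by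
    rw [tvS_val _ _ h1', h90_tvM_mulVec, smul_dotProduct, hv', smul_zero, zero_smul, add_zero]
  have hAi : (tvS b' (lam • φ'))⁻¹ = tvS b' (-(lam • φ')) := tvS_inv b' _ h1'
  have h1'n : (-(lam • φ')) ⬝ᵥ b' = 0 := by rw [neg_dotProduct, h1', neg_zero]
  have hAφ : (x • φ) ᵥ* ((tvS b' (lam • φ'))⁻¹).1 = x • φ + (-(ε * lam * x)) • φ' := by
    rw [hAi, tvS_val _ _ h1'n, h90_vecMul_tvM, smul_dotProduct, hε]
    congr 1
    rw [smul_neg, smul_smul, neg_smul]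
    congr 2
    rw [smul_eq_mul]
    ring
  rw [hAv, hAφ] at hAc
  have hy : ((-(ε * lam * x)) • φ') ⬝ᵥ v = 0 := by rw [smul_dotProduct, hv', smul_zero]
  calc (tvS b' (lam • φ') * (tvS b (lam • φ))⁻¹) * tvS v (x • φ) *
      (tvS b' (lam • φ') * (tvS b (lam • φ))⁻¹)⁻¹ * (tvS v (x • φ))⁻¹
      = tvS b' (lam • φ') * (tvS b (-(lam • φ)) * tvS v (x • φ) * (tvS b (-(lam • φ)))⁻¹) *
          (tvS b' (lam • φ'))⁻¹ * (tvS v (x • φ))⁻¹ := by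
        rw [hBinv]; group
    _ = tvS v (x • φ + (-(ε * lam * x)) • φ') * (tvS v (x • φ))⁻¹ := by rw [hBc, hAc]
    _ = tvS v ((-(ε * lam * x)) • φ') := by
        rw [tvS_inv v _ hx, tvS_mul v _ _ (by rw [add_dotProduct, hx, hy, add_zero])
          (by rw [neg_dotProduct, hx, neg_zero])]
        congr 1
        abel

end Cfsg.Agent.Helper90.RJ
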