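import Mathlib
import Cfsg.Agent.Lib.Helper93.RU0
import Cfsg.Agent.Lib.Helper35.RJ0
import Cfsg.Agent.Lib.Helper82.RUA
import Cfsg.Agent.Lib.Helper87.RJP
import Cfsg.Agent.Lib.Helper90.RJR2a

/-!
# RJ server (helper35, S2279), piece (R2): `step_up`
-/

set_option autoImplicit false

namespace Cfsg.Agent.Helper90.RJ

open Matrix Cfsg.Agent.Helper93.RU Cfsg.Agent.Helper35.RJ

variable {F : Type*} [Field F] {m : ℕ}

theorem h90_pi_small (i : ℕ) (hi : i ≤ m + 1) : piZ m F (i : ℤ) = 0 := by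
  rw [Cfsg.Agent.Helper87.RJ.pi_nat, Nat.choose_eq_zero_of_lt (by omega), Nat.cast_zero]

/-- (R2) -/
theorem step_up (H : Subgroup (SLm m F)) (lam x : F) (j : ℤ) (d : ℕ) (hd : d ≤ m)
    (hs : sK lam j ∈ H) (hT : Tjk (m := m) (j + d) j x ∈ H) :
    Tjk (m := m) (j + d) (j - 1) (lam * x) ∈ H := by
  have hv : phV m F j ⬝ᵥ aV m F (j + d) = 0 := by
    rw [Cfsg.Agent.Helper87.RJ.pair]
    have : j + (d : ℤ) - j = ((d : ℕ) : ℤ) := by ring
    rw [this]
    exact h90_pi_small d (by omega)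
  have hv' : phV m F (j - 1) ⬝ᵥ aV m F (j + d) = 0 := by
    rw [Cfsg.Agent.Helper87.RJ.pair]
    have : j + (d : ℤ) - (j - 1) = ((d + 1 : ℕ) : ℤ) := by push_cast; ring
    rw [this]
    exact h90_pi_small (d + 1) (by omega)
  have hb : phV m F j ⬝ᵥ aV m F j = 0 := by
    rw [Cfsg.Agent.Helper87.RJ.pair]
    have : j - j = ((0 : ℕ) : ℤ) := by simp
    rw [this]
    exact h90_pi_small 0 (by omega)
  have hb' : phV m F (j - 1) ⬝ᵥ aV m F (j - 1) = 0 := by
    rw [Cfsg.Agent.Helper87.RJ.pair]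
    have : j - 1 - (j - 1) = ((0 : ℕ) : ℤ) := by simp
    rw [this]
    exact h90_pi_small 0 (by omega)
  have hε : phV m F j ⬝ᵥ aV m F (j - 1) = (-1) ^ (m + 2) := by
    rw [Cfsg.Agent.Helper87.RJ.pair]
    have : j - 1 - j = -1 := by ring
    rw [this]
    exact Cfsg.Agent.Helper87.RJ.pi_neg_one
  have hcomm := h90_step_abs (aV m F (j + d)) (aV m F j) (aV m F (j - 1)) (phV m F j)
    (phV m F (j - 1)) lam x ((-1) ^ (m + 2)) hv hv' hb hb' hε
  have hmem : tvS (aV m F (j + d)) ((-((-1) ^ (m + 2) * lam * x)) • phV m F (j - 1)) ∈ H := by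
    rw [← hcomm]
    exact H.mul_mem (H.mul_mem (H.mul_mem hs hT) (H.inv_mem hs)) (H.inv_mem hT)
  rcases neg_one_pow_eq_or F (m + 2) with h | h
  · -- sign `+1`: take the inverse
    rw [h, one_mul] at hmem
    have hy : ((-(lam * x)) • phV m F (j - 1)) ⬝ᵥ aV m F (j + d) = 0 := by
      rw [smul_dotProduct, hv', smul_zero]
    have := H.inv_mem hmem
    rw [Cfsg.Agent.Helper82.RU.tvS_inv _ _ hy, ← neg_smul, neg_neg] at this
    exact this
  · rw [h, neg_mul, neg_mul, one_mul, neg_neg] at hmem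
    exact hmem

end Cfsg.Agent.Helper90.RJ
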