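import Mathlib
import Cfsg.Agent.Lib.Helper31.H2Defs
import Cfsg.Agent.Lib.Helper52.CoprimeSylow

/-!
H2 server (helper31, S3786), piece (I1): coprime action, a `B`-invariant `q`-subgroup of `N` not centralised by `w`.
-/

set_option autoImplicit false

namespace Cfsg.Agent.Helper90.H2

open Cfsg Cfsg.Agent.Helper31.H2 Cfsg.Agent.Helper31.HHB Cfsg.Agent.Helper48.Wreath

/-- (I1) Coprime action: for each prime `q` there is a `B`-invariant Sylow `q`-subgroup of `N`; if `w`
centralised all of them it would centralise `N` (orders). -/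
theorem exists_q_not_centralized {H : Type*} [Group H] [Finite H] {p : ℕ} [Fact p.Prime]
    (B N : Subgroup H) (hB : IsPGroup p B) (hN : (Nat.card N).Coprime p)
    (hBN : ∀ b ∈ B, ∀ g ∈ N, b * g * b⁻¹ ∈ N) (w : H) (hw : w ∈ B)
    (hwN : ∃ g ∈ N, w * g ≠ g * w) :
    ∃ (q : ℕ) (Q : Subgroup H), q.Prime ∧ q ≠ p ∧ Q ≤ N ∧ IsPGroup q Q ∧
      (∀ b ∈ B, ∀ g ∈ Q, b * g * b⁻¹ ∈ Q) ∧ ∃ g ∈ Q, w * g ≠ g * w := by
  classical
  have _ := hw
  have hp : p.Prime := Fact.out
  by_contra hcon
  push Not at hcon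
  -- `B` normalises `N`
  have hBnorm : B ≤ Subgroup.normalizer (N : Set H) := by
    intro b hb
    rw [Subgroup.mem_normalizer_iff]
    intro g
    refine ⟨fun hg => hBN b hb g hg, fun hg => ?_⟩
    have := hBN b⁻¹ (B.inv_mem hb) _ hg
    simpa [mul_assoc] using this
  obtain ⟨k, hk⟩ := IsPGroup.iff_card.1 hB
  have hcop : (Nat.card B).Coprime (Nat.card N) := by
    rw [hk]; exact Nat.Coprime.pow_left k hN.symm
  have hsolv : Group.IsSolvable B ∨ Group.IsSolvable N := by
    left
    have : Group.IsNilpotent B := hB.isNilpotent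
    infer_instance
  -- the centraliser of `w` in `N`
  set C : Subgroup H := N ⊓ Subgroup.centralizer ({w} : Set H) with hC
  have hCN : C ≤ N := inf_le_left
  have hdvd : Nat.card N ∣ Nat.card C := by
    have hN0 : Nat.card N ≠ 0 := Nat.card_pos.ne'
    have hC0 : Nat.card C ≠ 0 := Nat.card_pos.ne'
    rw [← Nat.factorization_prime_le_iff_dvd hN0 hC0]
    intro q hq
    have : Fact q.Prime := ⟨hq⟩
    obtain ⟨Q, hQN, hQc, hQB⟩ := Cfsg.Agent.Helper52.exists_invariant_sylow B N hBnorm hcop hsolv q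
    have hQq : IsPGroup q Q := IsPGroup.of_card hQc
    have hQinv : ∀ b ∈ B, ∀ g ∈ Q, b * g * b⁻¹ ∈ Q := by
      intro b hb g hg
      exact (Subgroup.mem_normalizer_iff.1 (hQB hb) g).1 hg
    by_cases hqp : q = p
    · -- `p ∤ |N|`
      have : (Nat.card N).factorization q = 0 := by
        rw [hqp]
        exact Nat.factorization_eq_zero_of_not_dvd ((Nat.Prime.coprime_iff_not_dvd hp).1 hN.symm)
      rw [this]; exact Nat.zero_le _
    · have hcent := hcon q Q hq hqp hQN hQq hQinv
      have hQC : Q ≤ C := by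
        intro g hg
        refine Subgroup.mem_inf.2 ⟨hQN hg, ?_⟩
        rw [Subgroup.mem_centralizer_singleton_iff]
        exact (hcent g hg).symm
      have h1 : Nat.card Q ∣ Nat.card C := Subgroup.card_dvd_of_le hQC
      rw [hQc, Cfsg.Agent.Helper52.sylCard] at h1
      exact (hq.pow_dvd_iff_le_factorization hC0).1 h1
  have hCeq : C = N := Subgroup.eq_of_le_of_card_ge hCN (Nat.le_of_dvd Nat.card_pos hdvd)
  obtain ⟨g, hg, hwg⟩ := hwN
  apply hwg
  have hgC : g ∈ C := by rw [hCeq]; exact hg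
  have := (Subgroup.mem_inf.1 hgC).2
  rw [Subgroup.mem_centralizer_singleton_iff] at this
  exact this.symm

end Cfsg.Agent.Helper90.H2
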