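import Mathlib
import Cfsg.Agent.Lib.Helper31.H2Defs

/-!
H2 server (helper31, S3786), piece (I2a): a `B`-invariant subgroup of `Q` not centralised by `w`, of minimal order.
-/

set_option autoImplicit false

namespace Cfsg.Agent.Helper90.H2

open Cfsg Cfsg.Agent.Helper31.H2 Cfsg.Agent.Helper31.HHB Cfsg.Agent.Helper48.Wreath

/-- (I2a) A `B`-invariant subgroup of `Q` not centralised by `w`, of minimal order. -/
theorem exists_minimal_R {H : Type*} [Group H] [Finite H] (B Q : Subgroup H)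
    (hBQ : ∀ b ∈ B, ∀ g ∈ Q, b * g * b⁻¹ ∈ Q) (w : H) (hwQ : ∃ g ∈ Q, w * g ≠ g * w) :
    ∃ R : Subgroup H, R ≤ Q ∧ (∀ b ∈ B, ∀ g ∈ R, b * g * b⁻¹ ∈ R) ∧ (∃ g ∈ R, w * g ≠ g * w) ∧
      ∀ M : Subgroup H, M ≤ R → M ≠ R → (∀ b ∈ B, ∀ g ∈ M, b * g * b⁻¹ ∈ M) →
        ∀ g ∈ M, w * g = g * w := by
  classical
  let P : ℕ → Prop := fun n => ∃ R : Subgroup H, R ≤ Q ∧ (∀ b ∈ B, ∀ g ∈ R, b * g * b⁻¹ ∈ R) ∧
    (∃ g ∈ R, w * g ≠ g * w) ∧ Nat.card R = n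
  have hP : ∃ n, P n := ⟨Nat.card Q, Q, le_rfl, hBQ, hwQ, rfl⟩
  obtain ⟨R, hRQ, hRB, hRw, hRc⟩ := Nat.find_spec hP
  refine ⟨R, hRQ, hRB, hRw, ?_⟩
  intro M hMR hne hMB
  by_contra hcon
  push Not at hcon
  have hPM : P (Nat.card M) := ⟨M, hMR.trans hRQ, hMB, hcon, rfl⟩
  have hle := Nat.find_min' hP hPM
  rw [← hRc] at hle
  exact hne (Subgroup.eq_of_le_of_card_ge hMR hle)

end Cfsg.Agent.Helper90.H2
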