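import Mathlib
import Cfsg.Agent.Lib.Helper31.H2Defs
import Cfsg.Agent.Lib.Helper52.Coprime

/-!
H2 server (helper31, S3786), piece (I2b): the minimal configuration `MinCfg B R R₁`.

Route: `Ŵ` = normal closure of `w` in `B` centralises every proper `B`-invariant subgroup of `R`; `[R,Ŵ] = R`
(coprime action); `R₁` = a maximal proper `B`-invariant subgroup of `R` containing `R' = [R,R]` (`R' < R` since
`R ≠ 1` is nilpotent); the three subgroups lemma gives `[R₁,R] = [R₁,[R,Ŵ]] = 1`.  (The Frattini subgroup is not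
needed: `R'` does the job.)
-/

set_option autoImplicit false

namespace Cfsg.Agent.Helper90.H2

open Cfsg Cfsg.Agent.Helper31.H2 Cfsg.Agent.Helper31.HHB Cfsg.Agent.Helper48.Wreath
open scoped commutatorElement

/-- `B`-invariance gives membership in the normaliser. -/
theorem i2b_le_normalizer {H : Type*} [Group H] (B M : Subgroup H)
    (hBM : ∀ b ∈ B, ∀ g ∈ M, b * g * b⁻¹ ∈ M) : B ≤ Subgroup.normalizer (M : Set H) := by
  intro b hb
  rw [Subgroup.mem_normalizer_iff]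
  intro g
  refine ⟨fun hg => hBM b hb g hg, fun hg => ?_⟩
  have := hBM b⁻¹ (B.inv_mem hb) _ hg
  simpa [mul_assoc] using this

/-- Commutator subgroups of `B`-invariant subgroups are `B`-invariant. -/
theorem i2b_commutator_inv {H : Type*} [Group H] (B X Y : Subgroup H)
    (hX : ∀ b ∈ B, ∀ g ∈ X, b * g * b⁻¹ ∈ X) (hY : ∀ b ∈ B, ∀ g ∈ Y, b * g * b⁻¹ ∈ Y) :
    ∀ b ∈ B, ∀ g ∈ ⁅X, Y⁆, b * g * b⁻¹ ∈ ⁅X, Y⁆ := by
  intro b hb
  have hle : ⁅X, Y⁆ ≤ (⁅X, Y⁆).comap (MulAut.conj b).toMonoidHom := by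
    rw [Subgroup.commutator_le]
    intro x hx y hy
    rw [Subgroup.mem_comap, map_commutatorElement]
    refine Subgroup.commutator_mem_commutator ?_ ?_
    · simpa [MulAut.conj_apply] using hX b hb x hx
    · simpa [MulAut.conj_apply] using hY b hb y hy
  intro g hg
  have := hle hg
  simpa [Subgroup.mem_comap, MulAut.conj_apply] using this

/-- (I2b) the minimal configuration. -/
theorem exists_R1 {H : Type*} [Group H] [Finite H] {p q : ℕ} [Fact p.Prime] (hq : q.Prime) (hqp : q ≠ p)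
    (B R : Subgroup H) (hB : IsPGroup p B) (hR : IsPGroup q R)
    (hBR : ∀ b ∈ B, ∀ g ∈ R, b * g * b⁻¹ ∈ R) (w : H) (hw : w ∈ B) (hwR : ∃ g ∈ R, w * g ≠ g * w)
    (hmin : ∀ M : Subgroup H, M ≤ R → M ≠ R → (∀ b ∈ B, ∀ g ∈ M, b * g * b⁻¹ ∈ M) →
      ∀ g ∈ M, w * g = g * w) :
    ∃ R₁ : Subgroup H, MinCfg B R R₁ := by
  classical
  have hp : p.Prime := Fact.out
  have : Fact q.Prime := ⟨hq⟩
  -- the normal closure of `w` in `B`
  set W : Subgroup H := Subgroup.closure {x | ∃ b ∈ B, x = b * w * b⁻¹} with hW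
  have hwW : w ∈ W := Subgroup.subset_closure ⟨1, B.one_mem, by simp⟩
  have hWB : W ≤ B := by
    rw [hW, Subgroup.closure_le]
    rintro x ⟨b, hb, rfl⟩
    exact B.mul_mem (B.mul_mem hb hw) (B.inv_mem hb)
  have hWinv : ∀ b ∈ B, ∀ x ∈ W, b * x * b⁻¹ ∈ W := by
    intro b hb
    have hle : W ≤ W.comap (MulAut.conj b).toMonoidHom := by
      rw [hW, Subgroup.closure_le]
      rintro x ⟨c, hc, rfl⟩
      rw [SetLike.mem_coe, Subgroup.mem_comap]
      apply Subgroup.subset_closure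
      refine ⟨b * c, B.mul_mem hb hc, ?_⟩
      simp [MulAut.conj_apply, mul_assoc]
    intro x hx
    have := hle hx
    simpa [Subgroup.mem_comap, MulAut.conj_apply] using this
  -- `Ŵ` centralises every proper `B`-invariant subgroup of `R`
  have hWcent : ∀ M : Subgroup H, M ≤ R → M ≠ R → (∀ b ∈ B, ∀ g ∈ M, b * g * b⁻¹ ∈ M) →
      W ≤ Subgroup.centralizer (M : Set H) := by
    intro M hMR hne hMB
    rw [hW, Subgroup.closure_le]
    rintro x ⟨b, hb, rfl⟩
    rw [SetLike.mem_coe, Subgroup.mem_centralizer_iff]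
    intro g hg
    have hg' : b⁻¹ * g * b ∈ M := by
      have := hMB b⁻¹ (B.inv_mem hb) g hg
      simpa using this
    have hc := hmin M hMR hne hMB _ hg'
    calc g * (b * w * b⁻¹) = b * ((b⁻¹ * g * b) * w) * b⁻¹ := by group
      _ = b * (w * (b⁻¹ * g * b)) * b⁻¹ := by rw [hc]
      _ = b * w * b⁻¹ * g := by group
  -- `[R, Ŵ] = R`
  have hWR : ∀ b ∈ W, ∀ g ∈ R, b * g * b⁻¹ ∈ R := fun b hb => hBR b (hWB hb)
  have hWnorm : W ≤ Subgroup.normalizer (R : Set H) := i2b_le_normalizer W R hWR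
  have hcomle : ⁅R, W⁆ ≤ R := Cfsg.Agent.Helper24.commutator_le_of_le_normalizer R W hWnorm
  have hcominv : ∀ b ∈ B, ∀ g ∈ ⁅R, W⁆, b * g * b⁻¹ ∈ ⁅R, W⁆ := i2b_commutator_inv B R W hBR hWinv
  have hWp : IsPGroup p W := hB.to_le hWB
  obtain ⟨a, ha⟩ := IsPGroup.iff_card.1 hWp
  obtain ⟨c, hc⟩ := IsPGroup.iff_card.1 hR
  have hcop : (Nat.card W).Coprime (Nat.card R) := by
    rw [ha, hc]
    exact Nat.Coprime.pow a c ((Nat.coprime_primes hp hq).2 (Ne.symm hqp))
  have hsolv : Group.IsSolvable W ∨ Group.IsSolvable R := by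
    left
    have : Group.IsNilpotent W := hWp.isNilpotent
    infer_instance
  have hcomeq : ⁅R, W⁆ = R := by
    by_contra hne
    have h1 := hWcent ⁅R, W⁆ hcomle hne hcominv
    have h2 : ⁅⁅R, W⁆, W⁆ = ⊥ := by
      rw [Subgroup.commutator_eq_bot_iff_le_centralizer]
      intro g hg
      rw [Subgroup.mem_centralizer_iff]
      intro x hx
      have := Subgroup.mem_centralizer_iff.1 (h1 hx) g hg
      exact this.symm
    rw [Cfsg.Agent.Helper52.commutator_commutator_eq R W hWnorm hcop hsolv] at h2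
    rw [Subgroup.commutator_eq_bot_iff_le_centralizer] at h2
    obtain ⟨g, hg, hwg⟩ := hwR
    apply hwg
    exact Subgroup.mem_centralizer_iff.1 (h2 hg) w hwW
  -- `R' < R`
  have hRne : R ≠ ⊥ := by
    obtain ⟨g, hg, hwg⟩ := hwR
    intro h
    rw [h, Subgroup.mem_bot] at hg
    apply hwg; rw [hg, mul_one, one_mul]
  have hR'lt : ⁅R, R⁆ < R := by
    have hnt : Nontrivial R := (Subgroup.nontrivial_iff_ne_bot R).2 hRne
    have hnil : Group.IsNilpotent R := hR.isNilpotent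
    have hsol : Group.IsSolvable R := inferInstance
    have h1 : commutator R < ⊤ := Group.IsSolvable.commutator_lt_top_of_nontrivial R
    have h2 : (commutator R).map R.subtype < (⊤ : Subgroup R).map R.subtype :=
      Subgroup.map_subtype_lt_map_subtype.2 h1
    rw [commutator_def, Subgroup.map_commutator, ← MonoidHom.range_eq_map, Subgroup.range_subtype] at h2
    exact h2
  have hR'inv : ∀ b ∈ B, ∀ g ∈ ⁅R, R⁆, b * g * b⁻¹ ∈ ⁅R, R⁆ := i2b_commutator_inv B R R hBR hBR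
  -- a maximal proper `B`-invariant subgroup containing `R'`
  let S : Set (Subgroup H) := {M | ⁅R, R⁆ ≤ M ∧ M ≤ R ∧ M ≠ R ∧ ∀ b ∈ B, ∀ g ∈ M, b * g * b⁻¹ ∈ M}
  have hSne : S.Nonempty := ⟨⁅R, R⁆, le_rfl, hR'lt.le, hR'lt.ne, hR'inv⟩
  obtain ⟨R₁, hR₁S, hR₁max⟩ := Set.Finite.exists_maximal (Set.toFinite S) hSne
  obtain ⟨hR'R₁, hR₁R, hR₁ne, hR₁inv⟩ := hR₁S
  -- `R₁` is central in `R`
  have hWR₁ : W ≤ Subgroup.centralizer (R₁ : Set H) := hWcent R₁ hR₁R hR₁ne hR₁inv
  have hR₁W : R₁ ≤ Subgroup.centralizer (W : Set H) := by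
    intro g hg
    rw [Subgroup.mem_centralizer_iff]
    intro x hx
    exact (Subgroup.mem_centralizer_iff.1 (hWR₁ hx) g hg).symm
  have h1 : ⁅⁅W, R₁⁆, R⁆ = ⊥ := by
    have : ⁅W, R₁⁆ = ⊥ := Subgroup.commutator_eq_bot_iff_le_centralizer.2 hWR₁
    rw [this]; exact Subgroup.commutator_bot_left R
  have h2 : ⁅⁅R₁, R⁆, W⁆ = ⊥ := by
    rw [Subgroup.commutator_eq_bot_iff_le_centralizer]
    exact ((Subgroup.commutator_mono hR₁R le_rfl).trans hR'R₁).trans hR₁W
  have h3 : ⁅⁅R, W⁆, R₁⁆ = ⊥ := Subgroup.commutator_commutator_eq_bot_of_rotate h1 h2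
  rw [hcomeq, Subgroup.commutator_eq_bot_iff_le_centralizer] at h3
  refine ⟨R₁, ?_⟩
  refine
    { le := hR₁R
      ne := hR₁ne
      invR := hBR
      invR₁ := hR₁inv
      central := ?_
      comm := ?_
      max := ?_ }
  · intro x hx g hg
    exact Subgroup.mem_centralizer_iff.1 (h3 hg) x hx
  · intro x hx g hg
    have : cmt x g = ⁅x, g⁆ := by rw [cmt, commutatorElement_def]
    rw [this]
    exact hR'R₁ (Subgroup.commutator_mem_commutator hx hg)
  · intro M hR₁M hMR hMinv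
    by_cases hM : M = R
    · exact Or.inr hM
    · left
      have hMS : M ∈ S := ⟨hR'R₁.trans hR₁M, hMR, hM, hMinv⟩
      exact le_antisymm (hR₁max hMS hR₁M) hR₁M

end Cfsg.Agent.Helper90.H2
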