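import Mathlib
import Cfsg.Agent.Lib.Helper31.SCHDefs
import Cfsg.Agent.Lib.Helper63.PLen
import Cfsg.Agent.Lib.Helper55.Cores
import Cfsg.Agent.S0635

/-!
# SCH (G0) for helper31 (S4394): `p`-length `≤ 1` lifts from `G ⧸ O_{p'}(G)`.
-/

set_option autoImplicit false

namespace Cfsg.Agent.Helper90.SCH
open Cfsg Cfsg.Agent.Helper31.SCH

section G
variable {G : Type*} [Group G] [Finite G] {p : ℕ} [Fact p.Prime]

/-- (G0) [S-M] pull the chain back along `mk'`; the bottom term becomes `pPrimeCore p G`, a normal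
`p'`-subgroup. -/
theorem PL_of_quot_pPrimeCore (h : PLengthLE p 1 (G ⧸ pPrimeCore p G)) : PLengthLE p 1 G := by
  apply Cfsg.Agent.Helper63.PLengthLE_of_PL
  have h1 := Cfsg.Agent.S0635.PL_comap (pPrimeCore p G) (Cfsg.Agent.Helper63.PL_of_PLengthLE p h)
  rw [MonoidHom.comap_bot, QuotientGroup.ker_mk', Subgroup.comap_top] at h1
  have h0 : Cfsg.Agent.Helper63.PL p 0 (⊥ : Subgroup G) (pPrimeCore p G) := by
    refine Cfsg.Agent.Helper63.PL.base ⊥ _ bot_le inferInstance inferInstance ?_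
    rw [Subgroup.relIndex_bot_left]
    exact Cfsg.Agent.Helper55.pPrimeCore_coprime p
  have h2 := h0.trans h1
  rwa [Nat.zero_add] at h2

end G

end Cfsg.Agent.Helper90.SCH
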