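import Mathlib
import Cfsg.Agent.Lib.Helper31.SCHDefs
import Cfsg.Agent.Lib.Helper63.PLen

/-!
# SCH (N) for helper31 (S4394): a normal Sylow `p`-subgroup gives `p`-length `≤ 1`.
-/

set_option autoImplicit false

namespace Cfsg.Agent.Helper90.SCH
open Cfsg Cfsg.Agent.Helper31.SCH

section G
variable {G : Type*} [Group G] [Finite G] {p : ℕ} [Fact p.Prime]

/-- (N) [S-M] a normal Sylow `p`-subgroup gives `p`-length `≤ 1`. -/
theorem PL_of_normal_sylow (P : Sylow p G) (hn : (P : Subgroup G).Normal) : PLengthLE p 1 G := by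
  have hp : p.Prime := Fact.out
  apply Cfsg.Agent.Helper63.PLengthLE_of_PL
  refine Cfsg.Agent.Helper63.PL.step 0 ⊥ ⊥ (P : Subgroup G) ⊤
    (Cfsg.Agent.Helper63.PL.base ⊥ ⊥ le_rfl inferInstance inferInstance (by simp))
    bot_le le_top hn inferInstance ?_ ?_
  · rw [Subgroup.relIndex_bot_left]
    exact P.isPGroup'.exists_card_eq
  · rw [Subgroup.relIndex_top_right]
    exact ((Nat.Prime.coprime_iff_not_dvd hp).2 P.not_dvd_index).symm

end G

end Cfsg.Agent.Helper90.SCH
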