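import Mathlib
import Cfsg.Agent.Lib.Helper31.SCHDefs

/-!
# SCH (SQ1) for helper31 (S4394): Sylow `p`-subgroups of a quotient by a normal `p'`-subgroup.
-/

set_option autoImplicit false

namespace Cfsg.Agent.Helper90.SCH
open Cfsg Cfsg.Agent.Helper31.SCH

section G
variable {G : Type*} [Group G] [Finite G] {p : ℕ} [Fact p.Prime]

/-- A `p`-subgroup meets a subgroup of order prime to `p` trivially. -/
theorem sq1_eq_one (N Q : Subgroup G) (hN : (Nat.card N).Coprime p) (hQ : IsPGroup p ↥Q) :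
    ∀ x ∈ Q, x ∈ N → x = 1 := by
  intro x hxQ hxN
  obtain ⟨k, hk⟩ := hQ ⟨x, hxQ⟩
  have hk' : x ^ p ^ k = 1 := by
    have := congrArg Subtype.val hk
    simpa using this
  have h1 : orderOf x ∣ p ^ k := orderOf_dvd_of_pow_eq_one hk'
  have h2 : orderOf x ∣ Nat.card ↥N := by
    have h3 : orderOf (⟨x, hxN⟩ : ↥N) = orderOf x := by
      rw [← Subgroup.orderOf_coe]
    rw [← h3]
    exact orderOf_dvd_natCard _
  have hcop : Nat.Coprime (p ^ k) (Nat.card ↥N) := (Nat.Coprime.pow_right k hN).symm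
  have h4 : orderOf x ∣ 1 := by
    have := Nat.dvd_gcd h1 h2
    rwa [hcop] at this
  exact orderOf_eq_one_iff.1 (Nat.dvd_one.1 h4)

/-- (SQ1) [M] `P' = P.map (mk' N)` has order `|P|` (`P ⊓ N = ⊥`) `= |G/N|_p`; `Sylow.ofCard`; the
restriction of `mk'` to `P` is injective. -/
theorem sylow_quot_pprime (N : Subgroup G) [N.Normal] (hN : (Nat.card N).Coprime p) (P : Sylow p G) :
    ∃ P' : Sylow p (G ⧸ N), Nonempty (↥(P' : Subgroup (G ⧸ N)) ≃* ↥(P : Subgroup G)) := by
  refine ⟨P.mapSurjective (QuotientGroup.mk'_surjective N), ?_⟩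
  let f : ↥(P : Subgroup G) →* G ⧸ N := (QuotientGroup.mk' N).comp (P : Subgroup G).subtype
  have hinj : Function.Injective f := by
    rw [injective_iff_map_eq_one]
    intro x hx
    have hxN : (x : G) ∈ N := by
      have : (QuotientGroup.mk' N) (x : G) = 1 := hx
      rwa [QuotientGroup.mk'_apply, QuotientGroup.eq_one_iff] at this
    apply Subtype.ext
    exact sq1_eq_one N (P : Subgroup G) hN P.isPGroup' _ x.2 hxN
  have hrange : f.range =
      ((P.mapSurjective (QuotientGroup.mk'_surjective N) : Sylow p (G ⧸ N)) : Subgroup (G ⧸ N)) := by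
    rw [Sylow.coe_mapSurjective, MonoidHom.range_comp, Subgroup.range_subtype]
  exact ⟨((MonoidHom.ofInjective hinj).trans (MulEquiv.subgroupCongr hrange)).symm⟩

end G

end Cfsg.Agent.Helper90.SCH
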