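import Mathlib
import Cfsg.Agent.Lib.Helper32.C3Defs

/-!
# C3 server (helper32, S4415), piece S5: `R_eq_T_of_card_32`
-/
set_option autoImplicit false

namespace Cfsg.Agent.Helper90.C3

open Cfsg.Agent.Helper32.C3

universe u v

/-- fixed point congruence for a self-map of prime order -/
theorem card_fix_modEq {X : Type*} [Finite X] (p : ℕ) [hp : Fact p.Prime] (f : X → X)
    (hf : ∀ x, f^[p] x = x) : Nat.card X ≡ Nat.card {x : X // f x = x} [MOD p] := by
  classical
  have := Fintype.ofFinite X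
  let F : Function.End X := f
  have h1 : F ^ p ^ 1 = 1 := by
    rw [pow_one]
    funext x
    have h2 : ∀ n : ℕ, (F ^ n) x = f^[n] x := by
      intro n
      induction n with
      | zero => rfl
      | succ n ih =>
        rw [pow_succ', Function.iterate_succ_apply']
        show F ((F ^ n) x) = _
        rw [ih]
    rw [h2]
    exact hf x
  have := Equiv.Perm.card_fixedPoints_modEq (f := F) (p := p) (n := 1) h1
  rw [Nat.card_eq_fintype_card]
  have e : Nat.card {x : X // f x = x} = Fintype.card (Function.fixedPoints F) := by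
    rw [← Nat.card_eq_fintype_card]
    rfl
  rw [e]
  exact this

/-- free actions: the group order divides the size of the set -/
theorem card_dvd_of_free {H : Type*} [Group H] {X : Type*} [MulAction H X]
    (hfree : ∀ (h : H) (x : X), h • x = x → h = 1) : Nat.card H ∣ Nat.card X := by
  have hst : ∀ x : X, MulAction.stabilizer H x = ⊥ := by
    intro x
    rw [Subgroup.eq_bot_iff_forall]
    intro g hg
    exact hfree g x (MulAction.mem_stabilizer_iff.1 hg)
  rw [Nat.card_congr (MulAction.selfEquivOrbitsQuotientProd hst), Nat.card_prod]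
  exact Dvd.intro_left _ rfl

section Lin

variable {G : Type u} [Group G] {V : Type v} [AddCommGroup V] [Module (ZMod 3) V] [Finite V]

theorem card_submodule (N : Submodule (ZMod 3) V) :
    Nat.card N = 3 ^ Module.finrank (ZMod 3) N := by
  have := Module.natCard_eq_pow_finrank (K := ZMod 3) (V := N)
  rwa [Nat.card_zmod] at this

theorem mem_ker_dl (ρ : Representation (ZMod 3) G V) (c : G) (v : V) :
    v ∈ LinearMap.ker (dl ρ c) ↔ ρ c v = v := by
  rw [LinearMap.mem_ker, dl_apply, sub_eq_zero]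

theorem lin_count (ρ : Representation (ZMod 3) G V) (c : G) (p : ℕ) [Fact p.Prime]
    (hc : c ^ p = 1) (K : Submodule (ZMod 3) V) (hK : ∀ v ∈ K, ρ c v ∈ K) :
    Nat.card K ≡ Nat.card ↥(K ⊓ LinearMap.ker (dl ρ c)) [MOD p] := by
  let f : K → K := fun w => ⟨ρ c w.1, hK w.1 w.2⟩
  have hit : ∀ (n : ℕ) (w : K), (f^[n] w).1 = ρ (c ^ n) w.1 := by
    intro n
    induction n with
    | zero => intro w; simp
    | succ n ih =>
      intro w
      rw [Function.iterate_succ_apply', pow_succ', map_mul]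
      show ρ c (f^[n] w).1 = _
      rw [ih]
      rfl
  have h1 := card_fix_modEq p f (fun w => Subtype.ext (by rw [hit, hc, map_one]; rfl))
  have e : {w : K // f w = w} ≃ ↥(K ⊓ LinearMap.ker (dl ρ c)) :=
    { toFun := fun w => ⟨w.1.1, w.1.2, (mem_ker_dl ρ c _).2 (congrArg Subtype.val w.2)⟩
      invFun := fun w => ⟨⟨w.1, w.2.1⟩, Subtype.ext ((mem_ker_dl ρ c _).1 w.2.2)⟩
      left_inv := fun w => rfl
      right_inv := fun w => rfl }
  rw [Nat.card_congr e] at h1
  exact h1

theorem fix_pow (ρ : Representation (ZMod 3) G V) (g : G) (v : V) (h : ρ g v = v) (m : ℕ) :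
    ρ (g ^ m) v = v := by
  induction m with
  | zero => simp
  | succ m ih => rw [pow_succ, map_mul, Module.End.mul_apply, h, ih]

end Lin

section Conj

variable {G : Type u} [Group G]

theorem conj_count (H : Subgroup G) [Finite H] (c : G) (p : ℕ) [Fact p.Prime] (hc : c ^ p = 1)
    (hH : ∀ x ∈ H, c * x * c⁻¹ ∈ H) :
    Nat.card H ≡ Nat.card ↥(H ⊓ Subgroup.centralizer ({c} : Set G)) [MOD p] := by
  let f : H → H := fun w => ⟨c * w.1 * c⁻¹, hH w.1 w.2⟩
  have hit : ∀ (n : ℕ) (w : H), (f^[n] w).1 = c ^ n * w.1 * (c ^ n)⁻¹ := by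
    intro n
    induction n with
    | zero => intro w; simp
    | succ n ih =>
      intro w
      rw [Function.iterate_succ_apply']
      show c * (f^[n] w).1 * c⁻¹ = _
      rw [ih, pow_succ']
      group
  have h1 := card_fix_modEq p f (fun w => Subtype.ext (by rw [hit, hc]; simp))
  have hmem : ∀ x : G, x ∈ Subgroup.centralizer ({c} : Set G) ↔ c * x * c⁻¹ = x := by
    intro x
    rw [Subgroup.mem_centralizer_iff]
    constructor
    · intro h
      rw [h c rfl]; group
    · intro h y hy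
      rw [Set.mem_singleton_iff] at hy
      subst hy
      rw [mul_inv_eq_iff_eq_mul] at h
      exact h
  have e : {w : H // f w = w} ≃ ↥(H ⊓ Subgroup.centralizer ({c} : Set G)) :=
    { toFun := fun w => ⟨w.1.1, w.1.2, (hmem _).2 (congrArg Subtype.val w.2)⟩
      invFun := fun w => ⟨⟨w.1, w.2.1⟩, Subtype.ext ((hmem _).1 w.2.2)⟩
      left_inv := fun w => rfl
      right_inv := fun w => rfl }
  rw [Nat.card_congr e] at h1
  exact h1

end Conj
section Main

variable {G : Type u} [Group G] [Finite G] {V : Type v} [AddCommGroup V] [Module (ZMod 3) V]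
  [Finite V]

theorem ker_ne_top (ρ : Representation (ZMod 3) G V) (hfaith : Function.Injective ρ)
    (x : G) (hx1 : x ≠ 1) : LinearMap.ker (dl ρ x) ≠ ⊤ := by
  intro htop
  apply hx1
  apply hfaith
  rw [map_one]
  ext v
  have hv : v ∈ LinearMap.ker (dl ρ x) := htop ▸ Submodule.mem_top
  rw [mem_ker_dl] at hv
  simpa using hv

/-- the basic congruence `81 ≡ 3^k (mod p)`, `k ≤ 3` -/
theorem basic_congr (ρ : Representation (ZMod 3) G V) (hfaith : Function.Injective ρ)
    (hn : Module.finrank (ZMod 3) V = 4) (p : ℕ) [Fact p.Prime] (x : G) (hxp : x ^ p = 1)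
    (hx1 : x ≠ 1) :
    Module.finrank (ZMod 3) (LinearMap.ker (dl ρ x)) ≤ 3 ∧
      81 ≡ 3 ^ Module.finrank (ZMod 3) (LinearMap.ker (dl ρ x)) [MOD p] := by
  have h := lin_count ρ x p hxp ⊤ (fun _ _ => Submodule.mem_top)
  rw [top_inf_eq, card_submodule, card_submodule, finrank_top, hn] at h
  have hk4 : Module.finrank (ZMod 3) (LinearMap.ker (dl ρ x)) ≤ 4 :=
    hn ▸ Submodule.finrank_le _
  have hk4' : Module.finrank (ZMod 3) (LinearMap.ker (dl ρ x)) ≠ 4 := by
    intro hk
    exact ker_ne_top ρ hfaith x hx1 (Submodule.eq_top_of_finrank_eq (hk.trans hn.symm))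
  refine ⟨by omega, ?_⟩
  norm_num at h ⊢
  exact h

theorem no_fix_of_five (ρ : Representation (ZMod 3) G V) (hfaith : Function.Injective ρ)
    (hn : Module.finrank (ZMod 3) V = 4) (x : G) (hx5 : x ^ 5 = 1) (hx1 : x ≠ 1) :
    LinearMap.ker (dl ρ x) = ⊥ := by
  have : Fact (Nat.Prime 5) := ⟨by norm_num⟩
  obtain ⟨hk, h⟩ := basic_congr ρ hfaith hn 5 x hx5 hx1
  have : Module.finrank (ZMod 3) (LinearMap.ker (dl ρ x)) = 0 := by
    generalize Module.finrank (ZMod 3) (LinearMap.ker (dl ρ x)) = k at hk h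
    interval_cases k
    · rfl
    · exact absurd h (by decide)
    · exact absurd h (by decide)
    · exact absurd h (by decide)
  exact Submodule.finrank_eq_zero.1 this

theorem odd_part (p : ℕ) (hp : p.Prime) (hp2 : p ≠ 2) (hp3 : p ≠ 3) (a b m : ℕ)
    (h : p ∣ 2 ^ a * 3 ^ b * m) : p ∣ m := by
  rcases (Nat.Prime.dvd_mul hp).1 h with h | h
  · rcases (Nat.Prime.dvd_mul hp).1 h with h | h
    · exact absurd ((Nat.prime_dvd_prime_iff_eq hp Nat.prime_two).1 (hp.dvd_of_dvd_pow h)) hp2
    · exact absurd ((Nat.prime_dvd_prime_iff_eq hp Nat.prime_three).1 (hp.dvd_of_dvd_pow h)) hp3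
  · exact h

theorem prime_cases (ρ : Representation (ZMod 3) G V) (hfaith : Function.Injective ρ)
    (hn : Module.finrank (ZMod 3) V = 4) (p : ℕ) [hp : Fact p.Prime] (hp2 : p ≠ 2) (hp3 : p ≠ 3)
    (x : G) (hxp : x ^ p = 1) (hx1 : x ≠ 1) : p = 5 ∨ p = 13 := by
  obtain ⟨hk, h⟩ := basic_congr ρ hfaith hn p x hxp hx1
  generalize Module.finrank (ZMod 3) (LinearMap.ker (dl ρ x)) = k at hk h
  have hle : 3 ^ k ≤ 81 := by
    calc 3 ^ k ≤ 3 ^ 3 := Nat.pow_le_pow_right (by norm_num) hk
      _ ≤ 81 := by norm_num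
  have hd : p ∣ 81 - 3 ^ k := (Nat.modEq_iff_dvd' hle).1 h.symm
  interval_cases k
  · left
    have : p ∣ 5 := odd_part p hp.out hp2 hp3 4 0 5 (by norm_num at hd ⊢; exact hd)
    exact (Nat.prime_dvd_prime_iff_eq hp.out (by norm_num)).1 this
  · right
    have : p ∣ 13 := odd_part p hp.out hp2 hp3 1 1 13 (by norm_num at hd ⊢; exact hd)
    exact (Nat.prime_dvd_prime_iff_eq hp.out (by norm_num)).1 this
  · exfalso
    have : p ∣ 1 := odd_part p hp.out hp2 hp3 3 2 1 (by norm_num at hd ⊢; exact hd)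
    exact hp.out.one_lt.ne' (Nat.dvd_one.1 this)
  · exfalso
    have : p ∣ 1 := odd_part p hp.out hp2 hp3 1 3 1 (by norm_num at hd ⊢; exact hd)
    exact hp.out.one_lt.ne' (Nat.dvd_one.1 this)

/-- commuting elements of orders 3 and 5 cannot exist -/
theorem no_comm_three_five (ρ : Representation (ZMod 3) G V) (hfaith : Function.Injective ρ)
    (hn : Module.finrank (ZMod 3) V = 4) (c x : G) (hc3 : c ^ 3 = 1) (hc1 : c ≠ 1)
    (hx5 : x ^ 5 = 1) (hx1 : x ≠ 1) (hcx : c * x = x * c) : False := by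
  have : Fact (Nat.Prime 5) := ⟨by norm_num⟩
  have : Fact (Nat.Prime 3) := ⟨by norm_num⟩
  obtain ⟨hk, h⟩ := basic_congr ρ hfaith hn 3 c hc3 hc1
  have hbot := no_fix_of_five ρ hfaith hn x hx5 hx1
  have hinv : ∀ v ∈ LinearMap.ker (dl ρ c), ρ x v ∈ LinearMap.ker (dl ρ c) := by
    intro v hv
    rw [mem_ker_dl] at hv ⊢
    rw [← Module.End.mul_apply, ← map_mul, hcx, map_mul, Module.End.mul_apply, hv]
  have h2 := lin_count ρ x 5 hx5 (LinearMap.ker (dl ρ c)) hinv
  rw [hbot, inf_bot_eq, card_submodule, card_submodule, finrank_bot] at h2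
  generalize Module.finrank (ZMod 3) (LinearMap.ker (dl ρ c)) = k at hk h h2
  interval_cases k
  · exact absurd h (by decide)
  · exact absurd h2 (by decide)
  · exact absurd h2 (by decide)
  · exact absurd h2 (by decide)

/-- a 5-subgroup has order dividing 80 -/
theorem card_dvd_80 (ρ : Representation (ZMod 3) G V) (hfaith : Function.Injective ρ)
    (hn : Module.finrank (ZMod 3) V = 4) (Y : Subgroup G) (hY : IsPGroup 5 Y) :
    Nat.card Y ∣ 80 := by
  classical
  have : Fact (Nat.Prime 5) := ⟨by norm_num⟩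
  have hfree : ∀ g ∈ Y, ∀ v : V, ρ g v = v → v ≠ 0 → g = 1 := by
    intro g hg v hv hv0
    by_contra hg1
    obtain ⟨k, hk⟩ := (IsPGroup.iff_orderOf.1 hY) ⟨g, hg⟩
    rw [Subgroup.orderOf_mk] at hk
    have hk0 : k ≠ 0 := by
      rintro rfl
      rw [pow_zero, orderOf_eq_one_iff] at hk
      exact hg1 hk
    obtain ⟨k', rfl⟩ := Nat.exists_eq_succ_of_ne_zero hk0
    have h5 : (g ^ 5 ^ k') ^ 5 = 1 := by
      rw [← pow_mul, ← pow_succ, ← hk, pow_orderOf_eq_one]
    have h1 : g ^ 5 ^ k' ≠ 1 := by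
      intro h
      have := orderOf_dvd_of_pow_eq_one h
      rw [hk] at this
      have := (Nat.pow_dvd_pow_iff_le_right (by norm_num : 1 < 5)).1 this
      omega
    have hbot := no_fix_of_five ρ hfaith hn _ h5 h1
    have : v ∈ LinearMap.ker (dl ρ (g ^ 5 ^ k')) := (mem_ker_dl ρ _ v).2 (fix_pow ρ g v hv _)
    rw [hbot, Submodule.mem_bot] at this
    exact hv0 this
  let _ : MulAction ↥Y {v : V // v ≠ 0} :=
    { smul := fun g v => ⟨ρ (g : G) v.1, fun h0 => v.2 (by
          have := congrArg (ρ ((g : G)⁻¹)) h0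
          rw [← Module.End.mul_apply, ← map_mul, inv_mul_cancel, map_one, map_zero] at this
          exact this)⟩
      one_smul := fun v => Subtype.ext (by
        show ρ ((1 : ↥Y) : G) v.1 = v.1
        rw [Subgroup.coe_one, map_one]; rfl)
      mul_smul := fun g g' v => Subtype.ext (by
        show ρ ((g * g' : ↥Y) : G) v.1 = ρ (g : G) (ρ (g' : G) v.1)
        rw [Subgroup.coe_mul, map_mul]; rfl) }
  have hd := card_dvd_of_free (H := ↥Y) (X := {v : V // v ≠ 0}) (by
    intro g v hgv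
    have h1 : ρ (g : G) v.1 = v.1 := congrArg Subtype.val hgv
    exact Subtype.ext (hfree g.1 g.2 v.1 h1 v.2))
  have hcard : Nat.card {v : V // v ≠ 0} = 80 := by
    have h1 : Nat.card V = Nat.card {v : V // v ≠ 0} + 1 := by
      rw [← Nat.card_congr (Equiv.optionSubtypeNe (0 : V)), Finite.card_option]
    have h2 : Nat.card V = 81 := by
      have := card_submodule (⊤ : Submodule (ZMod 3) V)
      rw [finrank_top, hn] at this
      rw [← Nat.card_congr (Submodule.topEquiv (R := ZMod 3) (M := V)).toEquiv, this]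
      norm_num
    omega
  rwa [hcard] at hd
/-- Frattini: an element of order 3 in the normaliser -/
theorem exists_three_in_normalizer (R : Subgroup G) (hRn : R.Normal)
    (hRcop : (Nat.card ↥R).Coprime 3) (b : G) (hb3 : b ^ 3 = 1) (hb1 : b ≠ 1) (N : Subgroup G)
    (hN : N ⊔ R = ⊤) : ∃ c ∈ N, c ^ 3 = 1 ∧ c ≠ 1 := by
  have := hRn
  have hbR : b ∉ R := by
    intro hb
    have h3 : orderOf b = 3 := orderOf_eq_prime hb3 hb1
    have : orderOf b ∣ Nat.card ↥R := Subgroup.orderOf_dvd_natCard R hb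
    rw [h3] at this
    have h1 : (3 : ℕ) ∣ Nat.gcd (Nat.card ↥R) 3 := Nat.dvd_gcd this dvd_rfl
    rw [hRcop] at h1
    omega
  have hb : b ∈ N ⊔ R := hN ▸ Subgroup.mem_top b
  obtain ⟨n, hn, r, hr, hnr⟩ := Subgroup.mem_sup_of_normal_right.1 hb
  let π := QuotientGroup.mk' R
  have hπ : π b = π n := by
    have hr1 : π r = 1 := (QuotientGroup.eq_one_iff r).2 hr
    rw [← hnr, map_mul, hr1, mul_one]
  have hπ1 : π b ≠ 1 := fun h => hbR ((QuotientGroup.eq_one_iff b).1 h)
  have hπ3 : π b ^ 3 = 1 := by rw [← map_pow, hb3, map_one]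
  have ho3 : orderOf (π b) = 3 := orderOf_eq_prime hπ3 hπ1
  have hm : π b ^ orderOf n = 1 := by rw [hπ, ← map_pow, pow_orderOf_eq_one, map_one]
  have h3m : 3 ∣ orderOf n := ho3 ▸ orderOf_dvd_of_pow_eq_one hm
  have hpos : 0 < orderOf n := orderOf_pos n
  refine ⟨n ^ (orderOf n / 3), Subgroup.pow_mem N hn _, ?_, ?_⟩
  · rw [← pow_mul, Nat.div_mul_cancel h3m, pow_orderOf_eq_one]
  · intro h
    have h1 := orderOf_dvd_of_pow_eq_one h
    have h2 : 0 < orderOf n / 3 := Nat.div_pos (Nat.le_of_dvd hpos h3m) (by norm_num)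
    have h3 := Nat.le_of_dvd h2 h1
    have h4 : orderOf n / 3 < orderOf n := Nat.div_lt_self hpos (by norm_num)
    omega
theorem R_eq_T_of_card_32 {G : Type u} [Group G] [Finite G] {V : Type v} [AddCommGroup V]
    [Module (ZMod 3) V] [Finite V] (ρ : Representation (ZMod 3) G V) (R Q : Subgroup G) (b : G)
    (h : Cfg ρ R Q b) (T : Subgroup G) (hT : IsO2 R T) (z : G) (hES : ESLike ρ T z)
    (hc : Nat.card ↥T = 32) (hn : Module.finrank (ZMod 3) V = 4) : R = T := by
  by_contra hne
  have hRn := h.Rn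
  have hR2 : ¬ IsPGroup 2 R := fun hp => hne (le_antisymm (hT.max R h.Rn hp) hT.le)
  obtain ⟨p, hp, hpR, hp2⟩ : ∃ p, p.Prime ∧ p ∣ Nat.card R ∧ p ≠ 2 := by
    by_contra hcon
    push Not at hcon
    apply hR2
    have := Nat.eq_prime_pow_of_unique_prime_dvd (n := Nat.card R) (p := 2) Nat.card_pos.ne'
      (fun {d} hd hdvd => hcon d hd hdvd)
    exact IsPGroup.of_card this
  have hp3 : p ≠ 3 := by
    rintro rfl
    have h1 : (3 : ℕ) ∣ Nat.gcd (Nat.card ↥R) 3 := Nat.dvd_gcd hpR dvd_rfl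
    rw [h.Rcop] at h1
    omega
  have : Fact p.Prime := ⟨hp⟩
  obtain ⟨y, hy⟩ := exists_prime_orderOf_dvd_card' (G := ↥R) p hpR
  have hyp : (y : G) ^ p = 1 := by
    have h1 := pow_orderOf_eq_one y
    rw [hy] at h1
    have h2 := congrArg Subtype.val h1
    simpa using h2
  have hy1 : (y : G) ≠ 1 := by
    intro h1
    have h2 : y = 1 := Subtype.ext h1
    rw [h2, orderOf_one] at hy
    exact hp.one_lt.ne hy
  have hb1 : b ≠ 1 := by
    rintro rfl
    obtain ⟨q, hq, hqne⟩ := h.four.2.2.2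
    exact hqne (by simp)
  rcases prime_cases ρ h.faith hn p hp2 hp3 (y : G) hyp hy1 with rfl | rfl
  · -- p = 5
    let P : Sylow 5 ↥R := default
    let Y : Subgroup G := (P : Subgroup ↥R).map R.subtype
    have hYp : IsPGroup 5 Y := P.isPGroup'.map R.subtype
    have hYcard : Nat.card Y = Nat.card P := Subgroup.card_map_of_injective R.subtype_injective
    have h5P : 5 ∣ Nat.card P := P.dvd_card_of_dvd_card hpR
    have hY80 : Nat.card Y ∣ 80 := card_dvd_80 ρ h.faith hn Y hYp
    have hY5 : Nat.card Y = 5 := by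
      obtain ⟨k, hk⟩ := IsPGroup.iff_card.1 hYp
      rw [← hYcard, hk] at h5P
      rw [hk] at hY80
      have hk0 : k ≠ 0 := by
        rintro rfl
        norm_num at h5P
      have hk2 : k < 2 := by
        by_contra hk2
        push Not at hk2
        have h25 : 5 ^ 2 ∣ 80 := (pow_dvd_pow 5 hk2).trans hY80
        norm_num at h25
      have hk1 : k = 1 := by omega
      rw [hk, hk1, pow_one]
    have hFr : Subgroup.normalizer (Y : Set G) ⊔ R = ⊤ := Sylow.normalizer_sup_eq_top P
    obtain ⟨c, hcN, hc3, hc1⟩ := exists_three_in_normalizer R h.Rn h.Rcop b h.b3 hb1 _ hFr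
    have hcY : ∀ x ∈ Y, c * x * c⁻¹ ∈ Y := fun x hx =>
      (Subgroup.mem_normalizer_iff.1 hcN x).1 hx
    have : Fact (Nat.Prime 3) := ⟨by norm_num⟩
    have hcount := conj_count Y c 3 hc3 hcY
    rw [hY5] at hcount
    have hne1 : Nat.card ↥(Y ⊓ Subgroup.centralizer ({c} : Set G)) ≠ 1 := by
      intro h1
      rw [h1] at hcount
      exact absurd hcount (by decide)
    have hnb : Y ⊓ Subgroup.centralizer ({c} : Set G) ≠ ⊥ := fun hb =>
      hne1 (by rw [hb]; exact Subgroup.card_bot)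
    obtain ⟨x, hx1⟩ := (Subgroup.ne_bot_iff_exists_ne_one).1 hnb
    have hxY : (x : G) ∈ Y := x.2.1
    have hxc : c * (x : G) = (x : G) * c := Subgroup.mem_centralizer_iff.1 x.2.2 c rfl
    have hx5 : (x : G) ^ 5 = 1 := by
      have h1 := pow_card_eq_one' (x := (⟨(x : G), hxY⟩ : ↥Y))
      rw [hY5] at h1
      have h2 := congrArg Subtype.val h1
      simpa using h2
    have hx1' : (x : G) ≠ 1 := fun h1 => hx1 (Subtype.ext h1)
    exact no_comm_three_five ρ h.faith hn c (x : G) hc3 hc1 hx5 hx1' hxc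
  · -- p = 13
    have hcount := conj_count T (y : G) 13 hyp (fun t ht => hT.normal.conj_mem t ht y)
    rw [hc] at hcount
    have hdvd : Nat.card ↥(T ⊓ Subgroup.centralizer ({(y : G)} : Set G)) ∣ 2 ^ 5 := by
      have h1 := Subgroup.card_dvd_of_le
        (inf_le_left : T ⊓ Subgroup.centralizer ({(y : G)} : Set G) ≤ T)
      rw [hc] at h1
      norm_num
      exact h1
    obtain ⟨j, hj, hj'⟩ := (Nat.dvd_prime_pow Nat.prime_two).1 hdvd
    rw [hj'] at hcount
    have hj5 : j = 5 := by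
      interval_cases j
      · exact absurd hcount (by decide)
      · exact absurd hcount (by decide)
      · exact absurd hcount (by decide)
      · exact absurd hcount (by decide)
      · exact absurd hcount (by decide)
      · rfl
    subst hj5
    have hTle : T ≤ Subgroup.centralizer ({(y : G)} : Set G) := by
      have h1 : T ⊓ Subgroup.centralizer ({(y : G)} : Set G) = T :=
        Subgroup.eq_of_le_of_card_ge inf_le_left (by rw [hj', hc]; norm_num)
      exact inf_eq_left.1 h1
    have hyT : (y : G) ∈ T := hT.selfc y y.2 (fun t ht =>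
      Subgroup.mem_centralizer_iff.1 (hTle ht) (y : G) rfl)
    obtain ⟨k, hk⟩ := hT.pg ⟨(y : G), hyT⟩
    have hk' : (y : G) ^ 2 ^ k = 1 := by
      have h2 := congrArg Subtype.val hk
      simpa using h2
    have h13 : orderOf (y : G) = 13 := orderOf_eq_prime hyp hy1
    have h1 := orderOf_dvd_of_pow_eq_one hk'
    rw [h13] at h1
    have h2 := Nat.Prime.dvd_of_dvd_pow (by norm_num) h1
    have h3 := Nat.le_of_dvd (by norm_num) h2
    omega

end Main

end Cfsg.Agent.Helper90.C3
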