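import Cfsg.Agent.Lib.Helper39.MH4Basic

/-!
# MH4 (E4) (helper39 server for S4221): `C_G(t,u)` is transitive on the regular points of the
four-group `⟨t, u⟩`, with point stabilizer `CPS2`; orbit–stabilizer.
-/

set_option autoImplicit false
set_option linter.unusedSectionVars false
set_option linter.unusedVariables false

namespace Cfsg.Agent.Helper90.MH4

open Equiv
open Cfsg.Agent.Helper39.MH4

variable {α : Type*} [Fintype α] [DecidableEq α] {G : Subgroup (Perm α)}

theorem e4_agree {g s : Perm α} {x : α} (h : g (s x) = s (g x)) :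
    (g * s * g⁻¹) (g x) = s (g x) := by
  simp [Perm.mul_apply, h]

theorem e4_distinct {t u : Perm α} (tt : t * t = 1) (uu : u * u = 1) (comm : t * u = u * t)
    {ω : α} (hω : ω ∈ reg t u) :
    t ω ≠ ω ∧ u ω ≠ ω ∧ t (u ω) ≠ ω ∧ t ω ≠ u ω ∧ t ω ≠ t (u ω) ∧ u ω ≠ t (u ω) := by
  obtain ⟨h1, h2, h3⟩ := mem_reg.mp hω
  rw [Perm.mul_apply] at h3
  have htt : ∀ x, t (t x) = x := invol_apply_apply tt
  have hcomm : ∀ x, t (u x) = u (t x) := fun x => by
    have := congrArg (fun f : Perm α => f x) comm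
    simpa [Perm.mul_apply] using this
  refine ⟨h1, h2, h3, ?_, ?_, ?_⟩
  · intro h
    apply h3
    rw [← h, htt]
  · intro h
    exact h2 (t.injective h).symm
  · intro h
    rw [hcomm] at h
    exact h1 (u.injective h).symm

theorem e4_card_four {w0 w1 w2 w3 : α} (h01 : w0 ≠ w1) (h02 : w0 ≠ w2) (h03 : w0 ≠ w3)
    (h12 : w1 ≠ w2) (h13 : w1 ≠ w3) (h23 : w2 ≠ w3) :
    ({w0, w1, w2, w3} : Finset α).card = 4 := by
  rw [Finset.card_insert_of_notMem (by simp [h01, h02, h03]),
    Finset.card_insert_of_notMem (by simp [h12, h13]), Finset.card_pair h23]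

/-- transitivity of `C_G(t,u)` on the regular points -/
theorem e4_trans (hyp : Hyp G) {t u : Perm α} (htG : t ∈ G) (huG : u ∈ G) (tt : t * t = 1)
    (uu : u * u = 1) (comm : t * u = u * t) {ω ω' : α} (hω : ω ∈ reg t u)
    (hω' : ω' ∈ reg t u) : ∃ g ∈ CG2 G t u, g ω = ω' := by
  have htt : ∀ x, t (t x) = x := invol_apply_apply tt
  have huu : ∀ x, u (u x) = x := invol_apply_apply uu
  have hcomm : ∀ x, t (u x) = u (t x) := fun x => by
    have := congrArg (fun f : Perm α => f x) comm
    simpa [Perm.mul_apply] using this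
  obtain ⟨d1, d2, d3, d4, d5, d6⟩ := e4_distinct tt uu comm hω
  obtain ⟨e1, e2, e3, e4, e5, e6⟩ := e4_distinct tt uu comm hω'
  -- the two embeddings
  have hinj : Function.Injective ![ω, t ω, u ω, t (u ω)] := by
    intro i j hij
    fin_cases i <;> fin_cases j <;> simp at hij <;> first | rfl | (exfalso; tauto)
  have hinj' : Function.Injective ![ω', t ω', u ω', t (u ω')] := by
    intro i j hij
    fin_cases i <;> fin_cases j <;> simp at hij <;> first | rfl | (exfalso; tauto)
  obtain ⟨g0, hg0G, hg0⟩ := hyp.tr ⟨_, hinj⟩ ⟨_, hinj'⟩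
  have m0 : g0 ω = ω' := by simpa using hg0 0
  have m1 : g0 (t ω) = t ω' := by simpa using hg0 1
  have m2 : g0 (u ω) = u ω' := by simpa using hg0 2
  have m3 : g0 (t (u ω)) = t (u ω') := by simpa using hg0 3
  have hD' : ({ω', t ω', u ω', t (u ω')} : Finset α).card = 4 :=
    e4_card_four e1.symm e2.symm e3.symm e4 e5 e6
  -- `t` and `u` preserve `D'`
  have htD : ∀ y ∈ ({ω', t ω', u ω', t (u ω')} : Finset α),
      t y ∈ ({ω', t ω', u ω', t (u ω')} : Finset α) := by
    intro y hy
    simp only [Finset.mem_insert, Finset.mem_singleton] at hy ⊢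
    rcases hy with rfl | rfl | rfl | rfl
    · right; left; rfl
    · left; exact htt _
    · right; right; right; rfl
    · right; right; left; exact htt _
  have huD : ∀ y ∈ ({ω', t ω', u ω', t (u ω')} : Finset α),
      u y ∈ ({ω', t ω', u ω', t (u ω')} : Finset α) := by
    intro y hy
    simp only [Finset.mem_insert, Finset.mem_singleton] at hy ⊢
    rcases hy with rfl | rfl | rfl | rfl
    · right; right; left; rfl
    · right; right; right; exact (hcomm _).symm
    · left; exact huu _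
    · right; left; rw [← hcomm, huu]
  -- first step: make `g` centralize `t`
  have hagree1 : ∀ y ∈ ({ω', t ω', u ω', t (u ω')} : Finset α),
      (g0 * t * g0⁻¹) y = t y := by
    intro y hy
    simp only [Finset.mem_insert, Finset.mem_singleton] at hy
    rcases hy with rfl | rfl | rfl | rfl
    · have := e4_agree (g := g0) (s := t) (x := ω) (by rw [m1, m0])
      rwa [m0] at this
    · have := e4_agree (g := g0) (s := t) (x := t ω) (by rw [htt, m0, m1, htt])
      rwa [m1] at this
    · have := e4_agree (g := g0) (s := t) (x := u ω) (by rw [m3, m2])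
      rwa [m2] at this
    · have := e4_agree (g := g0) (s := t) (x := t (u ω)) (by rw [htt, m2, m3, htt])
      rwa [m3] at this
  have hinv1 : ∀ y ∈ ({ω', t ω', u ω', t (u ω')} : Finset α),
      (g0 * t * g0⁻¹) y ∈ ({ω', t ω', u ω', t (u ω')} : Finset α) := by
    intro y hy
    rw [hagree1 y hy]
    exact htD y hy
  obtain ⟨k1, -, hk1PS, hk1⟩ := conj_of_agree hyp
    (G.mul_mem (G.mul_mem hg0G htG) (G.inv_mem hg0G)) htG (conj_invol tt) tt hD' hagree1 hinv1
  have hk1fix : ∀ y ∈ ({ω', t ω', u ω', t (u ω')} : Finset α), k1 y = y := (mem_PS.mp hk1PS).2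
  have hk1G : k1 ∈ G := (mem_PS.mp hk1PS).1
  have hg1G : k1 * g0 ∈ G := G.mul_mem hk1G hg0G
  have hg1t : (k1 * g0) * t * (k1 * g0)⁻¹ = t := by
    calc (k1 * g0) * t * (k1 * g0)⁻¹ = k1 * (g0 * t * g0⁻¹) * k1⁻¹ := by group
      _ = t := hk1
  have n0 : (k1 * g0) ω = ω' := by
    rw [Perm.mul_apply, m0]; exact hk1fix _ (by simp)
  have n1 : (k1 * g0) (t ω) = t ω' := by
    rw [Perm.mul_apply, m1]; exact hk1fix _ (by simp)
  have n2 : (k1 * g0) (u ω) = u ω' := by
    rw [Perm.mul_apply, m2]; exact hk1fix _ (by simp)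
  have n3 : (k1 * g0) (t (u ω)) = t (u ω') := by
    rw [Perm.mul_apply, m3]; exact hk1fix _ (by simp)
  -- second step: make it centralize `u` as well
  have hagree2 : ∀ y ∈ ({ω', t ω', u ω', t (u ω')} : Finset α),
      ((k1 * g0) * u * (k1 * g0)⁻¹) y = u y := by
    intro y hy
    simp only [Finset.mem_insert, Finset.mem_singleton] at hy
    rcases hy with rfl | rfl | rfl | rfl
    · have := e4_agree (g := k1 * g0) (s := u) (x := ω) (by rw [n2, n0])
      rwa [n0] at this
    · have := e4_agree (g := k1 * g0) (s := u) (x := t ω) (by rw [← hcomm, n3, n1, hcomm])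
      rwa [n1] at this
    · have := e4_agree (g := k1 * g0) (s := u) (x := u ω) (by rw [huu, n0, n2, huu])
      rwa [n2] at this
    · have := e4_agree (g := k1 * g0) (s := u) (x := t (u ω))
        (by rw [← hcomm, huu, n1, n3, ← hcomm, huu])
      rwa [n3] at this
  have hinv2 : ∀ y ∈ ({ω', t ω', u ω', t (u ω')} : Finset α),
      ((k1 * g0) * u * (k1 * g0)⁻¹) y ∈ ({ω', t ω', u ω', t (u ω')} : Finset α) := by
    intro y hy
    rw [hagree2 y hy]
    exact huD y hy
  obtain ⟨k2, hk2z, hk2PS, hk2⟩ := conj_of_agree hyp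
    (G.mul_mem (G.mul_mem hg1G huG) (G.inv_mem hg1G)) huG (conj_invol uu) uu hD' hagree2 hinv2
  have hk2fix : ∀ y ∈ ({ω', t ω', u ω', t (u ω')} : Finset α), k2 y = y := (mem_PS.mp hk2PS).2
  have hk2G : k2 ∈ G := (mem_PS.mp hk2PS).1
  -- `k2` commutes with `t`
  have hu''t : ((k1 * g0) * u * (k1 * g0)⁻¹) * t = t * ((k1 * g0) * u * (k1 * g0)⁻¹) := by
    have h1 : (k1 * g0) * t = t * (k1 * g0) := by
      have := hg1t
      rw [mul_inv_eq_iff_eq_mul] at this
      exact this
    have h2 : (k1 * g0)⁻¹ * t = t * (k1 * g0)⁻¹ := by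
      rw [inv_mul_eq_iff_eq_mul, ← mul_assoc, h1, mul_assoc, mul_inv_cancel, mul_one]
    calc (k1 * g0) * u * (k1 * g0)⁻¹ * t = (k1 * g0) * u * ((k1 * g0)⁻¹ * t) := by group
      _ = (k1 * g0) * u * (t * (k1 * g0)⁻¹) := by rw [h2]
      _ = (k1 * g0) * (u * t) * (k1 * g0)⁻¹ := by group
      _ = (k1 * g0) * (t * u) * (k1 * g0)⁻¹ := by rw [comm]
      _ = ((k1 * g0) * t) * u * (k1 * g0)⁻¹ := by group
      _ = (t * (k1 * g0)) * u * (k1 * g0)⁻¹ := by rw [h1]
      _ = t * ((k1 * g0) * u * (k1 * g0)⁻¹) := by group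
  have hk2t : k2 * t = t * k2 := by
    have hmem : ((k1 * g0) * u * (k1 * g0)⁻¹) * u ∈ Subgroup.centralizer ({t} : Set (Perm α)) := by
      rw [Subgroup.mem_centralizer_singleton_iff]
      calc (k1 * g0) * u * (k1 * g0)⁻¹ * u * t
          = (k1 * g0) * u * (k1 * g0)⁻¹ * (u * t) := by group
        _ = (k1 * g0) * u * (k1 * g0)⁻¹ * (t * u) := by rw [comm]
        _ = ((k1 * g0) * u * (k1 * g0)⁻¹ * t) * u := by group
        _ = (t * ((k1 * g0) * u * (k1 * g0)⁻¹)) * u := by rw [hu''t]
        _ = t * ((k1 * g0) * u * (k1 * g0)⁻¹ * u) := by group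
    have := (Subgroup.zpowers_le.mpr hmem) hk2z
    rw [Subgroup.mem_centralizer_singleton_iff] at this
    exact this
  refine ⟨k2 * (k1 * g0), ?_, ?_⟩
  · rw [mem_CG2]
    refine ⟨G.mul_mem hk2G hg1G, ?_, ?_⟩
    · have h1 : (k1 * g0) * t = t * (k1 * g0) := by
        have := hg1t
        rw [mul_inv_eq_iff_eq_mul] at this
        exact this
      calc k2 * (k1 * g0) * t = k2 * ((k1 * g0) * t) := by group
        _ = k2 * (t * (k1 * g0)) := by rw [h1]
        _ = (k2 * t) * (k1 * g0) := by group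
        _ = (t * k2) * (k1 * g0) := by rw [hk2t]
        _ = t * (k2 * (k1 * g0)) := by group
    · have h3 : k2 * ((k1 * g0) * u * (k1 * g0)⁻¹) = u * k2 := by
        have := hk2
        rw [mul_inv_eq_iff_eq_mul] at this
        exact this
      calc k2 * (k1 * g0) * u = k2 * ((k1 * g0) * u * (k1 * g0)⁻¹) * (k1 * g0) := by group
        _ = u * k2 * (k1 * g0) := by rw [h3]
        _ = u * (k2 * (k1 * g0)) := by group
  · rw [Perm.mul_apply, n0]
    exact hk2fix _ (by simp)

/-- (E4) of the MH4 server, statement verbatim. -/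
theorem card_CG2_eq_reg_mul (hyp : Hyp G) {a : Fin 4 ↪ α} {t u : Perm α} (c : UConf G a t u)
    (ω : α) (hω : ω ∈ reg t u) :
    Nat.card (CG2 G t u) =
      (reg t u).card * Nat.card (CPS2 G {ω, t ω, u ω, (t * u) ω} t u) := by
  have htt : ∀ x, t (t x) = x := invol_apply_apply c.tt
  have huu : ∀ x, u (u x) = x := invol_apply_apply c.uu
  -- the orbit of `ω` is `reg t u`
  have horb : MulAction.orbit ↥(CG2 G t u) ω = (reg t u : Set α) := by
    ext x
    constructor
    · rintro ⟨g, rfl⟩
      obtain ⟨hgG, hgt, hgu⟩ := mem_CG2.mp g.2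
      have e1 : ∀ y, (g : Perm α) (t y) = t ((g : Perm α) y) := fun y => by
        have := congrArg (fun f : Perm α => f y) hgt
        simpa [Perm.mul_apply] using this
      have e2 : ∀ y, (g : Perm α) (u y) = u ((g : Perm α) y) := fun y => by
        have := congrArg (fun f : Perm α => f y) hgu
        simpa [Perm.mul_apply] using this
      obtain ⟨h1, h2, h3⟩ := mem_reg.mp hω
      rw [Perm.mul_apply] at h3
      show ((g : Perm α) ω) ∈ (reg t u : Set α)
      rw [Finset.mem_coe, mem_reg, Perm.mul_apply]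
      refine ⟨?_, ?_, ?_⟩
      · rw [← e1]; exact fun h => h1 ((g : Perm α).injective h)
      · rw [← e2]; exact fun h => h2 ((g : Perm α).injective h)
      · rw [← e2, ← e1]; exact fun h => h3 ((g : Perm α).injective h)
    · intro hx
      obtain ⟨g, hg, hgx⟩ := e4_trans hyp c.tG c.uG c.tt c.uu c.comm hω (Finset.mem_coe.mp hx)
      exact ⟨⟨g, hg⟩, hgx⟩
  -- the stabilizer of `ω` is `CPS2`
  have hstab : CPS2 G {ω, t ω, u ω, (t * u) ω} t u =
      (MulAction.stabilizer ↥(CG2 G t u) ω).map (CG2 G t u).subtype := by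
    ext g
    rw [mem_CPS2, Subgroup.mem_map]
    constructor
    · rintro ⟨hgG, hfix, hgt, hgu⟩
      refine ⟨⟨g, mem_CG2.mpr ⟨hgG, hgt, hgu⟩⟩, ?_, rfl⟩
      rw [MulAction.mem_stabilizer_iff]
      exact hfix ω (by simp)
    · rintro ⟨h, hh, rfl⟩
      obtain ⟨hgG, hgt, hgu⟩ := mem_CG2.mp h.2
      rw [MulAction.mem_stabilizer_iff] at hh
      have hω0 : (h : Perm α) ω = ω := hh
      have e1 : ∀ y, (h : Perm α) (t y) = t ((h : Perm α) y) := fun y => by
        have := congrArg (fun f : Perm α => f y) hgt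
        simpa [Perm.mul_apply] using this
      have e2 : ∀ y, (h : Perm α) (u y) = u ((h : Perm α) y) := fun y => by
        have := congrArg (fun f : Perm α => f y) hgu
        simpa [Perm.mul_apply] using this
      refine ⟨hgG, ?_, hgt, hgu⟩
      intro x hx
      simp only [Finset.mem_insert, Finset.mem_singleton] at hx
      rcases hx with rfl | rfl | rfl | rfl
      · exact hω0
      · show (h : Perm α) (t ω) = t ω
        rw [e1, hω0]
      · show (h : Perm α) (u ω) = u ω
        rw [e2, hω0]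
      · show (h : Perm α) ((t * u) ω) = (t * u) ω
        rw [Perm.mul_apply, e1, e2, hω0]
  have hcard : Nat.card (CPS2 G {ω, t ω, u ω, (t * u) ω} t u) =
      Nat.card (MulAction.stabilizer ↥(CG2 G t u) ω) := by
    rw [hstab]
    exact Subgroup.card_map_of_injective (Subgroup.subtype_injective _)
  have h1 := Subgroup.index_mul_card (MulAction.stabilizer ↥(CG2 G t u) ω)
  rw [MulAction.index_stabilizer, horb, Set.ncard_coe_finset] at h1
  rw [hcard, h1]

end Cfsg.Agent.Helper90.MH4
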