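import Mathlib
import Cfsg.Agent.Lib.Helper52.FCDefs
import Cfsg.Agent.Lib.Helper52.Coprime

/-!
# FC server (helper52, S3816), piece (A4): `chief_abelian`
-/

set_option autoImplicit false

namespace Cfsg.Agent.Helper90.FC

open Subgroup Cfsg.Agent.Helper52.FC
open scoped commutatorElement

universe u

variable {G : Type u} [Group G]

theorem comm_mul_central_left (x y z : G) (hzy : z * y = y * z) : ⁅x * z, y⁆ = ⁅x, y⁆ := by
  rw [commutatorElement_def, commutatorElement_def, mul_inv_rev, mul_assoc x z y, hzy]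
  group

theorem comm_mul_central_right (x y z : G) (hzx : z * x = x * z) : ⁅x, y * z⁆ = ⁅x, y⁆ := by
  have h1 : z * x⁻¹ = x⁻¹ * z := by
    have h0 : x⁻¹ * (z * x) * x⁻¹ = x⁻¹ * (x * z) * x⁻¹ := by rw [hzx]
    have e1 : x⁻¹ * (z * x) * x⁻¹ = x⁻¹ * z := by group
    have e2 : x⁻¹ * (x * z) * x⁻¹ = z * x⁻¹ := by group
    rw [e1, e2] at h0
    exact h0.symm
  rw [commutatorElement_def, commutatorElement_def, mul_inv_rev]
  calc x * (y * z) * x⁻¹ * (z⁻¹ * y⁻¹) = x * y * (z * x⁻¹) * z⁻¹ * y⁻¹ := by group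
    _ = x * y * (x⁻¹ * z) * z⁻¹ * y⁻¹ := by rw [h1]
    _ = x * y * x⁻¹ * y⁻¹ := by group

/-- elements of `D ⊔ Z` with `Z` centralising `D` and commutative are products -/
theorem mem_sup_central (D Z : Subgroup G) (hZD : ∀ z ∈ Z, ∀ d ∈ D, z * d = d * z)
    (x : G) (hx : x ∈ D ⊔ Z) :
    ∃ d ∈ D, ∃ z ∈ Z, x = d * z := by
  rw [sup_eq_closure] at hx
  induction hx using Subgroup.closure_induction with
  | mem x hx =>
    rcases hx with hx | hx
    · exact ⟨x, hx, 1, Z.one_mem, (mul_one x).symm⟩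
    · exact ⟨1, D.one_mem, x, hx, (one_mul x).symm⟩
  | one => exact ⟨1, D.one_mem, 1, Z.one_mem, (mul_one 1).symm⟩
  | mul x y _ _ hx hy =>
    obtain ⟨d, hd, z, hz, rfl⟩ := hx
    obtain ⟨d', hd', z', hz', rfl⟩ := hy
    refine ⟨d * d', D.mul_mem hd hd', z * z', Z.mul_mem hz hz', ?_⟩
    calc d * z * (d' * z') = d * (z * d') * z' := by group
      _ = d * (d' * z) * z' := by rw [hZD z hz d' hd']
      _ = d * d' * (z * z') := by group
  | inv x _ hx =>
    obtain ⟨d, hd, z, hz, rfl⟩ := hx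
    refine ⟨d⁻¹, D.inv_mem hd, z⁻¹, Z.inv_mem hz, ?_⟩
    have h1 : z⁻¹ * d⁻¹ = d⁻¹ * z⁻¹ := by
      rw [← mul_inv_rev, ← mul_inv_rev, hZD z hz d hd]
    rw [mul_inv_rev, h1]

theorem commutator_sup_central (D Z : Subgroup G) (hZD : ∀ z ∈ Z, ∀ d ∈ D, z * d = d * z)
    (hZZ : ∀ z ∈ Z, ∀ z' ∈ Z, z * z' = z' * z) : ⁅D ⊔ Z, D ⊔ Z⁆ ≤ ⁅D, D⁆ := by
  rw [commutator_le]
  intro x hx y hy
  obtain ⟨d, hd, z, hz, rfl⟩ := mem_sup_central D Z hZD x hx
  obtain ⟨d', hd', z', hz', rfl⟩ := mem_sup_central D Z hZD y hy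
  have h1 : z * (d' * z') = (d' * z') * z := by
    rw [← mul_assoc, hZD z hz d' hd', mul_assoc, hZZ z hz z' hz', mul_assoc]
  have h2 : z' * d = d * z' := hZD z' hz' d hd
  rw [comm_mul_central_left d (d' * z') z h1, comm_mul_central_right d d' z' h2]
  exact commutator_mem_commutator hd hd'

/-- a perfect subgroup of a solvable subgroup is trivial -/
theorem eq_bot_of_perfect (D H : Subgroup G) (hDH : D ≤ H) (hH : Group.IsSolvable H)
    (hD : ⁅D, D⁆ = D) : D = ⊥ := by
  by_contra hne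
  have hsol : Group.IsSolvable D := Cfsg.Agent.Helper24.isSolvable_of_le D H hDH hH
  have : Nontrivial D := (Subgroup.nontrivial_iff_ne_bot D).2 hne
  have : Group.IsPerfect D := Subgroup.isPerfect_iff.2 hD
  exact Group.IsPerfect.not_isSolvable D hsol

theorem chief_abelian [Finite G] {p : ℕ} {a : G} {H : Subgroup G} (mx : MCX p G a H) (hZs : ZZ a H ⊓ star a H = ⊥)
    (N : Subgroup G) (hN : Chief a H N) : Ab N := by
  have hyp := mx.mc.hyp
  have hp := mx.mc.hp
  -- basic facts about `Z`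
  have hZH : ZZ a H ≤ H := inf_le_left.trans inf_le_left
  have hZfix : ZZ a H ≤ Fix a := inf_le_left.trans inf_le_right
  have hZcen : ZZ a H ≤ centralizer (H : Set G) := inf_le_right
  have hfix : ∀ x ∈ Fix a, a * x = x * a := fun x hx => hx a rfl
  have hZa : ∀ z ∈ ZZ a H, a * z = z * a := fun z hz => hfix z (hZfix hz)
  have hZc : ∀ z ∈ ZZ a H, ∀ h ∈ H, h * z = z * h := fun z hz h hh => hZcen hz h hh
  -- powers of `a`
  have hainv : a⁻¹ = a ^ (p - 1) := by
    have h1 : a ^ (p - 1) * a = 1 := by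
      rw [← pow_succ, Nat.sub_add_cancel hp.one_le, hyp.pow]
    exact (eq_inv_of_mul_eq_one_left h1).symm
  have hpowN : ∀ k : ℕ, ∀ x ∈ N, a ^ k * x * (a ^ k)⁻¹ ∈ N := by
    intro k
    induction k with
    | zero => intro x hx; simpa using hx
    | succ k ih =>
      intro x hx
      have := hN.inv _ (ih x hx)
      have e : a ^ (k + 1) * x * (a ^ (k + 1))⁻¹ = a * (a ^ k * x * (a ^ k)⁻¹) * a⁻¹ := by
        rw [pow_succ']; group
      rw [e]; exact this
  have hinvN : ∀ x ∈ N, a⁻¹ * x * a ∈ N := by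
    intro x hx
    have := hpowN (p - 1) x hx
    rw [← hainv, inv_inv] at this
    exact this
  have haN : a ∈ normalizer (N : Set G) := by
    rw [mem_normalizer_iff]
    intro x
    constructor
    · exact hN.inv x
    · intro hx
      have := hinvN _ hx
      have e : a⁻¹ * (a * x * a⁻¹) * a = x := by group
      rwa [e] at this
  have hPN : zpowers a ≤ normalizer (N : Set G) := zpowers_le.2 haN
  have hcop : (Nat.card (zpowers a)).Coprime (Nat.card N) := by
    rw [Nat.card_zpowers]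
    have h1 : orderOf a ∣ p := orderOf_dvd_of_pow_eq_one hyp.pow
    have h2 : Nat.card N ∣ Nat.card H := Subgroup.card_dvd_of_le hN.le
    exact Nat.Coprime.coprime_dvd_left h1 (Nat.Coprime.coprime_dvd_right h2 hyp.cop.symm)
  have hPsol : Group.IsSolvable (zpowers a) := by
    apply Group.isSolvable_of_comm
    rintro ⟨x, hx⟩ ⟨y, hy⟩
    obtain ⟨k, rfl⟩ := mem_zpowers_iff.1 hx
    obtain ⟨l, rfl⟩ := mem_zpowers_iff.1 hy
    apply Subtype.ext
    show a ^ k * a ^ l = a ^ l * a ^ k
    rw [← zpow_add, ← zpow_add, add_comm]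
  set K : Subgroup G := ⁅N, zpowers a⁆ with hK
  set C : Subgroup G := N ⊓ centralizer (zpowers a : Set G) with hC
  have hKN : K ≤ N := Cfsg.Agent.Helper24.commutator_le_of_le_normalizer N (zpowers a) hPN
  have hNKC : N = K ⊔ C :=
    Cfsg.Agent.Helper52.eq_commutator_sup_centralizer N (zpowers a) hPN hcop (Or.inl hPsol)
  have hNN_N : ⁅N, N⁆ ≤ N := by
    rw [commutator_le]
    intro x hx y hy
    rw [commutatorElement_def]
    exact N.mul_mem (N.mul_mem (N.mul_mem hx hy) (N.inv_mem hx)) (N.inv_mem hy)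
  -- conjugation by elements normalising `N` both ways
  have hnormH : ∀ h ∈ H, N.map (MulAut.conj h).toMonoidHom ≤ N := by
    intro h hh
    rw [map_le_iff_le_comap]
    intro x hx
    exact hN.norm h hh x hx
  have hnorma : N.map (MulAut.conj a).toMonoidHom ≤ N := by
    rw [map_le_iff_le_comap]
    intro x hx
    exact hN.inv x hx
  -- Claim 1 : `N' ≤ Z`
  have hZcomm : ∀ z ∈ ZZ a H, ∀ z' ∈ ZZ a H, z * z' = z' * z := fun z hz z' hz' =>
    hZc z' hz' z (hZH hz)
  have claim1 : ⁅N, N⁆ ≤ ZZ a H := by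
    set W : Subgroup G := ⁅N, N⁆ ⊔ ZZ a H with hW
    have hW1 : ZZ a H ≤ W := le_sup_right
    have hW2 : W ≤ N := sup_le hNN_N hN.zle
    have hW3 : NormBy H W := by
      intro h hh w hw
      have hle : W.map (MulAut.conj h).toMonoidHom ≤ W := by
        rw [hW, Subgroup.map_sup]
        apply sup_le_sup
        · rw [map_commutator]
          exact commutator_mono (hnormH h hh) (hnormH h hh)
        · rw [map_le_iff_le_comap]
          intro z hz
          show h * z * h⁻¹ ∈ ZZ a H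
          rw [hZc z hz h hh, mul_inv_cancel_right]
          exact hz
      exact hle (mem_map_of_mem _ hw)
    have hW4 : Inv a W := by
      intro w hw
      have hle : W.map (MulAut.conj a).toMonoidHom ≤ W := by
        rw [hW, Subgroup.map_sup]
        apply sup_le_sup
        · rw [map_commutator]
          exact commutator_mono hnorma hnorma
        · rw [map_le_iff_le_comap]
          intro z hz
          show a * z * a⁻¹ ∈ ZZ a H
          rw [hZa z hz, mul_inv_cancel_right]
          exact hz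
      exact hle (mem_map_of_mem _ hw)
    rcases hN.min W hW1 hW2 hW3 hW4 with h1 | h1
    · exact le_sup_left.trans h1.le
    · exfalso
      -- `N = N' Z`, so `N'` is perfect
      have hZD : ∀ z ∈ ZZ a H, ∀ d ∈ ⁅N, N⁆, z * d = d * z := fun z hz d hd =>
        (hZc z hz d (hN.le (hNN_N hd))).symm
      have hperf : ⁅⁅N, N⁆, ⁅N, N⁆⁆ = ⁅N, N⁆ := by
        apply le_antisymm
        · exact commutator_mono hNN_N hNN_N
        · have := commutator_sup_central ⁅N, N⁆ (ZZ a H) hZD hZcomm
          rw [← hW, h1] at this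
          exact this
      have hbot : ⁅N, N⁆ = ⊥ :=
        eq_bot_of_perfect ⁅N, N⁆ H (hNN_N.trans hN.le) hyp.sol hperf
      apply hN.ne
      rw [← h1, hW, hbot, bot_sup_eq]
  -- Claim 6 : `K` is abelian
  have claim6 : K ≤ centralizer (K : Set G) := by
    rw [← commutator_eq_bot_iff_le_centralizer, eq_bot_iff, ← hZs]
    apply le_inf
    · exact (commutator_mono hKN hKN).trans claim1
    · have h1 : ⁅K, K⁆ ≤ K := by
        rw [commutator_le]
        intro x hx y hy
        rw [commutatorElement_def]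
        exact K.mul_mem (K.mul_mem (K.mul_mem hx hy) (K.inv_mem hx)) (K.inv_mem hy)
      have h2 : ⁅K, K⁆ ≤ Fix a := ((commutator_mono hKN hKN).trans claim1).trans hZfix
      have h3 := mx.proper N hN.le hN.neH hN.inv
      rw [mx.comm_eq_commutator N] at h3
      exact (le_inf h1 h2).trans h3
  -- Claim 3 : `K` centralises `C`
  have claim3 : K ≤ centralizer (C : Set G) := by
    rw [← commutator_eq_bot_iff_le_centralizer]
    apply commutator_commutator_eq_bot_of_rotate
    · have h1 : ⁅zpowers a, C⁆ = ⊥ := by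
        rw [commutator_eq_bot_iff_le_centralizer, le_centralizer_iff]
        exact inf_le_right
      rw [h1, commutator_bot_left]
    · rw [commutator_eq_bot_iff_le_centralizer]
      have h1 : ⁅C, N⁆ ≤ ZZ a H := (commutator_mono inf_le_left le_rfl).trans claim1
      refine h1.trans ?_
      rw [le_centralizer_iff, zpowers_le]
      intro z hz
      exact (hZa z hz).symm
  -- Claim 5 : `K ≤ Z(N)`
  set ZN : Subgroup G := N ⊓ centralizer (N : Set G) with hZN
  have claim5 : K ≤ ZN := by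
    apply le_inf hKN
    rw [le_centralizer_iff]
    have h1 : K ⊔ C ≤ centralizer (K : Set G) := sup_le claim6 (le_centralizer_iff.1 claim3)
    rw [← hNKC] at h1
    exact h1
  -- `Z(N)` is normal, invariant, between `Z` and `N`
  have hstab : ∀ g : G, (∀ x ∈ N, g * x * g⁻¹ ∈ N) → (∀ x ∈ N, g⁻¹ * x * g ∈ N) →
      ∀ x ∈ ZN, g * x * g⁻¹ ∈ ZN := by
    intro g hg hg' x hx
    refine ⟨hg x hx.1, ?_⟩
    intro n hn
    have h1 : (g⁻¹ * n * g) * x = x * (g⁻¹ * n * g) := hx.2 _ (hg' n hn)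
    calc n * (g * x * g⁻¹) = g * ((g⁻¹ * n * g) * x) * g⁻¹ := by group
      _ = g * (x * (g⁻¹ * n * g)) * g⁻¹ := by rw [h1]
      _ = g * x * g⁻¹ * n := by group
  have hZN1 : ZZ a H ≤ ZN := le_inf hN.zle (hZcen.trans (centralizer_le hN.le))
  have hZN2 : ZN ≤ N := inf_le_left
  have hZN3 : NormBy H ZN := by
    intro h hh x hx
    refine hstab h (hN.norm h hh) (fun y hy => ?_) x hx
    have := hN.norm h⁻¹ (H.inv_mem hh) y hy
    rwa [inv_inv] at this
  have hZN4 : Inv a ZN := fun x hx => hstab a hN.inv hinvN x hx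
  rcases hN.min ZN hZN1 hZN2 hZN3 hZN4 with h1 | h1
  · exfalso
    exact hN.act (claim5.trans h1.le)
  · intro x hx y hy
    have hy' : y ∈ ZN := h1 ▸ hy
    exact hy'.2 x hx

end Cfsg.Agent.Helper90.FC
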