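import Mathlib
import Cfsg.Agent.Lib.Helper52.FCDefs
import Cfsg.Agent.Lib.Helper90.FCA4

/-!
# FC server (helper52, S3816), piece (A5): `hypN_chief`
-/

set_option autoImplicit false

namespace Cfsg.Agent.Helper90.FC

open Subgroup Cfsg.Agent.Helper52.FC
open scoped commutatorElement

universe u

variable {G : Type u} [Group G]

theorem inv_pow_of_inv {a : G} {X : Subgroup G} (hX : Inv a X) :
    ∀ k : ℕ, ∀ x ∈ X, a ^ k * x * (a ^ k)⁻¹ ∈ X := by
  intro k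
  induction k with
  | zero => intro x hx; simpa using hx
  | succ k ih =>
    intro x hx
    have := hX _ (ih x hx)
    have e : a ^ (k + 1) * x * (a ^ (k + 1))⁻¹ = a * (a ^ k * x * (a ^ k)⁻¹) * a⁻¹ := by
      rw [pow_succ']; group
    rw [e]; exact this

theorem central_calc (b l z : G) (hzb : b * z = z * b) (hzl : l * z = z * l)
    (hzc : (b * l * b⁻¹) * z = z * (b * l * b⁻¹)) :
    (l * z)⁻¹ * (b * (l * z) * b⁻¹) = l⁻¹ * (b * l * b⁻¹) := by
  have hzb' : z * b⁻¹ = b⁻¹ * z := by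
    have e1 : b⁻¹ * (b * z) * b⁻¹ = z * b⁻¹ := by group
    have e2 : b⁻¹ * (z * b) * b⁻¹ = b⁻¹ * z := by group
    rw [← e1, hzb, e2]
  have hzl' : l⁻¹ * z = z * l⁻¹ := by
    have e1 : l⁻¹ * (l * z) * l⁻¹ = z * l⁻¹ := by group
    have e2 : l⁻¹ * (z * l) * l⁻¹ = l⁻¹ * z := by group
    rw [← e2, ← hzl, e1]
  calc (l * z)⁻¹ * (b * (l * z) * b⁻¹) = z⁻¹ * l⁻¹ * (b * l * (z * b⁻¹)) := by group
    _ = z⁻¹ * l⁻¹ * (b * l * (b⁻¹ * z)) := by rw [hzb']
    _ = z⁻¹ * l⁻¹ * ((b * l * b⁻¹) * z) := by group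
    _ = z⁻¹ * l⁻¹ * (z * (b * l * b⁻¹)) := by rw [hzc]
    _ = z⁻¹ * (l⁻¹ * z) * (b * l * b⁻¹) := by group
    _ = z⁻¹ * (z * l⁻¹) * (b * l * b⁻¹) := by rw [hzl']
    _ = l⁻¹ * (b * l * b⁻¹) := by group

theorem hypN_chief [Finite G] {p : ℕ} {a : G} {H : Subgroup G} (mx : MCX p G a H) (hZs : ZZ a H ⊓ star a H = ⊥)
    (N : Subgroup G) (hN : Chief a H N) (hNab : Ab N) : HypN a H N := by
  intro L hLH hLa hLc hLne hNL
  have hZH : ZZ a H ≤ H := inf_le_left.trans inf_le_left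
  have hZfix : ZZ a H ≤ Fix a := inf_le_left.trans inf_le_right
  have hZcen : ZZ a H ≤ centralizer (H : Set G) := inf_le_right
  have hfix : ∀ x ∈ Fix a, a * x = x * a := fun x hx => hx a rfl
  have hZa : ∀ z ∈ ZZ a H, a * z = z * a := fun z hz => hfix z (hZfix hz)
  have hZc : ∀ z ∈ ZZ a H, ∀ h ∈ H, h * z = z * h := fun z hz h hh => hZcen hz h hh
  set W : Subgroup G := (N ⊓ L) ⊔ ZZ a H with hW
  have hW1 : ZZ a H ≤ W := le_sup_right
  have hW2 : W ≤ N := sup_le inf_le_left hN.zle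
  -- conjugation by elements of `L` and by `a` preserves `W`
  have hstab : ∀ g : G, (∀ x ∈ N, g * x * g⁻¹ ∈ N) → (∀ x ∈ L, g * x * g⁻¹ ∈ L) →
      (∀ z ∈ ZZ a H, g * z = z * g) → ∀ w ∈ W, g * w * g⁻¹ ∈ W := by
    intro g hgN hgL hgZ w hw
    have hle : W.map (MulAut.conj g).toMonoidHom ≤ W := by
      rw [hW, Subgroup.map_sup]
      apply sup_le_sup
      · rw [map_le_iff_le_comap]
        intro x hx
        exact ⟨hgN x hx.1, hgL x hx.2⟩
      · rw [map_le_iff_le_comap]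
        intro z hz
        show g * z * g⁻¹ ∈ ZZ a H
        rw [hgZ z hz, mul_inv_cancel_right]
        exact hz
    exact hle (mem_map_of_mem _ hw)
  have hLW : ∀ l ∈ L, ∀ w ∈ W, l * w * l⁻¹ ∈ W := fun l hl =>
    hstab l (hN.norm l (hLH hl)) (fun x hx => L.mul_mem (L.mul_mem hl hx) (L.inv_mem hl))
      (fun z hz => hZc z hz l (hLH hl))
  have hNW : ∀ n ∈ N, ∀ w ∈ W, n * w * n⁻¹ ∈ W := by
    intro n hn w hw
    have : n * w * n⁻¹ = w := by
      rw [hNab n hn w (hW2 hw), mul_inv_cancel_right]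
    rw [this]; exact hw
  have hnorm : H ≤ normalizer (W : Set G) := by
    rw [← hNL]
    apply sup_le
    · intro n hn
      rw [mem_normalizer_iff]
      intro x
      refine ⟨hNW n hn x, fun hx => ?_⟩
      have := hNW n⁻¹ (N.inv_mem hn) _ hx
      have e : n⁻¹ * (n * x * n⁻¹) * n⁻¹⁻¹ = x := by group
      rwa [e] at this
    · intro l hl
      rw [mem_normalizer_iff]
      intro x
      refine ⟨hLW l hl x, fun hx => ?_⟩
      have := hLW l⁻¹ (L.inv_mem hl) _ hx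
      have e : l⁻¹ * (l * x * l⁻¹) * l⁻¹⁻¹ = x := by group
      rwa [e] at this
  have hW3 : NormBy H W := fun h hh w hw => (mem_normalizer_iff.1 (hnorm hh) w).1 hw
  have hW4 : Inv a W := hstab a hN.inv hLa hZa
  rcases hN.min W hW1 hW2 hW3 hW4 with h1 | h1
  · -- `N ⊓ L ≤ Z`
    have h2 : N ⊓ L ≤ ZZ a H := le_sup_left.trans h1.le
    have h3 := mx.proper L hLH hLne hLa
    rw [hLc] at h3
    rw [eq_bot_iff, ← hZs]
    exact le_inf h2 ((le_inf inf_le_right (h2.trans hZfix)).trans h3)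
  · -- `N ≤ L Z`, so `H = [H,P] ≤ L`
    exfalso
    apply hLne
    apply le_antisymm hLH
    have hNle : N ≤ L ⊔ ZZ a H := by
      calc N = W := h1.symm
        _ ≤ L ⊔ ZZ a H := sup_le (inf_le_right.trans le_sup_left) le_sup_right
    have hHLZ : H ≤ L ⊔ ZZ a H := by
      calc H = N ⊔ L := hNL.symm
        _ ≤ L ⊔ ZZ a H := sup_le hNle le_sup_left
    have hZD : ∀ z ∈ ZZ a H, ∀ d ∈ L, z * d = d * z := fun z hz d hd =>
      (hZc z hz d (hLH hd)).symm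
    have hpowL := inv_pow_of_inv hLa
    rw [← mx.comm_eq]
    unfold Cfsg.Agent.Helper52.FC.comm
    rw [closure_le]
    rintro c ⟨h, hh, i, rfl⟩
    obtain ⟨l, hl, z, hz, rfl⟩ := mem_sup_central L (ZZ a H) hZD h (hHLZ hh)
    have hza : a ^ i * z = z * a ^ i := by
      have : Commute a z := hZa z hz
      exact (this.pow_left i).eq
    have hy : l⁻¹ * (a ^ i * l * (a ^ i)⁻¹) ∈ L := L.mul_mem (L.inv_mem hl) (hpowL i l hl)
    have e : (l * z)⁻¹ * (a ^ i * (l * z) * (a ^ i)⁻¹) = l⁻¹ * (a ^ i * l * (a ^ i)⁻¹) :=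
      central_calc (a ^ i) l z hza (hZc z hz l (hLH hl)) (hZc z hz _ (hLH (hpowL i l hl)))
    show (l * z)⁻¹ * (a ^ i * (l * z) * (a ^ i)⁻¹) ∈ L
    rw [e]
    exact hy

end Cfsg.Agent.Helper90.FC
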