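import Mathlib
import Cfsg.Prelude.Def_DegreeGraph

/-!
DG2 server (helper89, S4811), piece (A1): if `H` is finite solvable nonabelian and every nontrivial normal subgroup contains
`V = H'`, then `V` is a nontrivial abelian group of prime-power order.
-/

set_option autoImplicit false

namespace Cfsg.Agent.Helper90.DG2

open Cfsg
open scoped commutatorElement

universe u

/-- every commutator lies in `commutator H` -/
theorem a1_comm_mem {H : Type u} [Group H] (a b : H) : ⁅a, b⁆ ∈ commutator H := by
  rw [commutator_def]
  exact Subgroup.commutator_mem_commutator (Subgroup.mem_top a) (Subgroup.mem_top b)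

/-- (A1) `V = H'` is a nontrivial abelian group of prime-power order. -/
theorem comm_abelian {H : Type u} [Group H] [Finite H] [Group.IsSolvable H]
    (hna : ¬ ∀ a b : H, a * b = b * a)
    (hq : ∀ L : Subgroup H, L.Normal → L ≠ ⊥ → commutator H ≤ L) :
    commutator H ≠ ⊥ ∧ (∀ a ∈ commutator H, ∀ b ∈ commutator H, a * b = b * a) ∧
      ∃ q n : ℕ, q.Prime ∧ Nat.card (commutator H) = q ^ n := by
  classical
  have hV : commutator H ≠ ⊥ := by
    intro h
    apply hna
    intro a b
    have := a1_comm_mem a b
    rw [h, Subgroup.mem_bot, commutatorElement_eq_one_iff_mul_comm] at this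
    exact this
  have hVn : (commutator H).Normal := inferInstance
  have hab : ∀ a ∈ commutator H, ∀ b ∈ commutator H, a * b = b * a := by
    have hV'n : (⁅commutator H, commutator H⁆ : Subgroup H).Normal := inferInstance
    have hV'le : ⁅commutator H, commutator H⁆ ≤ commutator H := Subgroup.commutator_le_left _ _
    have hV'bot : ⁅commutator H, commutator H⁆ = ⊥ := by
      by_contra hne
      have hle : commutator H ≤ ⁅commutator H, commutator H⁆ := hq _ hV'n hne
      have heq : ⁅commutator H, commutator H⁆ = commutator H := le_antisymm hV'le hle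
      have hds : ∀ n : ℕ, derivedSeries H (n + 1) = commutator H := by
        intro n
        induction n with
        | zero => exact derivedSeries_one H
        | succ k ih => rw [derivedSeries_succ, ih, heq]
      obtain ⟨n, hn⟩ := (Group.isSolvable_def H).1 inferInstance
      have h2 : derivedSeries H (n + 1) = ⊥ := by
        rw [derivedSeries_succ, hn]; exact Subgroup.commutator_bot_left _
      rw [hds n] at h2
      exact hV h2
    intro a ha b hb
    have := Subgroup.commutator_mem_commutator ha hb
    rw [hV'bot, Subgroup.mem_bot, commutatorElement_eq_one_iff_mul_comm] at this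
    exact this
  refine ⟨hV, hab, ?_⟩
  have hc1 : Nat.card (commutator H) ≠ 1 := fun h => hV (Subgroup.card_eq_one.1 h)
  obtain ⟨q, hqp, hqd⟩ := Nat.exists_prime_and_dvd hc1
  have : Fact q.Prime := ⟨hqp⟩
  -- the subgroup of elements of `V` of order dividing `q`
  let L : Subgroup H :=
    { carrier := {v | v ∈ commutator H ∧ v ^ q = 1}
      one_mem' := ⟨Subgroup.one_mem _, one_pow _⟩
      mul_mem' := by
        rintro a b ⟨ha, ha'⟩ ⟨hb, hb'⟩
        refine ⟨Subgroup.mul_mem _ ha hb, ?_⟩
        have hc : Commute a b := hab a ha b hb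
        rw [hc.mul_pow, ha', hb', one_mul]
      inv_mem' := by
        rintro a ⟨ha, ha'⟩
        exact ⟨Subgroup.inv_mem _ ha, by rw [inv_pow, ha', inv_one]⟩ }
  have hLn : L.Normal := by
    refine ⟨?_⟩
    rintro v ⟨hv, hv'⟩ g
    refine ⟨hVn.conj_mem v hv g, ?_⟩
    rw [conj_pow, hv', mul_one, mul_inv_cancel]
  have hLb : L ≠ ⊥ := by
    obtain ⟨x, hx⟩ := exists_prime_orderOf_dvd_card' (G := commutator H) q hqd
    intro hbot
    have hxL : (x : H) ∈ L := by
      refine ⟨x.2, ?_⟩
      have h1 : x ^ q = 1 := by rw [← hx]; exact pow_orderOf_eq_one x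
      have h2 := congrArg (fun z : commutator H => (z : H)) h1
      simpa using h2
    rw [hbot, Subgroup.mem_bot] at hxL
    have hx1 : x = 1 := Subtype.ext hxL
    rw [hx1, orderOf_one] at hx
    exact hqp.one_lt.ne hx
  have hVL : commutator H ≤ L := hq L hLn hLb
  have hpg : IsPGroup q (commutator H) := by
    intro v
    refine ⟨1, ?_⟩
    have := (hVL v.2).2
    apply Subtype.ext
    rw [pow_one]
    simpa using this
  obtain ⟨n, hn⟩ := IsPGroup.iff_card.1 hpg
  exact ⟨q, n, hqp, hn⟩

end Cfsg.Agent.Helper90.DG2
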