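import Mathlib
import Cfsg.Prelude.Def_DegreeGraph

/-!
DG2 server (helper89, S4811), piece (A2): central case, `H` is a `q`-group.
-/

set_option autoImplicit false

namespace Cfsg.Agent.Helper90.DG2

open Cfsg
open scoped commutatorElement

universe u

/-- every commutator lies in `commutator H` -/
theorem a2_comm_mem {H : Type u} [Group H] (a b : H) : ⁅a, b⁆ ∈ commutator H := by
  rw [commutator_def]
  exact Subgroup.commutator_mem_commutator (Subgroup.mem_top a) (Subgroup.mem_top b)

/-- If `z` commutes with `x`, `(z * x) ^ m = 1`, `x ^ m = 1`, `z ^ k = 1` and `gcd(m, k) = 1`, then `z = 1`. -/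
theorem a2_eq_one_of_coprime {H : Type u} [Group H] (z x : H) (m k : ℕ) (hc : Commute z x)
    (h1 : (z * x) ^ m = 1) (h2 : x ^ m = 1) (h3 : z ^ k = 1) (hmk : m.Coprime k) : z = 1 := by
  rw [hc.mul_pow, h2, mul_one] at h1
  have hd1 : orderOf z ∣ m := orderOf_dvd_of_pow_eq_one h1
  have hd2 : orderOf z ∣ k := orderOf_dvd_of_pow_eq_one h3
  have : orderOf z ∣ 1 := by
    have := Nat.dvd_gcd hd1 hd2
    rwa [hmk] at this
  exact orderOf_eq_one_iff.1 (Nat.dvd_one.1 this)

/-- (A2) central case: `H` is a `q`-group.  Every element `x` of order prime to `q` is central: `g x g⁻¹ = z x` with `z = ⁅g, x⁆`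
a central `q`-element, and `o(z x) = o(x)` forces `z = 1`.  So an element of prime order `r ≠ q` would generate a nontrivial normal
subgroup of order `r` containing the nontrivial `q`-group `H'`. -/
theorem central_case {H : Type u} [Group H] [Finite H]
    (hq : ∀ L : Subgroup H, L.Normal → L ≠ ⊥ → commutator H ≤ L)
    (hV : commutator H ≠ ⊥) (q n : ℕ) (hqp : q.Prime) (hcard : Nat.card (commutator H) = q ^ n)
    (hc : commutator H ≤ Subgroup.center H) :
    ∃ m : ℕ, Nat.card H = q ^ m := by
  classical
  have hn0 : n ≠ 0 := by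
    rintro rfl
    rw [pow_zero] at hcard
    exact hV (Subgroup.card_eq_one.1 hcard)
  have hqdvd : q ∣ Nat.card (commutator H) := by
    rw [hcard]; exact dvd_pow_self q hn0
  -- elements of order prime to `q` are central
  have hcentral : ∀ x : H, (orderOf x).Coprime q → x ∈ Subgroup.center H := by
    intro x hx
    rw [Subgroup.mem_center_iff]
    intro g
    have hzV : ⁅g, x⁆ ∈ commutator H := a2_comm_mem g x
    have hzc : ⁅g, x⁆ ∈ Subgroup.center H := hc hzV
    have hcomm : Commute ⁅g, x⁆ x := (Subgroup.mem_center_iff.1 hzc x).symm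
    have hzx : ⁅g, x⁆ * x = g * x * g⁻¹ := by
      rw [commutatorElement_def]; group
    have h1 : (⁅g, x⁆ * x) ^ orderOf x = 1 := by
      rw [hzx, conj_pow, pow_orderOf_eq_one, mul_one, mul_inv_cancel]
    have h3 : ⁅g, x⁆ ^ (q ^ n) = 1 := by
      have := pow_card_eq_one' (G := commutator H) (x := ⟨⁅g, x⁆, hzV⟩)
      rw [hcard] at this
      have h2 := congrArg (fun z : commutator H => (z : H)) this
      simpa using h2
    have hz1 : ⁅g, x⁆ = 1 :=
      a2_eq_one_of_coprime _ x (orderOf x) (q ^ n) hcomm h1 (pow_orderOf_eq_one x) h3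
        (Nat.Coprime.pow_right n hx)
    exact commutatorElement_eq_one_iff_mul_comm.1 hz1
  -- every prime divisor of `|H|` is `q`
  have hprime : ∀ {r : ℕ}, r.Prime → r ∣ Nat.card H → r = q := by
    intro r hr hrd
    by_contra hne
    have : Fact r.Prime := ⟨hr⟩
    obtain ⟨x, hx⟩ := exists_prime_orderOf_dvd_card' (G := H) r hrd
    have hcop : (orderOf x).Coprime q := by
      rw [hx]
      exact (Nat.coprime_primes hr hqp).2 hne
    have hxc := hcentral x hcop
    have hLn : (Subgroup.zpowers x).Normal := by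
      refine ⟨?_⟩
      intro y hy g
      have hyc : y ∈ Subgroup.center H := by
        obtain ⟨k, rfl⟩ := Subgroup.mem_zpowers_iff.1 hy
        exact Subgroup.zpow_mem _ hxc k
      have : g * y * g⁻¹ = y := by
        rw [Subgroup.mem_center_iff.1 hyc g, mul_inv_cancel_right]
      rw [this]; exact hy
    have hLb : Subgroup.zpowers x ≠ ⊥ := by
      intro h
      rw [Subgroup.zpowers_eq_bot] at h
      rw [h, orderOf_one] at hx
      exact hr.one_lt.ne hx
    have hle := hq _ hLn hLb
    have hdvd : Nat.card (commutator H) ∣ Nat.card (Subgroup.zpowers x) := Subgroup.card_dvd_of_le hle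
    rw [Nat.card_zpowers, hx] at hdvd
    have hqr : q ∣ r := hqdvd.trans hdvd
    exact hne ((Nat.prime_dvd_prime_iff_eq hqp hr).1 hqr).symm
  exact ⟨_, Nat.eq_prime_pow_of_unique_prime_dvd Nat.card_pos.ne' hprime⟩

end Cfsg.Agent.Helper90.DG2
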