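import Mathlib
import Cfsg.Agent.Lib.Helper62.SUO0

/-!
# SUO server (helper62, S2282), piece (E1): `Q_trans`
-/

set_option autoImplicit false
set_option linter.unusedSectionVars false
set_option linter.unusedVariables false
set_option quotPrecheck false

namespace Cfsg.Agent.Helper90.SUO

open Matrix Cfsg Cfsg.Agent.Helper13 Cfsg.Agent.Helper87.PsuA Cfsg.Agent.Helper62.SUO

section E
variable {F : Type*} [Field F] [Fintype F] {q n : ℕ} (hF : Fintype.card F = q ^ 2)
  {Hs : Subgroup ↥(Cfsg.SU n F q)}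

local notation "V" => Fin n → F
local notation "G" => ↥(Cfsg.SU n F q)
local notation "H" => Cfsg.hermForm n F q

include hF

/-- (E1) -/
theorem Q_trans {e v v' : V} (hee : H e e = 0) (hvv : H v v = 0) (hv'v' : H v' v' = 0)
    (hve : H v e ≠ 0) (hv'e : H v' e ≠ 0) :
    ∃ (w : V) (a lam : F), H e w = 0 ∧ a + a ^ q + H w w = 0 ∧ lam ≠ 0 ∧
      actv (eich hF e w a) v = lam • v' := by
  obtain ⟨η, hη⟩ : ∃ η : F, η = H v e := ⟨_, rfl⟩
  have hη0 : η ≠ 0 := by rw [hη]; exact hve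
  have hηq : η ^ q ≠ 0 := pow_ne_zero _ hη0
  obtain ⟨lam, hlam⟩ : ∃ lam : F, lam = η / H v' e := ⟨_, rfl⟩
  have hlam0 : lam ≠ 0 := by rw [hlam]; exact div_ne_zero hη0 hv'e
  obtain ⟨v'', hv''⟩ : ∃ v'' : V, v'' = lam • v' := ⟨_, rfl⟩
  have h1 : H v'' e = η := by
    rw [hv'', hermForm_smul_left, hlam]
    field_simp
  have h2 : H e v'' = η ^ q := by rw [← hermForm_conj hF v'' e, h1]
  have h3 : H e v = η ^ q := by rw [← hermForm_conj hF v e, ← hη]
  have h4 : H v'' v'' = 0 := by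
    rw [hv'', hermForm_smul_left, hermForm_smul_right, hv'v']; ring
  obtain ⟨w, hw⟩ : ∃ w : V, w = η⁻¹ • (v'' - v) := ⟨_, rfl⟩
  obtain ⟨a, ha⟩ : ∃ a : F, a = H v v'' / (η * η ^ q) := ⟨_, rfl⟩
  have hew : H e w = 0 := by
    rw [hw, hermForm_smul_right, H_sub_right hF, h2, h3]; ring
  have hvw : H v w = (η ^ q)⁻¹ * H v v'' := by
    rw [hw, hermForm_smul_right, H_sub_right hF, hvv, inv_pow]; ring
  have hww : H w w = -(H v'' v + H v v'') / (η * η ^ q) := by
    rw [hw, hermForm_smul_left, hermForm_smul_right, H_sub_left hF, H_sub_right hF,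
      H_sub_right hF, h4, hvv, inv_pow]
    field_simp
    ring
  have haq : a ^ q = H v'' v / (η * η ^ q) := by
    rw [ha, div_pow, mul_pow, hermForm_conj hF, frob_frob hF]
    ring
  have hcond : a + a ^ q + H w w = 0 := by
    rw [haq, hww, ha]
    field_simp
    ring
  refine ⟨w, a, lam, hew, hcond, hlam0, ?_⟩
  rw [eich_act hF hee hew hcond v, hvw, ← hη, ha, ← hv'', hw]
  have e1 : η • η⁻¹ • (v'' - v) = v'' - v := by
    rw [smul_smul, mul_inv_cancel₀ hη0, one_smul]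
  have e2 : (η ^ q)⁻¹ * H v v'' = H v v'' / (η * η ^ q) * η := by
    field_simp
  rw [e1, e2]
  module

end E

end Cfsg.Agent.Helper90.SUO
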