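import Mathlib
import Cfsg.Prelude.Def_Characters
import Cfsg.Prelude.Def_Blocks
import Cfsg.Agent.Lib.Helper80.RMKDefs
import Cfsg.Agent.Lib.Helper80.RMKBasic
import Cfsg.Agent.Lib.Helper74.LinChar

/-!
# RMK (TWIST) for helper80 (S4581): twisting by a linear character of `H` extending `θ`.
-/

set_option autoImplicit false
set_option linter.style.haveILetI false

namespace Cfsg.Agent.Helper90.RMK

open Cfsg Cfsg.Agent.Helper80 Cfsg.Agent.Helper80.RMK
open scoped ComplexConjugate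

universe u

/-- Twisting by a linear character (of order at most two when `r = true`) preserves goodness. -/
theorem twist_good (r : Bool) {H : Type u} [Group H] (φ : H →* ℂˣ)
    (hφ : r = true → ∀ h : H, φ h ^ 2 = 1) (ψ : IrrCharacter H) (hψ : Good r ψ) :
    Good r (φ • ψ) := by
  refine ⟨fun hr a => ?_, ?_⟩
  · rw [Cfsg.Agent.Helper74.Lin.smul_apply]
    have h1 := hψ.1 hr a
    have h2 : ((φ a : ℂˣ) : ℂ).im = 0 := by
      have h3 := hφ hr a
      have h4 : ((φ a : ℂˣ) : ℂ) * ((φ a : ℂˣ) : ℂ) = 1 := by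
        have := congrArg Units.val h3
        rw [pow_two] at this
        simpa using this
      rcases mul_self_eq_one_iff.1 h4 with h | h
      · rw [h]; simp
      · rw [h]; simp
    rw [Complex.mul_im, h1, h2]
    ring
  · have h1 : ((φ • ψ : IrrCharacter H) : H → ℂ) 1 = (ψ : H → ℂ) 1 := by
      rw [Cfsg.Agent.Helper74.Lin.smul_apply, map_one, Units.val_one, one_mul]
    have h2 : charDegree ((φ • ψ : IrrCharacter H) : H → ℂ) = charDegree (ψ : H → ℂ) := by
      unfold charDegree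
      rw [h1]
    rw [h2]
    exact hψ.2

/-- (TWIST) twisting by a linear character of `H` extending `θ` -/
theorem twist_count (r : Bool) {G : Type u} [Group G] [Finite G] (M : Subgroup G)
    [hM : M.Normal] (H : Subgroup G) (hMH : M ≤ H) (θ : IrrCharacter ↥M)
    (ν : ↥H →* ℂˣ)
    (hν : ∀ m : ↥M, ((ν (Subgroup.inclusion hMH m) : ℂˣ) : ℂ) = (θ : ↥M → ℂ) m)
    (hr : r = true → ∀ h : ↥H, ν h ^ 2 = 1) :
    cntOver r hMH θ = cntOver r hMH (trivialIrr ↥M) := by
  unfold cntOver
  have hνinv : r = true → ∀ h : ↥H, (ν⁻¹) h ^ 2 = 1 := by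
    intro hr' h
    rw [MonoidHom.inv_apply, inv_pow, hr hr' h, inv_one]
  have hconj : ∀ m : ↥M,
      (((ν⁻¹) (Subgroup.inclusion hMH m) : ℂˣ) : ℂ) = conj ((θ : ↥M → ℂ) m) := by
    intro m
    rw [MonoidHom.inv_apply, Units.val_inv_eq_inv_val, hν m]
    apply Complex.inv_eq_conj
    rw [← hν m]
    apply Complex.norm_eq_one_of_pow_eq_one (n := Nat.card ↥H)
    · rw [← Units.val_pow_eq_pow_val, ← map_pow, pow_card_eq_one', map_one, Units.val_one]
    · exact Nat.card_pos.ne'
  apply Nat.card_congr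
  refine Equiv.subtypeEquiv (MulAction.toPerm ν⁻¹) (fun ψ => ?_)
  have hover : Over hMH (ν⁻¹ • ψ) (trivialIrr ↥M) ↔ Over hMH ψ θ := by
    unfold Over
    have hterm : ∀ m : ↥M,
        ((ν⁻¹ • ψ : IrrCharacter ↥H) : ↥H → ℂ) (Subgroup.inclusion hMH m) *
          conj ((trivialIrr ↥M : ↥M → ℂ) m) =
        (ψ : ↥H → ℂ) (Subgroup.inclusion hMH m) * conj ((θ : ↥M → ℂ) m) := by
      intro m
      rw [Cfsg.Agent.Helper74.Lin.smul_apply, hconj m, trivialIrr_apply, map_one, mul_one,
        mul_comm]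
    rw [finsum_congr hterm]
  rw [MulAction.toPerm_apply]
  constructor
  · rintro ⟨hg, ho⟩
    exact ⟨twist_good r ν⁻¹ hνinv ψ hg, hover.2 ho⟩
  · rintro ⟨hg, ho⟩
    refine ⟨?_, hover.1 ho⟩
    have h1 : ν • (ν⁻¹ • ψ) = ψ := by
      apply Subtype.ext
      funext h
      rw [Cfsg.Agent.Helper74.Lin.smul_apply, Cfsg.Agent.Helper74.Lin.smul_apply,
        MonoidHom.inv_apply, Units.val_inv_eq_inv_val, ← mul_assoc,
        mul_inv_cancel₀ (Units.ne_zero _), one_mul]
    have := twist_good r ν hr _ hg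
    rwa [h1] at this

end Cfsg.Agent.Helper90.RMK
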