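import Mathlib

set_option autoImplicit false

namespace Cfsg.Agent.Helper90

open Subgroup

variable {G : Type*} [Group G]

/-- An involution acting without fixed points on a finite normal subgroup inverts it. -/
theorem inverts_of_fixedPointFree [Finite G] (N : Subgroup G) [N.Normal] (s : G) (hs : s * s = 1)
    (hfpf : ∀ n ∈ N, s * n = n * s → n = 1) : ∀ n ∈ N, s * n * s⁻¹ = n⁻¹ := by
  have hsinv : s⁻¹ = s := inv_eq_of_mul_eq_one_right hs
  -- the map n ↦ n⁻¹ * (s n s⁻¹) on N
  let f : N → N := fun n => ⟨(n : G)⁻¹ * (s * n * s⁻¹),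
    N.mul_mem (N.inv_mem n.2) (Subgroup.Normal.conj_mem inferInstance _ n.2 s)⟩
  have hinj : Function.Injective f := by
    intro a b hab
    have h1 : (a : G)⁻¹ * (s * a * s⁻¹) = (b : G)⁻¹ * (s * b * s⁻¹) :=
      congrArg Subtype.val hab
    have h2 : s * ((b : G) * (a : G)⁻¹) = ((b : G) * (a : G)⁻¹) * s := by
      have h3 : (b : G) * (a : G)⁻¹ = s * (b * (a : G)⁻¹) * s⁻¹ := by
        calc (b : G) * (a : G)⁻¹ = b * ((a : G)⁻¹ * (s * a * s⁻¹)) * (s * a * s⁻¹)⁻¹ := by group
          _ = b * ((b : G)⁻¹ * (s * b * s⁻¹)) * (s * a * s⁻¹)⁻¹ := by rw [h1]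
          _ = s * (b * (a : G)⁻¹) * s⁻¹ := by group
      calc s * ((b : G) * (a : G)⁻¹) = s * (b * (a : G)⁻¹) * s⁻¹ * s := by group
        _ = ((b : G) * (a : G)⁻¹) * s := by rw [← h3]
    have h4 := hfpf _ (N.mul_mem b.2 (N.inv_mem a.2)) h2
    apply Subtype.ext
    have : (b : G) = a := by
      calc (b : G) = (b * (a : G)⁻¹) * a := by group
        _ = a := by rw [h4, one_mul]
    exact this.symm
  have hsurj : Function.Surjective f := Finite.surjective_of_injective hinj
  intro n hn
  obtain ⟨m, hm⟩ := hsurj ⟨n, hn⟩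
  have hm' : (m : G)⁻¹ * (s * m * s⁻¹) = n := congrArg Subtype.val hm
  rw [← hm']
  have hss : s * s⁻¹ = 1 := mul_inv_cancel s
  calc s * ((m : G)⁻¹ * (s * m * s⁻¹)) * s⁻¹
      = (s * (m : G)⁻¹ * s⁻¹) * (s * s) * m * (s⁻¹ * s⁻¹) := by group
    _ = (s * (m : G)⁻¹ * s⁻¹) * m := by rw [hs, hsinv, hs]; group
    _ = ((m : G)⁻¹ * (s * m * s⁻¹))⁻¹ := by group

/-- elements of `zpowers z` for an involution `z` -/
theorem eq_one_or_eq_of_mem_zpowers_of_sq {z w : G} (hz : z * z = 1) (hw : w ∈ zpowers z) :
    w = 1 ∨ w = z := by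
  obtain ⟨k, rfl⟩ := mem_zpowers_iff.mp hw
  have hz2 : z ^ (2 : ℤ) = 1 := by
    rw [zpow_two]; exact hz
  have hk : z ^ k = z ^ (k % 2) := by
    conv_lhs => rw [← Int.mul_ediv_add_emod k 2, zpow_add, zpow_mul, hz2, one_zpow, one_mul]
  rcases Int.emod_two_eq_zero_or_one k with h | h
  · left; rw [hk, h, zpow_zero]
  · right; rw [hk, h, zpow_one]


/-- **Simplicity criterion from an extraspecial-type involution centralizer** (internal form).
`H = C_G(z)`, `QG ⊴ H` a 2-group with `C_G(QG) ≤ QG`, `Z(QG) = ⟨z⟩ ⊇ QG'`, `H` irreducible on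
`QG/⟨z⟩`, some conjugate `t ≠ z` of `z` lies in `QG`, `H/QG` simple, and `QG` is not generated by
the conjugates of `z` in `H`. Then `G` is simple. -/
theorem isSimpleGroup_of_extraspecial_centralizer [Finite G] (z : G) (hz2 : z * z = 1)
    (hz1 : z ≠ 1) (QG : Subgroup G)
    (h1 : QG ≤ centralizer ({z} : Set G)) (hzQ : z ∈ QG)
    (h2 : centralizer (QG : Set G) ≤ QG)
    (h3 : centralizer ({z} : Set G) ≤ normalizer (QG : Set G))
    (h4 : IsPGroup 2 QG)
    (h5 : ∀ x ∈ QG, (∀ y ∈ QG, y * x = x * y) → x = 1 ∨ x = z)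
    (h6 : ∀ x ∈ QG, ∀ y ∈ QG, x * y * x⁻¹ * y⁻¹ = 1 ∨ x * y * x⁻¹ * y⁻¹ = z)
    (h7 : ∀ W : Subgroup G, W ≤ QG → centralizer ({z} : Set G) ≤ normalizer (W : Set G) →
      W = QG ∨ W ≤ zpowers z)
    (h8 : ∃ g : G, g * z * g⁻¹ ∈ QG ∧ g * z * g⁻¹ ≠ z)
    (h9 : ∀ K : Subgroup G, QG ≤ K → K ≤ centralizer ({z} : Set G) →
      centralizer ({z} : Set G) ≤ normalizer (K : Set G) → K = QG ∨ K = centralizer ({z} : Set G))
    (h10 : closure {x | x ∈ centralizer ({z} : Set G) ∧ IsConj z x} ≠ QG) : IsSimpleGroup G := by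
  have hzinv : z⁻¹ = z := inv_eq_of_mul_eq_one_right hz2
  have memH : ∀ x : G, x ∈ centralizer ({z} : Set G) ↔ x * z = z * x :=
    fun x => mem_centralizer_singleton_iff
  have hzH : z ∈ centralizer ({z} : Set G) := (memH z).mpr rfl
  -- conjugates of z are involutions
  have hconj_sq : ∀ k : G, (k * z * k⁻¹) * (k * z * k⁻¹) = 1 := by
    intro k
    calc (k * z * k⁻¹) * (k * z * k⁻¹) = k * (z * z) * k⁻¹ := by group
      _ = 1 := by rw [hz2]; group
  obtain ⟨g, htQ, htz⟩ := h8
  have ht1 : g * z * g⁻¹ ≠ 1 := by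
    intro h
    apply hz1
    calc z = g⁻¹ * (g * z * g⁻¹) * g := by group
      _ = 1 := by rw [h]; group
  have htnz : g * z * g⁻¹ ∉ zpowers z := by
    intro h
    rcases eq_one_or_eq_of_mem_zpowers_of_sq hz2 h with h | h
    · exact ht1 h
    · exact htz h
  -- z * t is conjugate to z
  obtain ⟨k0, hk0⟩ : ∃ k : G, k * z * k⁻¹ = z * (g * z * g⁻¹) := by
    have hnc : ¬ ∀ y ∈ QG, y * (g * z * g⁻¹) = (g * z * g⁻¹) * y := by
      intro h
      rcases h5 _ htQ h with h | h
      · exact ht1 h
      · exact htz h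
    push Not at hnc
    obtain ⟨y, hy, hyt⟩ := hnc
    rcases h6 y hy _ htQ with h | h
    · exfalso
      apply hyt
      calc y * (g * z * g⁻¹) = (y * (g * z * g⁻¹) * y⁻¹ * (g * z * g⁻¹)⁻¹) * (g * z * g⁻¹) * y := by
            group
        _ = (g * z * g⁻¹) * y := by rw [h, one_mul]
    · refine ⟨y * g, ?_⟩
      calc y * g * z * (y * g)⁻¹ = (y * (g * z * g⁻¹) * y⁻¹ * (g * z * g⁻¹)⁻¹) * (g * z * g⁻¹) := by
            group
        _ = z * (g * z * g⁻¹) := by rw [h]
  -- Step B: z lies in every nontrivial normal subgroup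
  have hB : ∀ N : Subgroup G, N.Normal → N ≠ ⊥ → z ∈ N := by
    intro N hN hNbot
    -- B1
    have hB1 : N ⊓ centralizer ({z} : Set G) ≠ ⊥ := by
      intro hbot
      have hfpf : ∀ k : G, ∀ n ∈ N, (k * z * k⁻¹) * n = n * (k * z * k⁻¹) → n = 1 := by
        intro k n hn hcomm
        have hmem : k⁻¹ * n * k ∈ N ⊓ centralizer ({z} : Set G) := by
          refine Subgroup.mem_inf.mpr ⟨?_, ?_⟩
          · have := hN.conj_mem n hn k⁻¹
            simpa using this
          · rw [memH]
            calc k⁻¹ * n * k * z = k⁻¹ * (n * (k * z * k⁻¹)) * k := by group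
              _ = k⁻¹ * ((k * z * k⁻¹) * n) * k := by rw [hcomm]
              _ = z * (k⁻¹ * n * k) := by group
        rw [hbot, mem_bot] at hmem
        calc n = k * (k⁻¹ * n * k) * k⁻¹ := by group
          _ = 1 := by rw [hmem]; group
      have hinvz : ∀ n ∈ N, z * n * z⁻¹ = n⁻¹ := by
        have := inverts_of_fixedPointFree N z hz2 (fun n hn h => hfpf 1 n hn (by simpa using h))
        exact this
      have hinvt : ∀ n ∈ N, (g * z * g⁻¹) * n * (g * z * g⁻¹)⁻¹ = n⁻¹ :=
        inverts_of_fixedPointFree N _ (hconj_sq g) (hfpf g)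
      have hinvzt : ∀ n ∈ N, (k0 * z * k0⁻¹) * n * (k0 * z * k0⁻¹)⁻¹ = n⁻¹ :=
        inverts_of_fixedPointFree N _ (hconj_sq k0) (hfpf k0)
      apply hNbot
      rw [eq_bot_iff]
      intro n hn
      have hnn : n = n⁻¹ := by
        have e1 := hinvzt n hn
        rw [hk0] at e1
        have e2 : z * (g * z * g⁻¹) * n * (z * (g * z * g⁻¹))⁻¹ =
            z * ((g * z * g⁻¹) * n * (g * z * g⁻¹)⁻¹) * z⁻¹ := by group
        rw [e2, hinvt n hn, hinvz n⁻¹ (N.inv_mem hn), inv_inv] at e1
        exact e1
      have hnH : n ∈ N ⊓ centralizer ({z} : Set G) := by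
        refine Subgroup.mem_inf.mpr ⟨hn, ?_⟩
        rw [memH]
        have e := hinvz n hn
        rw [← hnn] at e
        calc n * z = (z * n * z⁻¹) * z := by rw [e]
          _ = z * n := by group
      rw [hbot] at hnH
      exact hnH
    -- B2
    have hB2 : N ⊓ QG ≠ ⊥ := by
      intro hbot
      apply hB1
      rw [eq_bot_iff]
      intro x hx
      have hxQ : x ∈ QG := by
        apply h2
        rw [mem_centralizer_iff]
        intro y hy
        have hc : x * y * x⁻¹ * y⁻¹ ∈ N ⊓ QG := by
          refine ⟨?_, ?_⟩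
          · have h' : y * x⁻¹ * y⁻¹ ∈ N := hN.conj_mem _ (N.inv_mem hx.1) y
            have : x * y * x⁻¹ * y⁻¹ = x * (y * x⁻¹ * y⁻¹) := by group
            rw [this]
            exact N.mul_mem hx.1 h'
          · have h' : x * y * x⁻¹ ∈ QG := (mem_normalizer_iff.mp (h3 hx.2) y).mp hy
            exact QG.mul_mem h' (QG.inv_mem hy)
        rw [hbot, mem_bot] at hc
        calc y * x = (x * y * x⁻¹ * y⁻¹)⁻¹ * (x * y) := by group
          _ = x * y := by rw [hc]; group
      have : x ∈ N ⊓ QG := ⟨hx.1, hxQ⟩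
      rw [hbot] at this
      exact this
    -- B3
    have hW : centralizer ({z} : Set G) ≤ normalizer ((N ⊓ QG : Subgroup G) : Set G) := by
      intro h hh
      rw [mem_normalizer_iff]
      intro y
      have hQ' := mem_normalizer_iff.mp (h3 hh) y
      constructor
      · rintro ⟨a, b⟩
        exact ⟨hN.conj_mem y a h, hQ'.mp b⟩
      · rintro ⟨a, b⟩
        refine ⟨?_, hQ'.mpr b⟩
        have := hN.conj_mem _ a h⁻¹
        have e : h⁻¹ * (h * y * h⁻¹) * h⁻¹⁻¹ = y := by group
        rwa [e] at this
    rcases h7 (N ⊓ QG) inf_le_right hW with h | h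
    · have : z ∈ N ⊓ QG := by rw [h]; exact hzQ
      exact this.1
    · obtain ⟨w, hw1⟩ := (Subgroup.ne_bot_iff_exists_ne_one).mp hB2
      have hw' : (w : G) ∈ zpowers z := h w.2
      rcases eq_one_or_eq_of_mem_zpowers_of_sq hz2 hw' with e | e
      · exact absurd (Subtype.ext e) hw1
      · rw [← e]; exact w.2.1
  -- Step C
  have hzM : z ∈ normalClosure ({z} : Set G) := subset_normalClosure (Set.mem_singleton z)
  have hMn : (normalClosure ({z} : Set G)).Normal := inferInstance
  have hconjM : ∀ k : G, k * z * k⁻¹ ∈ normalClosure ({z} : Set G) := fun k => hMn.conj_mem z hzM k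
  have hnormInf : ∀ (A B : Subgroup G), centralizer ({z} : Set G) ≤ normalizer (A : Set G) →
      centralizer ({z} : Set G) ≤ normalizer (B : Set G) →
      centralizer ({z} : Set G) ≤ normalizer ((A ⊓ B : Subgroup G) : Set G) := by
    intro A B hA hB' h hh
    rw [mem_normalizer_iff]
    intro y
    have ha := mem_normalizer_iff.mp (hA hh) y
    have hb := mem_normalizer_iff.mp (hB' hh) y
    exact ⟨fun ⟨a, b⟩ => ⟨ha.mp a, hb.mp b⟩, fun ⟨a, b⟩ => ⟨ha.mpr a, hb.mpr b⟩⟩
  have hMnorm : centralizer ({z} : Set G) ≤ normalizer ((normalClosure ({z} : Set G) : Subgroup G) : Set G) := by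
    rw [normalizer_eq_top]; exact le_top
  have hHnorm : centralizer ({z} : Set G) ≤ normalizer ((centralizer ({z} : Set G) : Subgroup G) : Set G) :=
    le_normalizer
  have hQM : QG ≤ normalClosure ({z} : Set G) := by
    rcases h7 (normalClosure ({z} : Set G) ⊓ QG) inf_le_right (hnormInf _ _ hMnorm h3) with h | h
    · rw [← h]; exact inf_le_left
    · exact absurd (h ⟨hconjM g, htQ⟩) htnz
  -- Step D
  have hHM : centralizer ({z} : Set G) ≤ normalClosure ({z} : Set G) := by
    rcases h9 (normalClosure ({z} : Set G) ⊓ centralizer ({z} : Set G)) (le_inf hQM h1) inf_le_right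
      (hnormInf _ _ hMnorm hHnorm) with h | h
    · exfalso
      -- the closure of conjugates of z in H
      have hCLle : closure {x | x ∈ centralizer ({z} : Set G) ∧ IsConj z x} ≤ QG := by
        rw [← h, closure_le]
        rintro x ⟨hxH, hxc⟩
        obtain ⟨c, hc⟩ := isConj_iff.mp hxc
        refine ⟨?_, hxH⟩
        rw [← hc]; exact hconjM c
      have hCLnorm : centralizer ({z} : Set G) ≤
          normalizer ((closure {x | x ∈ centralizer ({z} : Set G) ∧ IsConj z x} : Subgroup G) : Set G) := by
        have hstab : ∀ h ∈ centralizer ({z} : Set G), ∀ y ∈ closure {x | x ∈ centralizer ({z} : Set G) ∧ IsConj z x},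
            h * y * h⁻¹ ∈ closure {x | x ∈ centralizer ({z} : Set G) ∧ IsConj z x} := by
          intro h hh y hy
          induction hy using closure_induction with
          | mem x hx =>
            apply Subgroup.subset_closure
            refine ⟨(centralizer ({z} : Set G)).mul_mem ((centralizer ({z} : Set G)).mul_mem hh hx.1)
              ((centralizer ({z} : Set G)).inv_mem hh), ?_⟩
            exact hx.2.trans (isConj_iff.mpr ⟨h, rfl⟩)
          | one => simp
          | mul a b _ _ iha ihb =>
            have : h * (a * b) * h⁻¹ = (h * a * h⁻¹) * (h * b * h⁻¹) := by group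
            rw [this]; exact mul_mem iha ihb
          | inv a _ iha =>
            have : h * a⁻¹ * h⁻¹ = (h * a * h⁻¹)⁻¹ := by group
            rw [this]; exact inv_mem iha
        intro h hh
        rw [mem_normalizer_iff]
        intro y
        refine ⟨hstab h hh y, fun hy => ?_⟩
        have := hstab h⁻¹ (inv_mem hh) _ hy
        have e : h⁻¹ * (h * y * h⁻¹) * h⁻¹⁻¹ = y := by group
        rwa [e] at this
      have htCL : g * z * g⁻¹ ∈ closure {x | x ∈ centralizer ({z} : Set G) ∧ IsConj z x} :=
        Subgroup.subset_closure ⟨h1 htQ, isConj_iff.mpr ⟨g, rfl⟩⟩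
      rcases h7 _ hCLle hCLnorm with h' | h'
      · exact h10 h'
      · exact htnz (h' htCL)
    · rw [← h]; exact inf_le_left
  -- Step E
  have hMtop : normalClosure ({z} : Set G) = ⊤ := by
    have : Fact (Nat.Prime 2) := ⟨Nat.prime_two⟩
    have hpQ' : IsPGroup 2 (QG.subgroupOf (normalClosure ({z} : Set G))) := h4.comap_subtype
    obtain ⟨P, hP⟩ := hpQ'.exists_le_sylow
    have hfrat := Sylow.normalizer_sup_eq_top P
    have hQP' : QG ≤ (P : Subgroup (normalClosure ({z} : Set G))).map (normalClosure ({z} : Set G)).subtype := by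
      intro x hx
      exact ⟨⟨x, hQM hx⟩, hP hx, rfl⟩
    have hP'pg : IsPGroup 2 ((P : Subgroup (normalClosure ({z} : Set G))).map
        (normalClosure ({z} : Set G)).subtype) := P.2.map _
    -- central elements of P' are 1 or z
    have hcen : ∀ c ∈ (P : Subgroup (normalClosure ({z} : Set G))).map (normalClosure ({z} : Set G)).subtype,
        (∀ y ∈ (P : Subgroup (normalClosure ({z} : Set G))).map (normalClosure ({z} : Set G)).subtype,
          y * c = c * y) → c = 1 ∨ c = z := by
      intro c _ hc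
      have hcQ : c ∈ QG := by
        apply h2
        rw [mem_centralizer_iff]
        intro y hy
        exact hc y (hQP' hy)
      exact h5 c hcQ (fun y hy => hc y (hQP' hy))
    have hN : normalizer (((P : Subgroup (normalClosure ({z} : Set G))).map
        (normalClosure ({z} : Set G)).subtype : Subgroup G) : Set G) ≤ centralizer ({z} : Set G) := by
      intro n hn
      rw [memH]
      -- z is central in P'
      have hzP' : z ∈ (P : Subgroup (normalClosure ({z} : Set G))).map (normalClosure ({z} : Set G)).subtype :=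
        hQP' hzQ
      have hzcen : ∀ y ∈ (P : Subgroup (normalClosure ({z} : Set G))).map (normalClosure ({z} : Set G)).subtype,
          y * z = z * y := by
        -- P' has nontrivial centre
        have hnt : Nontrivial ((P : Subgroup (normalClosure ({z} : Set G))).map
            (normalClosure ({z} : Set G)).subtype) := ⟨⟨1, ⟨z, hzP'⟩, fun h => hz1 (by
              simpa using (congrArg Subtype.val h).symm)⟩⟩
        have hcnt := hP'pg.center_nontrivial
        obtain ⟨c, hc1⟩ := exists_ne (1 : Subgroup.center ((P : Subgroup (normalClosure ({z} : Set G))).map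
            (normalClosure ({z} : Set G)).subtype))
        have hcc : ∀ y ∈ (P : Subgroup (normalClosure ({z} : Set G))).map (normalClosure ({z} : Set G)).subtype,
            y * ((c : ((P : Subgroup (normalClosure ({z} : Set G))).map
            (normalClosure ({z} : Set G)).subtype)) : G) = ((c : ((P : Subgroup (normalClosure ({z} : Set G))).map
            (normalClosure ({z} : Set G)).subtype)) : G) * y := by
          intro y hy
          have := Subgroup.mem_center_iff.mp c.2 ⟨y, hy⟩
          simpa using congrArg Subtype.val this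
        rcases hcen _ (c : ((P : Subgroup (normalClosure ({z} : Set G))).map
            (normalClosure ({z} : Set G)).subtype)).2 hcc with e | e
        · exfalso
          apply hc1
          apply Subtype.ext
          apply Subtype.ext
          simpa using e
        · intro y hy
          have := hcc y hy
          rw [e] at this
          exact this
      -- n z n⁻¹ is central in P'
      have hnz : n * z * n⁻¹ ∈ (P : Subgroup (normalClosure ({z} : Set G))).map
          (normalClosure ({z} : Set G)).subtype := (mem_normalizer_iff.mp hn z).mp hzP'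
      have hnzc : ∀ y ∈ (P : Subgroup (normalClosure ({z} : Set G))).map (normalClosure ({z} : Set G)).subtype,
          y * (n * z * n⁻¹) = (n * z * n⁻¹) * y := by
        intro y hy
        have hy' : n⁻¹ * y * n ∈ (P : Subgroup (normalClosure ({z} : Set G))).map
            (normalClosure ({z} : Set G)).subtype := by
          have := (mem_normalizer_iff.mp (inv_mem hn) y).mp hy
          simpa using this
        have := hzcen _ hy'
        calc y * (n * z * n⁻¹) = n * ((n⁻¹ * y * n) * z) * n⁻¹ := by group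
          _ = n * (z * (n⁻¹ * y * n)) * n⁻¹ := by rw [this]
          _ = (n * z * n⁻¹) * y := by group
      rcases hcen _ hnz hnzc with e | e
      · exfalso
        apply hz1
        calc z = n⁻¹ * (n * z * n⁻¹) * n := by group
          _ = 1 := by rw [e]; group
      · calc n * z = (n * z * n⁻¹) * n := by group
          _ = z * n := by rw [e]
    rw [eq_top_iff, ← hfrat]
    exact sup_le (hN.trans hHM) le_rfl
  -- Step F
  refine { exists_pair_ne := ⟨1, z, hz1.symm⟩, eq_bot_or_eq_top_of_normal := ?_ }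
  intro N hN
  by_cases hNbot : N = ⊥
  · left; exact hNbot
  · right
    rw [eq_top_iff, ← hMtop]
    have := hN
    exact normalClosure_le_normal (Set.singleton_subset_iff.mpr (hB N hN hNbot))

end Cfsg.Agent.Helper90
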