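import Mathlib
import Cfsg.Agent.Lib.Helper79.OSPDefs

/-!
# OSP (SGN) (helper79 server for S2720): the sign count
A semiregular isometry `s` of even period `N` on `W ∖ 0`, identity on the orthogonal complement `W'`,
with `#{w ∈ W : Q w = 1} = N * odd`, acts on `{v : Q v = 1}` as an odd permutation.
-/

set_option autoImplicit false

namespace Cfsg.Agent.Helper90.OSP

open QuadraticMap Cfsg.Agent.Helper79.OSP

section perm

variable {α : Type*} [Fintype α] [DecidableEq α]

/-- a permutation acting with period exactly `N` on all its non-fixed points has all cycles of length `N` -/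
theorem sgn_cycleType_of_free (τ : Equiv.Perm α) (N : ℕ)
    (h : ∀ x, τ x ≠ x → ∀ j : ℕ, (τ ^ j) x = x ↔ N ∣ j) :
    τ.cycleType = Multiset.replicate (Multiset.card τ.cycleType) N := by
  apply Multiset.eq_replicate_card.2
  intro n hn
  obtain ⟨c, τ', rfl, hd, hc, rfl⟩ := Equiv.Perm.mem_cycleType_iff.1 hn
  obtain ⟨x, hx, -⟩ := id hc
  have hτ'x : ∀ j : ℕ, (τ' ^ j) x = x :=
    Equiv.Perm.pow_apply_eq_self_of_apply_eq_self ((hd x).resolve_left hx)
  have hpow : ∀ j : ℕ, ((c * τ') ^ j) x = (c ^ j) x := by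
    intro j
    rw [hd.commute.mul_pow, Equiv.Perm.mul_apply, hτ'x]
  have hne : (c * τ') x ≠ x := by
    have h1 := hpow 1
    simp only [pow_one] at h1
    rw [h1]; exact hx
  have key : ∀ j : ℕ, c ^ j = 1 ↔ N ∣ j := by
    intro j
    rw [hc.pow_eq_one_iff' hx, ← hpow j]
    exact h x hne j
  rw [← hc.orderOf]
  apply Nat.dvd_antisymm
  · exact orderOf_dvd_of_pow_eq_one ((key N).2 dvd_rfl)
  · exact (key _).1 (pow_orderOf_eq_one c)

theorem sgn_card_support_of_free (τ : Equiv.Perm α) (N : ℕ)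
    (h : ∀ x, τ x ≠ x → ∀ j : ℕ, (τ ^ j) x = x ↔ N ∣ j) :
    Multiset.card τ.cycleType * N = τ.support.card := by
  rw [← Equiv.Perm.sum_cycleType, sgn_cycleType_of_free τ N h, Multiset.sum_replicate,
    Multiset.card_replicate, smul_eq_mul]

theorem sgn_sign_of_free (τ : Equiv.Perm α) (N : ℕ) (hN : Even N)
    (h : ∀ x, τ x ≠ x → ∀ j : ℕ, (τ ^ j) x = x ↔ N ∣ j) :
    Equiv.Perm.sign τ = (-1) ^ (Multiset.card τ.cycleType) := by
  rw [Equiv.Perm.sign_of_cycleType', sgn_cycleType_of_free τ N h, Multiset.map_replicate,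
    Multiset.prod_replicate, Multiset.card_replicate, hN.neg_one_pow]

omit [Fintype α] in
/-- a finset stable under `τ` on which `τ` acts with period exactly `N ≠ 1` has `N ∣ card` -/
theorem sgn_dvd_card_of_free (τ : Equiv.Perm α) (N : ℕ) (hN1 : N ≠ 1) (T : Finset α)
    (hT : ∀ x, τ x ∈ T ↔ x ∈ T)
    (h : ∀ x ∈ T, ∀ j : ℕ, (τ ^ j) x = x ↔ N ∣ j) : N ∣ T.card := by
  obtain ⟨ρ, hρ⟩ : ∃ ρ : Equiv.Perm {x // x ∈ T}, ρ = τ.subtypePerm hT := ⟨_, rfl⟩
  have hpow : ∀ (j : ℕ) (x : {x // x ∈ T}), ((ρ ^ j) x : α) = (τ ^ j) x.1 := by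
    intro j x
    rw [hρ, Equiv.Perm.subtypePerm_pow, Equiv.Perm.subtypePerm_apply]
  have hfree : ∀ x, ρ x ≠ x → ∀ j : ℕ, (ρ ^ j) x = x ↔ N ∣ j := by
    intro x _ j
    rw [← h x.1 x.2 j, ← hpow j x, Subtype.ext_iff]
  have hsupp : ρ.support = Finset.univ := by
    ext x
    simp only [Equiv.Perm.mem_support, Finset.mem_univ, iff_true]
    intro hx
    have h1 : (ρ ^ 1) x = x := by rw [pow_one]; exact hx
    have h2 : (τ ^ 1) x.1 = x.1 := by rw [← hpow 1 x, h1]
    exact hN1 (Nat.dvd_one.mp ((h x.1 x.2 1).1 h2))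
  have hc := sgn_card_support_of_free ρ N hfree
  rw [hsupp, Finset.card_univ, Fintype.card_coe] at hc
  exact ⟨_, by rw [← hc, mul_comm]⟩

end perm

section main

variable {F : Type*} [Field F] {V : Type*} [AddCommGroup V] [Module F V]

/-- (SGN) of the OSP server, statement verbatim. -/
theorem sign_eq_neg_one [Finite V] (h2 : (2 : F) ≠ 0) (Q : QuadraticForm F V)
    (W W' : Submodule F V) (hc : IsCompl W W')
    (horth : ∀ w ∈ W, ∀ w' ∈ W', polar Q w w' = 0)
    (s : V ≃ₗ[F] V) (N k : ℕ) (hs : ∀ v, Q (s v) = Q v)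
    (hsW : ∀ w ∈ W, s w ∈ W) (hsW' : ∀ w' ∈ W', s w' = w') (hN0 : 0 < N) (hN : Even N) (hk : Odd k)
    (hsN : s ^ N = 1) (hfree : ∀ w ∈ W, w ≠ 0 → ∀ j : ℕ, (s ^ j) w = w → N ∣ j)
    (hcount : Nat.card {w : V // w ∈ W ∧ Q w = 1} = N * k)
    [Fintype {v : V // Q v = 1}] [DecidableEq {v : V // Q v = 1}]
    (σ : Equiv.Perm {v : V // Q v = 1}) (hσ : ∀ p, ((σ p : {v : V // Q v = 1}) : V) = s p.1) :
    Equiv.Perm.sign σ = -1 := by
  classical
  have : Fintype V := Fintype.ofFinite V
  have hN1 : N ≠ 1 := by rintro rfl; exact absurd hN (by decide)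
  -- the decomposition `v = a v + b v`
  obtain ⟨a, ha⟩ : ∃ a : V → V,
      ∀ v, a v = (((Submodule.prodEquivOfIsCompl W W' hc).symm v).1 : V) := ⟨_, fun _ => rfl⟩
  obtain ⟨b, hb⟩ : ∃ b : V → V,
      ∀ v, b v = (((Submodule.prodEquivOfIsCompl W W' hc).symm v).2 : V) := ⟨_, fun _ => rfl⟩
  have haW : ∀ v, a v ∈ W := by intro v; rw [ha]; exact Submodule.coe_mem _
  have hbW' : ∀ v, b v ∈ W' := by intro v; rw [hb]; exact Submodule.coe_mem _
  have hab : ∀ v, a v + b v = v := by
    intro v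
    have h1 := (Submodule.prodEquivOfIsCompl W W' hc).apply_symm_apply v
    rw [Submodule.coe_prodEquivOfIsCompl'] at h1
    rw [ha, hb]; exact h1
  have huniq : ∀ w ∈ W, ∀ w' ∈ W', a (w + w') = w ∧ b (w + w') = w' := by
    intro w hw w' hw'
    have h1 : (Submodule.prodEquivOfIsCompl W W' hc).symm (w + w') = (⟨w, hw⟩, ⟨w', hw'⟩) := by
      rw [LinearEquiv.symm_apply_eq, Submodule.coe_prodEquivOfIsCompl']
    rw [ha, hb, h1]; exact ⟨rfl, rfl⟩
  have hQadd : ∀ w ∈ W, ∀ w' ∈ W', Q (w + w') = Q w + Q w' := by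
    intro w hw w' hw'
    have h1 := horth w hw w' hw'
    rw [polar] at h1
    linear_combination h1
  have hQ : ∀ v, Q v = Q (a v) + Q (b v) := by
    intro v
    rw [← hQadd _ (haW v) _ (hbW' v), hab]
  have hsab : ∀ v, a (s v) = s (a v) ∧ b (s v) = b v := by
    intro v
    have h1 : s v = s (a v) + b v := by
      conv_lhs => rw [← hab v]
      rw [map_add, hsW' _ (hbW' v)]
    rw [h1]
    exact huniq _ (hsW _ (haW v)) _ (hbW' v)
  have hspow : ∀ (j : ℕ) (v : V), a ((s ^ j) v) = (s ^ j) (a v) ∧ b ((s ^ j) v) = b v := by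
    intro j
    induction j with
    | zero => intro v; simp
    | succ j ih =>
      intro v
      rw [pow_succ', LinearEquiv.mul_apply, LinearEquiv.mul_apply]
      obtain ⟨h1, h2⟩ := hsab ((s ^ j) v)
      obtain ⟨h3, h4⟩ := ih v
      rw [h1, h2, h3, h4]; exact ⟨rfl, rfl⟩
  have hσpow : ∀ (j : ℕ) (p : {v : V // Q v = 1}),
      (((σ ^ j) p : {v : V // Q v = 1}) : V) = (s ^ j) p.1 := by
    intro j
    induction j with
    | zero => intro p; simp
    | succ j ih =>
      intro p
      rw [pow_succ', Equiv.Perm.mul_apply, hσ, ih, pow_succ', LinearEquiv.mul_apply]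
  have hper : ∀ p : {v : V // Q v = 1}, a p.1 ≠ 0 → ∀ j : ℕ, (σ ^ j) p = p ↔ N ∣ j := by
    intro p hp j
    constructor
    · intro h
      have h1 : (s ^ j) p.1 = p.1 := by rw [← hσpow, h]
      have h2 : (s ^ j) (a p.1) = a p.1 := by rw [← (hspow j p.1).1, h1]
      exact hfree _ (haW _) hp j h2
    · rintro ⟨c, rfl⟩
      apply Subtype.ext
      rw [hσpow, pow_mul, hsN, one_pow]; rfl
  have hfix : ∀ p : {v : V // Q v = 1}, σ p ≠ p ↔ a p.1 ≠ 0 := by
    intro p
    constructor
    · intro h h0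
      apply h
      apply Subtype.ext
      rw [hσ]
      have h1 : p.1 = b p.1 := by
        have := hab p.1; rw [h0, zero_add] at this; exact this.symm
      rw [h1]; exact hsW' _ (hbW' _)
    · intro h0 h
      have h1 : (σ ^ 1) p = p := by rw [pow_one]; exact h
      exact hN1 (Nat.dvd_one.mp ((hper p h0 1).1 h1))
  have hfree' : ∀ p, σ p ≠ p → ∀ j : ℕ, (σ ^ j) p = p ↔ N ∣ j :=
    fun p hp => hper p ((hfix p).1 hp)
  rw [sgn_sign_of_free σ N hN hfree']
  have hcard := sgn_card_support_of_free σ N hfree'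
  suffices hodd : Odd (Multiset.card σ.cycleType) from hodd.neg_one_pow
  -- the fibres of the support over the `W'`-component
  obtain ⟨T, hT⟩ : ∃ T : V → Finset {v : V // Q v = 1},
      ∀ u, T u = σ.support.filter (fun p => b p.1 = u) := ⟨_, fun _ => rfl⟩
  have hmemT : ∀ u p, p ∈ T u ↔ a p.1 ≠ 0 ∧ b p.1 = u := by
    intro u p
    rw [hT, Finset.mem_filter, Equiv.Perm.mem_support, hfix]
  have hsum : σ.support.card = ∑ u : V, (T u).card := by
    rw [Finset.card_eq_sum_card_fiberwise (f := fun p : {v : V // Q v = 1} => b p.1)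
      (s := σ.support) (t := Finset.univ) (fun _ _ => Finset.mem_univ _)]
    apply Finset.sum_congr rfl
    intro u _
    rw [hT]
  -- (i) `N` divides every fibre
  have hdiv : ∀ u, N ∣ (T u).card := by
    intro u
    apply sgn_dvd_card_of_free σ N hN1 (T u)
    · intro p
      rw [hmemT, hmemT, hσ, (hsab p.1).1, (hsab p.1).2]
      constructor
      · rintro ⟨h1, h2⟩
        refine ⟨fun h0 => h1 ?_, h2⟩
        rw [h0, map_zero]
      · rintro ⟨h1, h2⟩
        refine ⟨fun h0 => h1 ?_, h2⟩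
        exact s.injective (by rw [h0, map_zero])
    · intro p hp j
      exact hper p ((hmemT u p).1 hp).1 j
  -- (ii) the fibres over `u` and `-u` have the same size
  have hQneg : ∀ p : {v : V // Q v = 1}, Q (a p.1 + -b p.1) = 1 := by
    intro p
    rw [hQadd _ (haW _) _ (W'.neg_mem (hbW' _)), QuadraticMap.map_neg, ← hQ]
    exact p.2
  have hle : ∀ u, (T u).card ≤ (T (-u)).card := by
    intro u
    apply Finset.card_le_card_of_injOn (fun p => ⟨a p.1 + -b p.1, hQneg p⟩)
    · intro p hp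
      rw [Finset.mem_coe, hmemT] at hp
      rw [Finset.mem_coe, hmemT]
      obtain ⟨h1, h2⟩ := huniq _ (haW p.1) _ (W'.neg_mem (hbW' p.1))
      show a (a p.1 + -b p.1) ≠ 0 ∧ b (a p.1 + -b p.1) = -u
      rw [h1, h2, hp.2]
      exact ⟨hp.1, rfl⟩
    · intro p _ p' _ hpp
      have h3 : a p.1 + -b p.1 = a p'.1 + -b p'.1 := congrArg Subtype.val hpp
      obtain ⟨h1, h2⟩ := huniq _ (haW p.1) _ (W'.neg_mem (hbW' p.1))
      obtain ⟨h1', h2'⟩ := huniq _ (haW p'.1) _ (W'.neg_mem (hbW' p'.1))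
      rw [h3, h1'] at h1
      rw [h3, h2'] at h2
      apply Subtype.ext
      rw [← hab p.1, ← hab p'.1, ← h1, neg_injective h2]
  have hsymm : ∀ u, (T (-u)).card = (T u).card := by
    intro u
    apply le_antisymm
    · have := hle (-u); rwa [neg_neg] at this
    · exact hle u
  -- (iii) the fibre over `0`
  have h0 : (T 0).card = N * k := by
    rw [← hcount, Nat.card_eq_fintype_card, Fintype.card_subtype]
    apply Finset.card_bij (fun p _ => p.1)
    · intro p hp
      rw [hmemT] at hp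
      rw [Finset.mem_filter]
      refine ⟨Finset.mem_univ _, ?_, p.2⟩
      have := hab p.1
      rw [hp.2, add_zero] at this
      rw [← this]; exact haW _
    · intro p _ p' _ h
      exact Subtype.ext h
    · intro w hw
      rw [Finset.mem_filter] at hw
      refine ⟨⟨w, hw.2.2⟩, ?_, rfl⟩
      rw [hmemT]
      obtain ⟨h1, h2⟩ := huniq w hw.2.1 0 W'.zero_mem
      rw [add_zero] at h1 h2
      refine ⟨?_, h2⟩
      show a w ≠ 0
      rw [h1]
      rintro rfl
      have := hw.2.2
      rw [map_zero] at this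
      exact zero_ne_one this
  -- the sum over `u ≠ 0` is an even multiple of `N`
  have heven : Even (∑ u ∈ (Finset.univ : Finset V).erase 0, (T u).card / N) := by
    rw [← ZMod.natCast_eq_zero_iff_even, Nat.cast_sum]
    refine Finset.sum_involution (fun u _ => -u) ?_ ?_ ?_ ?_
    · intro u _
      rw [hsymm u]
      exact CharTwo.add_self_eq_zero _
    · intro u hu _ hneg
      rw [Finset.mem_erase] at hu
      apply hu.1
      have h3 : (2 : F) • u = 0 := by
        rw [two_smul]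
        nth_rewrite 1 [← hneg]
        exact neg_add_cancel u
      rcases smul_eq_zero.mp h3 with h | h
      · exact absurd h h2
      · exact h
    · intro u hu
      rw [Finset.mem_erase] at hu ⊢
      exact ⟨neg_ne_zero.mpr hu.1, Finset.mem_univ _⟩
    · intro u _
      exact neg_neg u
  obtain ⟨z, hz⟩ := heven
  have hsum2 : ∑ u ∈ (Finset.univ : Finset V).erase 0, (T u).card = N * (z + z) := by
    rw [← hz, Finset.mul_sum]
    apply Finset.sum_congr rfl
    intro u _
    exact (Nat.mul_div_cancel' (hdiv u)).symm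
  have htotal : Multiset.card σ.cycleType * N = N * (k + (z + z)) := by
    rw [hcard, hsum, ← Finset.add_sum_erase _ _ (Finset.mem_univ (0 : V)), h0, hsum2]
    ring
  have hm : Multiset.card σ.cycleType = k + (z + z) := by
    rw [mul_comm] at htotal
    exact Nat.eq_of_mul_eq_mul_left hN0 htotal
  rw [hm]
  exact hk.add_even ⟨z, rfl⟩

end main

end Cfsg.Agent.Helper90.OSP
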