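import Mathlib
import Cfsg.Prelude.Def_Characters
import Cfsg.Prelude.Def_Blocks
import Cfsg.Agent.Lib.Helper80.RPDDefs

/-!
RPD lemma server (helper80, S4861), piece (AB): a minimal normal subgroup inside a solvable subgroup is abelian.
-/

set_option autoImplicit false

namespace Cfsg.Agent.Helper90.RPD

open Cfsg Cfsg.Agent.Helper80.RPD
open scoped ComplexConjugate

universe u

/-- (AB) a minimal normal subgroup inside a solvable subgroup is abelian -/
theorem min_normal_comm {G : Type u} [Group G] [Finite G] (L N : Subgroup G)
    (hsolv : Group.IsSolvable ↥L) (hN : N.Normal) (hNL : N ≤ L)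
    (hmin : ∀ M : Subgroup G, M.Normal → M ≤ N → M = ⊥ ∨ M = N) :
    ∀ a ∈ N, ∀ b ∈ N, a * b = b * a := by
  have hcn : (⁅N, N⁆ : Subgroup G).Normal := Subgroup.commutator_normal N N
  have hcle : ⁅N, N⁆ ≤ N := Subgroup.commutator_le_right N N
  rcases hmin _ hcn hcle with h0 | hperf
  · intro a ha b hb
    have hle := (Subgroup.commutator_eq_bot_iff_le_centralizer).mp h0
    have := hle ha
    rw [Subgroup.mem_centralizer_iff] at this
    exact (this b hb).symm
  · -- perfect and solvable: trivial
    have key : ∀ n : ℕ, N ≤ (derivedSeries ↥L n).map L.subtype := by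
      intro n
      induction n with
      | zero =>
        rw [derivedSeries_zero, ← MonoidHom.range_eq_map, Subgroup.range_subtype]
        exact hNL
      | succ k ih =>
        rw [derivedSeries_succ, Subgroup.map_commutator]
        calc N = ⁅N, N⁆ := hperf.symm
          _ ≤ _ := Subgroup.commutator_mono ih ih
    obtain ⟨n, hn⟩ := hsolv.solvable
    have hbot : N ≤ ⊥ := by
      have := key n
      rwa [hn, Subgroup.map_bot] at this
    intro a ha b hb
    have ha1 : a = 1 := by simpa using hbot ha
    have hb1 : b = 1 := by simpa using hbot hb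
    rw [ha1, hb1]

end Cfsg.Agent.Helper90.RPD
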