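import Mathlib
import Cfsg.Prelude.Def_Characters
import Cfsg.Prelude.Def_Blocks
import Cfsg.Agent.Lib.Helper80.RPDDefs

/-!
RPD lemma server (helper80, S4861), pieces (MIN) and (AB): minimal normal subgroups.
-/

set_option autoImplicit false

namespace Cfsg.Agent.Helper90.RPD

open Cfsg Cfsg.Agent.Helper80.RPD
open scoped ComplexConjugate

universe u

/-- (MIN) a minimal normal subgroup inside a nontrivial normal subgroup -/
theorem exists_min_normal {G : Type u} [Group G] [Finite G] (L : Subgroup G) (hLn : L.Normal)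
    (hL : L ≠ ⊥) :
    ∃ N : Subgroup G, N.Normal ∧ N ≠ ⊥ ∧ N ≤ L ∧
      ∀ M : Subgroup G, M.Normal → M ≤ N → M = ⊥ ∨ M = N := by
  let S : Set (Subgroup G) := {N | N.Normal ∧ N ≠ ⊥ ∧ N ≤ L}
  have hS : S.Nonempty := ⟨L, hLn, hL, le_rfl⟩
  obtain ⟨N, hNS, hmin⟩ := (wellFounded_lt (α := Subgroup G)).has_min S hS
  obtain ⟨hNn, hN0, hNL⟩ := hNS
  refine ⟨N, hNn, hN0, hNL, fun M hMn hMN => ?_⟩
  by_cases hM0 : M = ⊥
  · exact Or.inl hM0
  · right
    have hMS : M ∈ S := ⟨hMn, hM0, hMN.trans hNL⟩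
    have := hmin M hMS
    by_contra hne
    exact this (lt_of_le_of_ne hMN hne)

end Cfsg.Agent.Helper90.RPD
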