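import Mathlib

/-!
RPD3 server (helper80, S4863), piece (PRIME): an abelian minimal normal subgroup is a `p`-group or a `p'`-group.
-/

set_option autoImplicit false

namespace Cfsg.Agent.Helper90.RPD3

universe u

/-- (PRIME) an abelian minimal normal subgroup is a `p`-group or a `p'`-group
(the `p`-torsion `{n ∈ N | n ^ p = 1}` is a normal subgroup of `G`; Cauchy) -/
theorem min_normal_pgroup_or {G : Type u} [Group G] [Finite G] (p : ℕ) [Fact p.Prime]
    (N : Subgroup G) (hN : N.Normal) (hcomm : ∀ a ∈ N, ∀ b ∈ N, a * b = b * a)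
    (hmin : ∀ M : Subgroup G, M.Normal → M ≤ N → M = ⊥ ∨ M = N) :
    IsPGroup p ↥N ∨ ¬ p ∣ Nat.card ↥N := by
  classical
  have hp : p.Prime := Fact.out
  let L : Subgroup G :=
    { carrier := {v | v ∈ N ∧ v ^ p = 1}
      one_mem' := ⟨Subgroup.one_mem _, one_pow _⟩
      mul_mem' := by
        rintro a b ⟨ha, ha'⟩ ⟨hb, hb'⟩
        refine ⟨Subgroup.mul_mem _ ha hb, ?_⟩
        have hc : Commute a b := hcomm a ha b hb
        rw [hc.mul_pow, ha', hb', one_mul]
      inv_mem' := by
        rintro a ⟨ha, ha'⟩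
        exact ⟨Subgroup.inv_mem _ ha, by rw [inv_pow, ha', inv_one]⟩ }
  have hLn : L.Normal := by
    refine ⟨?_⟩
    rintro v ⟨hv, hv'⟩ g
    refine ⟨hN.conj_mem v hv g, ?_⟩
    rw [conj_pow, hv', mul_one, mul_inv_cancel]
  have hLN : L ≤ N := fun v hv => hv.1
  rcases hmin L hLn hLN with hL | hL
  · -- no element of order `p` in `N`
    right
    intro hdvd
    obtain ⟨x, hx⟩ := exists_prime_orderOf_dvd_card' (G := N) p hdvd
    have hxL : (x : G) ∈ L := by
      refine ⟨x.2, ?_⟩
      have h1 : x ^ p = 1 := by rw [← hx]; exact pow_orderOf_eq_one x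
      have h2 := congrArg (fun z : N => (z : G)) h1
      simpa using h2
    rw [hL, Subgroup.mem_bot] at hxL
    have hx1 : x = 1 := Subtype.ext hxL
    rw [hx1, orderOf_one] at hx
    exact hp.one_lt.ne hx
  · left
    intro v
    refine ⟨1, ?_⟩
    have hv : (v : G) ∈ L := by rw [hL]; exact v.2
    apply Subtype.ext
    rw [pow_one]
    simpa using hv.2

end Cfsg.Agent.Helper90.RPD3
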