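import Mathlib
import Cfsg.Prelude.Def_Characters
import Cfsg.Prelude.Def_Blocks
import Cfsg.Agent.Lib.Helper80.RMKDefs
import Cfsg.Agent.Lib.Helper80.RMKBasic
import Cfsg.Agent.Lib.Helper79.Inflation
import Cfsg.Agent.Lib.Helper19.RMKGT1
import Cfsg.Agent.Lib.Helper90.RPDMIN
import Cfsg.Agent.Lib.Helper90.RPDAB
import Cfsg.Agent.Lib.Helper90.RPD3PRIME

/-!
# RMK (T3) for helper80 (S4581): core, with (L2) and (T3A) as hypotheses.
-/

set_option autoImplicit false
set_option linter.style.haveILetI false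

namespace Cfsg.Agent.Helper90.RMK

open Cfsg Cfsg.Agent.Helper80 Cfsg.Agent.Helper80.RMK
open scoped ComplexConjugate

universe u

/-- The statement of (L2), as a hypothesis. -/
def L2Hyp : Prop :=
  ∀ {A : Type u} [Group A] [Finite A] (M : Subgroup A) [M.Normal],
    Odd (Nat.card ↥M) → ∀ χ : IrrCharacter A, Good true χ →
      ∀ m ∈ M, (χ : A → ℂ) m = (χ : A → ℂ) 1

/-- The statement of (T3A), as a hypothesis. -/
def T3AHyp : Prop :=
  ∀ {G : Type u} [Group G] [Finite G] (M : Subgroup G) [M.Normal], Odd (Nat.card ↥M) →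
    (∀ a ∈ M, ∀ b ∈ M, a * b = b * a) → ∀ P : Sylow 2 G,
      M ⊓ Subgroup.centralizer ((P : Subgroup G) : Set G) ≠ ⊥ →
        ∃ χ : IrrCharacter G, Odd (charDegree (χ : G → ℂ)) ∧
          ∃ m ∈ M, (χ : G → ℂ) m ≠ (χ : G → ℂ) 1

/-- A subgroup of odd order meets a `2`-group trivially. -/
theorem t3_inf_eq_bot {G : Type u} [Group G] [Finite G] (M Q : Subgroup G)
    (hodd : Odd (Nat.card ↥M)) (hQ : IsPGroup 2 ↥Q) : ∀ x ∈ M, x ∈ Q → x = 1 := by
  intro x hxM hxQ
  obtain ⟨k, hk⟩ := hQ ⟨x, hxQ⟩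
  have hk' : x ^ 2 ^ k = 1 := by
    have := congrArg Subtype.val hk
    simpa using this
  have h1 : orderOf x ∣ 2 ^ k := orderOf_dvd_of_pow_eq_one hk'
  have h2 : orderOf x ∣ Nat.card ↥M := by
    have h3 : orderOf (⟨x, hxM⟩ : ↥M) = orderOf x := by
      rw [← Subgroup.orderOf_coe]
    rw [← h3]
    exact orderOf_dvd_natCard _
  have hcop : Nat.Coprime (2 ^ k) (Nat.card ↥M) := by
    apply Nat.Coprime.pow_left
    rw [Nat.coprime_two_left]
    exact hodd
  have h4 : orderOf x ∣ 1 := by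
    have := Nat.dvd_gcd h1 h2
    rwa [hcop] at this
  exact orderOf_eq_one_iff.1 (Nat.dvd_one.1 h4)

/-- (T3) core: strong induction on the order. -/
theorem t3_core (hL2 : L2Hyp.{u}) (hT3A : T3AHyp.{u}) :
    ∀ n : ℕ, ∀ (G : Type u) [Group G] [Finite G] [Group.IsSolvable G], Nat.card G = n →
      ∀ P : Sylow 2 G,
        (∀ χ : IrrCharacter G, Odd (charDegree (χ : G → ℂ)) →
          ∀ g : G, ((χ : G → ℂ) g).im = 0) →
        Subgroup.normalizer ((P : Subgroup G) : Set G) = (P : Subgroup G) := by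
  intro n
  induction n using Nat.strong_induction_on with
  | _ n ih =>
  intro G _ _ _ hn P hall
  by_cases htriv : (⊤ : Subgroup G) = ⊥
  · -- trivial group
    have hsub : ∀ H K : Subgroup G, H = K := by
      intro H K
      have hH : H = ⊥ := le_bot_iff.1 (htriv ▸ le_top)
      have hK : K = ⊥ := le_bot_iff.1 (htriv ▸ le_top)
      rw [hH, hK]
    exact hsub _ _
  · -- minimal normal subgroup
    obtain ⟨M, hMn, hM0, -, hmin⟩ :=
      Cfsg.Agent.Helper90.RPD.exists_min_normal (⊤ : Subgroup G) inferInstance htriv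
    haveI : M.Normal := hMn
    have hsolvtop : Group.IsSolvable ↥(⊤ : Subgroup G) := inferInstance
    have hcomm : ∀ a ∈ M, ∀ b ∈ M, a * b = b * a :=
      Cfsg.Agent.Helper90.RPD.min_normal_comm (⊤ : Subgroup G) M hsolvtop hMn le_top hmin
    -- the quotient
    have hcardlt : Nat.card (G ⧸ M) < n := by
      have h1 := Subgroup.card_eq_card_quotient_mul_card_subgroup M
      have h2 : 1 < Nat.card ↥M := by
        rw [Subgroup.one_lt_card_iff_ne_bot]
        exact hM0
      have h3 : 0 < Nat.card (G ⧸ M) := Nat.card_pos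
      rw [← hn, h1]
      nlinarith
    have hallQ : ∀ ψ : IrrCharacter (G ⧸ M), Odd (charDegree (ψ : G ⧸ M → ℂ)) →
        ∀ x : G ⧸ M, ((ψ : G ⧸ M → ℂ) x).im = 0 := by
      intro ψ hψ x
      obtain ⟨g, rfl⟩ := QuotientGroup.mk_surjective x
      have h1 := hall (Cfsg.Agent.Helper79.inflate M ψ)
        (by rw [Cfsg.Agent.Helper79.charDegree_inflate]; exact hψ) g
      rw [Cfsg.Agent.Helper79.inflate_apply] at h1
      exact h1
    have hIH := ih (Nat.card (G ⧸ M)) hcardlt (G ⧸ M) rfl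
      (P.mapSurjective (QuotientGroup.mk'_surjective M)) hallQ
    rw [Cfsg.Agent.Helper19.RMK.normalizer_map_eq 2 M P, Sylow.coe_mapSurjective] at hIH
    -- every element of `N(P)` is `s * m` with `s ∈ P`, `m ∈ M ⊓ N(P)`
    have hdec : ∀ x ∈ Subgroup.normalizer ((P : Subgroup G) : Set G),
        ∃ s ∈ (P : Subgroup G), ∃ m ∈ M,
          m ∈ Subgroup.normalizer ((P : Subgroup G) : Set G) ∧ x = s * m := by
      intro x hx
      have h1 : (QuotientGroup.mk' M) x ∈
          (Subgroup.normalizer ((P : Subgroup G) : Set G)).map (QuotientGroup.mk' M) :=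
        Subgroup.mem_map_of_mem _ hx
      rw [hIH] at h1
      obtain ⟨s, hs, hsx⟩ := Subgroup.mem_map.1 h1
      have h2 : s⁻¹ * x ∈ M := by
        rw [← QuotientGroup.eq]
        exact hsx
      refine ⟨s, hs, s⁻¹ * x, h2, ?_, by group⟩
      exact Subgroup.mul_mem _ (Subgroup.inv_mem _ (Subgroup.le_normalizer hs)) hx
    apply le_antisymm _ Subgroup.le_normalizer
    intro x hx
    obtain ⟨s, hs, m, hmM, hmN, rfl⟩ := hdec x hx
    suffices hmP : m ∈ (P : Subgroup G) from Subgroup.mul_mem _ hs hmP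
    rcases Cfsg.Agent.Helper90.RPD3.min_normal_pgroup_or 2 M hMn hcomm hmin with h2 | hodd2
    · -- `M` is a `2`-group: `M ≤ P`
      have hsup : IsPGroup 2 ↥(M ⊔ (P : Subgroup G)) :=
        IsPGroup.to_sup_of_normal_left h2 P.isPGroup'
      have heq := P.is_maximal' hsup le_sup_right
      have hle : M ≤ (P : Subgroup G) := by
        rw [← heq]; exact le_sup_left
      exact hle hmM
    · -- `M` has odd order
      have hodd : Odd (Nat.card ↥M) := by
        rw [← Nat.not_even_iff_odd, even_iff_two_dvd]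
        exact hodd2
      have hMC : M ⊓ Subgroup.centralizer ((P : Subgroup G) : Set G) = ⊥ := by
        by_contra hne
        obtain ⟨χ, hχodd, m', hm', hχm'⟩ := hT3A M hodd hcomm P hne
        have hgood : Good true χ := ⟨fun _ => hall χ hχodd, hχodd⟩
        exact hχm' (hL2 M hodd χ hgood m' hm')
      have hmC : m ∈ Subgroup.centralizer ((P : Subgroup G) : Set G) := by
        rw [Subgroup.mem_centralizer_iff]
        intro t ht
        have ht' : t ∈ (P : Subgroup G) := ht
        have h1 : m * t * m⁻¹ * t⁻¹ ∈ (P : Subgroup G) := by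
          have h3 : m * t * m⁻¹ ∈ (P : Subgroup G) :=
            (Subgroup.mem_normalizer_iff.1 hmN t).1 ht'
          exact Subgroup.mul_mem _ h3 (Subgroup.inv_mem _ ht')
        have h2 : m * t * m⁻¹ * t⁻¹ ∈ M := by
          have h3 : t * m⁻¹ * t⁻¹ ∈ M := hMn.conj_mem _ (Subgroup.inv_mem _ hmM) t
          have h4 : m * t * m⁻¹ * t⁻¹ = m * (t * m⁻¹ * t⁻¹) := by group
          rw [h4]
          exact Subgroup.mul_mem _ hmM h3
        have h5 := t3_inf_eq_bot M (P : Subgroup G) hodd P.isPGroup' _ h2 h1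
        calc t * m = (m * t * m⁻¹ * t⁻¹)⁻¹ * (m * t) := by group
          _ = m * t := by rw [h5]; group
      have hm1 : m ∈ M ⊓ Subgroup.centralizer ((P : Subgroup G) : Set G) :=
        Subgroup.mem_inf.2 ⟨hmM, hmC⟩
      rw [hMC, Subgroup.mem_bot] at hm1
      rw [hm1]
      exact Subgroup.one_mem _

end Cfsg.Agent.Helper90.RMK
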