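import Mathlib
import Cfsg.Prelude.Def_Characters
import Cfsg.Prelude.Def_Blocks
import Cfsg.Agent.Lib.Helper80.RMKDefs
import Cfsg.Agent.Lib.Helper80.RMKBasic
import Cfsg.Agent.Lib.Helper90.RMKT3Core
import Cfsg.Agent.Lib.Helper69.RMKL2
import Cfsg.Agent.Lib.Helper79.RMKT3A

/-!
# RMK (T3) for helper80 (S4581): the verbatim statement, from the core `t3_core` with
helper69's (L2) and helper79's (T3A).
-/

set_option autoImplicit false
set_option linter.style.haveILetI false

namespace Cfsg.Agent.Helper90.RMK

open Cfsg Cfsg.Agent.Helper80 Cfsg.Agent.Helper80.RMK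
open scoped ComplexConjugate

universe u

/-- (T3) if all irreducible characters of odd degree of the solvable group `G` are real-valued,
the Sylow `2`-subgroups are self-normalizing -/
theorem self_normalizing_of_all_real {G : Type u} [Group G] [Finite G] [Group.IsSolvable G]
    (P : Sylow 2 G)
    (hall : ∀ χ : IrrCharacter G, Odd (charDegree (χ : G → ℂ)) →
      ∀ g : G, ((χ : G → ℂ) g).im = 0) :
    Subgroup.normalizer ((P : Subgroup G) : Set G) = (P : Subgroup G) :=
  t3_core
    (fun M _ hodd χ hχ => Cfsg.Agent.Helper69.RMK.odd_normal_le_ker M hodd χ hχ)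
    (fun M _ hodd hcomm P hfix =>
      Cfsg.Agent.Helper79.RMK.exists_odd_degree_nontrivial M hodd hcomm P hfix)
    _ G rfl P hall

end Cfsg.Agent.Helper90.RMK
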