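import Mathlib
import Cfsg.Prelude.Def_Characters
import Cfsg.Prelude.Def_Blocks
import Cfsg.Agent.Lib.Helper80.BrauerOdd
import Cfsg.Agent.Lib.Helper80.RPDDefs
import Cfsg.Agent.Lib.Helper79.Glaub.RealCorr

/-!
# RPD4 (BRN) for helper80 (S4864): Brauer's permutation lemma with the odd-index trick, summed
over `N`.
-/

set_option autoImplicit false
set_option linter.style.haveILetI false

namespace Cfsg.Agent.Helper90.RPD4

open Cfsg Cfsg.Agent.Helper80 Cfsg.Agent.Helper79.Glaub

universe u v

attribute [local instance] realIrrAction realEltAction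

/-- `C.subgroupOf N` is normal in `N` when `N` normalizes `C`. -/
theorem brn_normal {Γ : Type u} [Group Γ] (C N : Subgroup Γ) (hnorm : ∀ n ∈ N, NormAt C n) :
    (C.subgroupOf N).Normal := by
  constructor
  intro k hk n
  rw [Subgroup.mem_subgroupOf] at hk ⊢
  simpa using (hnorm n n.2).1 _ hk

/-- (BRN) Brauer's permutation lemma with the odd-index trick, summed over `N` -/
theorem brauer_sum {Γ : Type u} [Group Γ] [Finite Γ] (C N : Subgroup Γ) (hCN : C ≤ N)
    (hnorm : ∀ n ∈ N, NormAt C n) (hodd : Odd (C.relIndex N)) :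
    ∑ᶠ n : ↥N, Nat.card {β : IrrCharacter ↥C // (∀ c : ↥C, ((β : ↥C → ℂ) c).im = 0) ∧
        InvAt C (β : ↥C → ℂ) (n : Γ)} =
    ∑ᶠ n : ↥N, Nat.card {c : ↥C // IsConj c c⁻¹ ∧ (n : Γ) * (c : Γ) * (n : Γ)⁻¹ = (c : Γ)} := by
  classical
  haveI hK : (C.subgroupOf N).Normal := brn_normal C N hnorm
  have hoddK : Odd (C.subgroupOf N).index := hodd
  have key := card_orbits_real_irr_eq (C.subgroupOf N) hoddK
  let e : ↥(C.subgroupOf N) ≃* ↥C := Subgroup.subgroupOfEquivOfLe hCN
  have he : ∀ k : ↥(C.subgroupOf N), ((e k : ↥C) : Γ) = ((k : ↥N) : Γ) := fun k => rfl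
  have hes : ∀ c : ↥C, (((e.symm c : ↥(C.subgroupOf N)) : ↥N) : Γ) = (c : Γ) := fun c => rfl
  have := Fintype.ofFinite ↥N
  have := Fintype.ofFinite ↥(C.subgroupOf N)
  have := Fintype.ofFinite (IrrCharacter ↥(C.subgroupOf N))
  have hb1 := MulAction.sum_card_fixedBy_eq_card_orbits_mul_card_group ↥N
    {θ : IrrCharacter ↥(C.subgroupOf N) // ∀ k : ↥(C.subgroupOf N),
      ((θ : ↥(C.subgroupOf N) → ℂ) k).im = 0}
  have hb2 := MulAction.sum_card_fixedBy_eq_card_orbits_mul_card_group ↥N
    {x : ↥(C.subgroupOf N) // IsConj x x⁻¹}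
  -- fixed points on characters
  have h1 : ∀ n : ↥N, Fintype.card (MulAction.fixedBy
      {θ : IrrCharacter ↥(C.subgroupOf N) // ∀ k : ↥(C.subgroupOf N),
        ((θ : ↥(C.subgroupOf N) → ℂ) k).im = 0} n) =
      Nat.card {β : IrrCharacter ↥C // (∀ c : ↥C, ((β : ↥C → ℂ) c).im = 0) ∧
        InvAt C (β : ↥C → ℂ) (n : Γ)} := by
    intro n
    rw [← Nat.card_eq_fintype_card]
    apply Nat.card_congr
    refine ⟨fun θ => ⟨irrComp e.symm θ.1.1, ?_, ?_⟩, fun β => ⟨⟨irrComp e β.1, ?_⟩, ?_⟩, ?_, ?_⟩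
    · intro c
      rw [irrComp_apply]
      exact θ.1.2 _
    · have hfix : n • θ.1 = θ.1 := θ.2
      have hfix' : (letI := irrConjAction (C.subgroupOf N) hK; n • θ.1.1 :
          IrrCharacter ↥(C.subgroupOf N)) = θ.1.1 := by
        have := congrArg Subtype.val hfix
        rwa [realIrrAction_smul_coe] at this
      have hstab := (mem_stabilizer_irrConjAction (C.subgroupOf N) hK n θ.1.1).1 hfix'
      intro g g' hg'
      rw [irrComp_apply, irrComp_apply]
      apply hstab
      apply Subtype.ext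
      simp only [Subgroup.coe_mul, Subgroup.coe_inv]
      rw [hes, hes, hg']
    · intro k
      rw [irrComp_apply]
      exact β.2.1 _
    · rw [MulAction.mem_fixedBy]
      apply Subtype.ext
      rw [realIrrAction_smul_coe]
      have hstab := (mem_stabilizer_irrConjAction (C.subgroupOf N) hK n (irrComp e β.1)).2
      apply hstab
      intro k k' hk'
      rw [irrComp_apply, irrComp_apply]
      apply β.2.2
      rw [he, he, hk']
      simp
    · intro θ
      apply Subtype.ext
      apply Subtype.ext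
      exact irrComp_symm e θ.1.1
    · intro β
      apply Subtype.ext
      exact irrComp_symm' e β.1
  -- fixed points on elements
  have h2 : ∀ n : ↥N, Fintype.card (MulAction.fixedBy
      {x : ↥(C.subgroupOf N) // IsConj x x⁻¹} n) =
      Nat.card {c : ↥C // IsConj c c⁻¹ ∧ (n : Γ) * (c : Γ) * (n : Γ)⁻¹ = (c : Γ)} := by
    intro n
    rw [← Nat.card_eq_fintype_card]
    apply Nat.card_congr
    refine ⟨fun x => ⟨e x.1.1, ?_, ?_⟩, fun c => ⟨⟨e.symm c.1, ?_⟩, ?_⟩, ?_, ?_⟩
    · have h := e.toMonoidHom.map_isConj x.1.2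
      simpa using h
    · have hfix : n • x.1 = x.1 := x.2
      have h3 := congrArg (fun y : {x : ↥(C.subgroupOf N) // IsConj x x⁻¹} =>
        (((y : ↥(C.subgroupOf N)) : ↥N) : Γ)) hfix
      simp only [realEltAction_smul_coe] at h3
      rw [he]
      simpa using h3
    · have h := e.symm.toMonoidHom.map_isConj c.2.1
      simpa using h
    · rw [MulAction.mem_fixedBy]
      apply Subtype.ext
      apply Subtype.ext
      rw [realEltAction_smul_coe]
      apply Subtype.ext
      simp only [Subgroup.coe_mul, Subgroup.coe_inv]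
      rw [hes]
      exact c.2.2
    · intro x
      apply Subtype.ext
      apply Subtype.ext
      simp
    · intro c
      apply Subtype.ext
      simp
  rw [finsum_eq_sum_of_fintype, finsum_eq_sum_of_fintype]
  simp only [← h1, ← h2]
  rw [hb1, hb2]
  congr 1
  rw [← Nat.card_eq_fintype_card, ← Nat.card_eq_fintype_card]
  exact key

end Cfsg.Agent.Helper90.RPD4
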