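import Mathlib
import Cfsg.Prelude.Def_FusionSystem
import Cfsg.Prelude.Def_KGroupFacts
import Cfsg.Agent.Lib.Helper87.Psu3Defs
import Cfsg.Agent.Lib.Helper8.Psl3N5
import Cfsg.Agent.Lib.Helper8.Psl3NORM

/-!
# PSU3F lemma server (helper87, S5319): piece (NORMU) `normalizer_S3U`
Assembly of the normalizer of `S3U` from (N1U), (CEN), (CHARU), (N5G), (N6U) (explicit hypotheses);
unitary twin of helper8's PSL3F (NORM).  `M0, tau ∈ U2 q` are proved locally.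
-/

set_option autoImplicit false

namespace Cfsg.Agent.Helper90.Psu3

open Matrix Cfsg Cfsg.Agent.Helper87.Psl3 Cfsg.Agent.Helper87.Psu3 Cfsg.Agent.Helper8.Psl3

variable {K : Type*} [Field K] {q : ℕ}

local notation "SL3" => Matrix.SpecialLinearGroup (Fin 3) K
local notation "GL2" => GL (Fin 2) K

theorem nu_det_M0 : (Matrix.GeneralLinearGroup.det (M0 : GL2) : Kˣ) = 1 := by
  apply Units.ext
  show ((M0 : GL2) : Matrix (Fin 2) (Fin 2) K).det = 1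
  rw [M0_val, rot, Matrix.det_fin_two_of]
  ring

theorem nu_det_tau : (Matrix.GeneralLinearGroup.det (tau : GL2) : Kˣ) = -1 := by
  apply Units.ext
  show ((tau : GL2) : Matrix (Fin 2) (Fin 2) K).det = ((-1 : Kˣ) : K)
  rw [tau_val, Matrix.det_fin_two_of]
  simp

theorem nu_M0_mem_U2 (hodd : q % 2 = 1) : (M0 : GL2) ∈ U2 q := by
  rw [mem_U2_iff, mem_SU_iff]
  intro u v
  have hq : Odd q := Nat.odd_iff.mpr hodd
  simp only [iota_val, iotaMat, nu_det_M0, M0_val, rot, hermForm, Matrix.mulVec, dotProduct,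
    Fin.sum_univ_three]
  simp [hq.neg_pow]
  ring

theorem nu_tau_mem_U2 (hodd : q % 2 = 1) : (tau : GL2) ∈ U2 q := by
  rw [mem_U2_iff, mem_SU_iff]
  intro u v
  have hq : Odd q := Nat.odd_iff.mpr hodd
  simp only [iota_val, iotaMat, nu_det_tau, tau_val, hermForm, Matrix.mulVec, dotProduct,
    Fin.sum_univ_three]
  simp [hq.neg_pow]

theorem nu_mem_P2U_iff (X : GL2) : X ∈ P2U q ↔ X ∈ (P2 : Subgroup GL2) ∧ X ∈ U2 q := Subgroup.mem_inf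

theorem nu_mem_S2U_iff (X : GL2) : X ∈ S2U q ↔ X ∈ (S2 : Subgroup GL2) ∧ X ∈ U2 q := Subgroup.mem_inf

theorem normalizer_S3U (h2 : (2 : K) ≠ 0) (hodd : q % 2 = 1)
    (hN1 : ∀ g : ↥(Cfsg.SU 3 K q), g ∈ Subgroup.normalizer ((S3U q : Subgroup ↥(Cfsg.SU 3 K q)) : Set ↥(Cfsg.SU 3 K q)) →
      (g : SL3) * zz = zz * (g : SL3))
    (hCEN : ∀ g : SL3, g * zz = zz * g → ∃ X : GL2, g = iota X)
    (hCHAR : ∀ X : GL2, X ∈ Subgroup.normalizer ((S2U q : Subgroup GL2) : Set GL2) →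
      X ∈ Subgroup.normalizer ((P2U q : Subgroup GL2) : Set GL2))
    (hN5 : ∀ X : GL2, X * M0 * X⁻¹ ∈ (Eu : Subgroup GL2) →
      X * M0 * X⁻¹ = M0 ∨ X * M0 * X⁻¹ = M0⁻¹)
    (hN6 : ∀ X : GL2, X ∈ (Eu : Subgroup GL2) → X ∈ U2 q →
      X ∈ Subgroup.normalizer ((S2U q : Subgroup GL2) : Set GL2) →
      ∃ Y ∈ (P2U q : Subgroup GL2), ∃ c : Kˣ, Odd (orderOf c) ∧ X = Y * sc c)
    (g : ↥(Cfsg.SU 3 K q)) (hg : g ∈ Subgroup.normalizer ((S3U q : Subgroup ↥(Cfsg.SU 3 K q)) : Set ↥(Cfsg.SU 3 K q))) :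
    ∃ s ∈ (S3U q : Subgroup ↥(Cfsg.SU 3 K q)), ∃ c : Kˣ, Odd (orderOf c) ∧
      (g : SL3) = (s : SL3) * iota (sc c) := by
  obtain ⟨X, hX⟩ := hCEN (g : SL3) (hN1 g hg)
  have hXU : X ∈ U2 q := by rw [mem_U2_iff, ← hX]; exact g.2
  have key : ∀ Z : GL2, Z ∈ U2 q →
      (Z ∈ (S2 : Subgroup GL2) ↔ X * Z * X⁻¹ ∈ (S2 : Subgroup GL2)) := by
    intro Z hZ
    have h := (Subgroup.mem_normalizer_iff.1 hg) ⟨iota Z, hZ⟩
    rw [mem_S3U_iff, mem_S3U_iff] at h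
    have e : ((g * ⟨iota Z, hZ⟩ * g⁻¹ : ↥(Cfsg.SU 3 K q)) : SL3) = iota (X * Z * X⁻¹) := by
      rw [map_mul, map_mul, map_inv, ← hX]; rfl
    have e' : ((⟨iota Z, hZ⟩ : ↥(Cfsg.SU 3 K q)) : SL3) = iota Z := rfl
    rw [e, e', h8n_iota_mem_S3_iff, h8n_iota_mem_S3_iff] at h
    exact h
  have hXN : X ∈ Subgroup.normalizer ((S2U q : Subgroup GL2) : Set GL2) := by
    rw [Subgroup.mem_normalizer_iff]
    intro Z
    rw [nu_mem_S2U_iff, nu_mem_S2U_iff]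
    constructor
    · rintro ⟨hZ2, hZU⟩
      exact ⟨(key Z hZU).1 hZ2, (U2 q).mul_mem ((U2 q).mul_mem hXU hZU) ((U2 q).inv_mem hXU)⟩
    · rintro ⟨hZ2, hZU⟩
      have hZU' : Z ∈ U2 q := by
        have : Z = X⁻¹ * (X * Z * X⁻¹) * X := by group
        rw [this]
        exact (U2 q).mul_mem ((U2 q).mul_mem ((U2 q).inv_mem hXU) hZU) hXU
      exact ⟨(key Z hZU').2 hZ2, hZU'⟩
  have hM0 : (M0 : GL2) ∈ P2U q := (nu_mem_P2U_iff _).2 ⟨h8_M0_mem_P2, nu_M0_mem_U2 hodd⟩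
  have htauU : (tau : GL2) ∈ U2 q := nu_tau_mem_U2 hodd
  have htauS : (tau : GL2) ∈ S2U q := (nu_mem_S2U_iff _).2 ⟨h8n_tau_mem_S2, htauU⟩
  have hconjE : X * M0 * X⁻¹ ∈ (Eu : Subgroup GL2) :=
    ((nu_mem_P2U_iff _).1 ((Subgroup.mem_normalizer_iff.1 (hCHAR X hXN) M0).1 hM0)).1.1
  rcases hN5 X hconjE with h | h
  · obtain ⟨Y, hY, c, hc, hXY⟩ := hN6 X (h8n_mem_Eu_of_conj h) hXU hXN
    obtain ⟨hY2, hYU⟩ := (nu_mem_P2U_iff _).1 hY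
    refine ⟨⟨iota Y, hYU⟩, ?_, c, hc, ?_⟩
    · rw [mem_S3U_iff]; exact (h8n_iota_mem_S3_iff Y).2 (h8n_P2_le_S2 hY2)
    · show (g : SL3) = iota Y * iota (sc c)
      rw [hX, hXY, map_mul]
  · have hconj : (X * tau) * M0 * (X * tau)⁻¹ = M0 := by
      have e : (X * tau) * M0 * (X * tau)⁻¹ = X * (tau * M0 * tau⁻¹) * X⁻¹ := by group
      rw [e, h8n_tau_conj_M0]
      have e2 : X * M0⁻¹ * X⁻¹ = (X * M0 * X⁻¹)⁻¹ := by group
      rw [e2, h, inv_inv]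
    have hXtU : X * tau ∈ U2 q := (U2 q).mul_mem hXU htauU
    have hXtN : X * tau ∈ Subgroup.normalizer ((S2U q : Subgroup GL2) : Set GL2) :=
      Subgroup.mul_mem _ hXN (Subgroup.le_normalizer htauS)
    obtain ⟨Y, hY, c, hc, hXY⟩ := hN6 (X * tau) (h8n_mem_Eu_of_conj hconj) hXtU hXtN
    obtain ⟨hY2, hYU⟩ := (nu_mem_P2U_iff _).1 hY
    have hXeq : X = (Y * tau⁻¹) * sc c := by
      have e : X = (X * tau) * tau⁻¹ := by group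
      rw [e, hXY, mul_assoc, mul_assoc, h8n_sc_comm]
    have hmemS2 : Y * tau⁻¹ ∈ (S2 : Subgroup GL2) :=
      Subgroup.mul_mem _ (h8n_P2_le_S2 hY2) (Subgroup.inv_mem _ h8n_tau_mem_S2)
    have hmemU : Y * tau⁻¹ ∈ U2 q := (U2 q).mul_mem hYU ((U2 q).inv_mem htauU)
    refine ⟨⟨iota (Y * tau⁻¹), hmemU⟩, ?_, c, hc, ?_⟩
    · rw [mem_S3U_iff]; exact (h8n_iota_mem_S3_iff _).2 hmemS2
    · show (g : SL3) = iota (Y * tau⁻¹) * iota (sc c)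
      rw [← map_mul, ← hXeq, hX]

end Cfsg.Agent.Helper90.Psu3
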