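import Mathlib
import Cfsg.Prelude.Def_Local
import Cfsg.Agent.Lib.Helper89.TH1Defs
import Cfsg.Agent.Lib.Helper81.TH1BDefs

/-!
TH1-B sub-server (helper81, piece (COREB) of helper89's TH1 server, S3797), piece (IV):
`C_M(τ') ≤ C_M(τ)` and `[M, τ] ≤ C_M(τ')` for two elements `τ, τ'` of `E` acting nontrivially on `M = Y/W`.
-/

set_option autoImplicit false

namespace Cfsg.Agent.Helper90.TH1B

open Cfsg Subgroup Cfsg.Agent.Helper89.TH1 Cfsg.Agent.Helper81.TH1B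
open scoped commutatorElement

universe u

variable {G : Type u} [Group G] [Finite G] {W Y K₁ E Q₀ N : Subgroup G}

/-- the commutator only depends on the class of the right argument mod `W`. -/
theorem iv_comm_congr_right (hC : Core G W Y K₁ E Q₀ N) {x z z' : G} (hx : x ∈ Y)
    (hz' : z' ∈ Y) (h : z * z'⁻¹ ∈ W) : ⁅x, z⁆ = ⁅x, z'⁆ := by
  have e : z = (z * z'⁻¹) * z' := by group
  rw [e, comm_mul_right' hC hx (W_le_Y hC h) hz', comm_W_right hC h hx, one_mul]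

/-- the elements `x * x^e` (`e² ≡ 1` on `M`) pairwise commute. -/
theorem iv_u_comm (hC : Core G W Y K₁ E Q₀ N) {e : G} (he : e ∈ actG W Y) (he2 : e ^ 2 ∈ kerM W Y)
    {x z : G} (hx : x ∈ Y) (hz : z ∈ Y) :
    ⁅x * (e * x * e⁻¹), z * (e * z * e⁻¹)⁆ = 1 := by
  have hxe : e * x * e⁻¹ ∈ Y := conj_mem_of_mem_actG he hx
  have hze : e * z * e⁻¹ ∈ Y := conj_mem_of_mem_actG he hz
  have hzi : e⁻¹ * z * e ∈ Y := conj_inv_mem_of_mem_actG he hz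
  -- ⁅x^e, z⁆ = ⁅x, z^e⁆
  have h1 : ⁅e * x * e⁻¹, z⁆ = ⁅x, e * z * e⁻¹⁆ := by
    have hc := comm_conj hC he hx hzi
    have e1 : e * (e⁻¹ * z * e) * e⁻¹ = z := by group
    rw [e1] at hc
    rw [hc]
    symm
    apply iv_comm_congr_right hC hx hzi
    have hk := (mem_kerM.1 he2).2 _ hzi
    have e2 : e * z * e⁻¹ * (e⁻¹ * z * e)⁻¹ = ⁅e ^ 2, e⁻¹ * z * e⁆ := by
      simp only [commutatorElement_def, pow_two]; group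
    rw [e2]; exact hk
  have h2 : ⁅e * x * e⁻¹, e * z * e⁻¹⁆ = ⁅x, z⁆ := comm_conj hC he hx hz
  rw [comm_mul_left' hC hx hxe (Y.mul_mem hz hze), comm_mul_right' hC hx hz hze,
    comm_mul_right' hC hxe hz hze, h1, h2]
  have hc1 : ⁅x, z⁆ ^ 2 = 1 := hC.W_exp _ (hC.comm_mem x hx z hz)
  have hc2 : ⁅x, e * z * e⁻¹⁆ ^ 2 = 1 := hC.W_exp _ (hC.comm_mem x hx _ hze)
  calc ⁅x, z⁆ * ⁅x, e * z * e⁻¹⁆ * (⁅x, e * z * e⁻¹⁆ * ⁅x, z⁆)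
      = ⁅x, z⁆ * ⁅x, e * z * e⁻¹⁆ ^ 2 * ⁅x, z⁆ := by rw [pow_two]; group
    _ = 1 := by rw [hc2, mul_one, ← pow_two, hc1]

/-- (IV) -/
theorem iv (hC : Core G W Y K₁ E Q₀ N) (hQ : Q₀ ≤ kerM W Y)
    (hstar : ∀ e ∈ E, e ∉ kerM W Y → ∀ C : Subgroup G, (∀ y, y ∈ C ↔ y ∈ Y ∧ ⁅e, y⁆ ∈ W) →
      Nat.card C = Nat.card W ^ 2 ∧ ∀ y ∈ C, ∃ x ∈ Y, y * (x * (e * x * e⁻¹))⁻¹ ∈ W)
    (τ τ' : G) (hτ : τ ∈ E) (hτ' : τ' ∈ E) (hτk : τ ∉ kerM W Y) (hτ'k : τ' ∉ kerM W Y) :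
    (∀ y ∈ Y, ⁅τ', y⁆ ∈ W → ⁅τ, y⁆ ∈ W) ∧ (∀ y ∈ Y, ⁅τ', ⁅τ, y⁆⁆ ∈ W) := by
  have hτa : τ ∈ actG W Y := E_le_actG hC hτ
  have hτ'a : τ' ∈ actG W Y := E_le_actG hC hτ'
  have hτ'2 : τ' ^ 2 ∈ kerM W Y := hQ (hC.E_sq τ' hτ')
  have hτ2 : τ ^ 2 ∈ kerM W Y := hQ (hC.E_sq τ hτ)
  obtain ⟨Cτ, hCτ⟩ := exists_cM hC τ
  obtain ⟨Cτ', hCτ'⟩ := exists_cM hC τ'
  obtain ⟨hcard, _⟩ := hstar τ hτ hτk Cτ hCτ
  obtain ⟨hcard', hgen'⟩ := hstar τ' hτ' hτ'k Cτ' hCτ'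
  -- (i)
  have hi : Cτ' ≤ Cτ := by
    intro y hy
    obtain ⟨x, hx, hw⟩ := hgen' y hy
    have hyY : y ∈ Y := ((hCτ' y).1 hy).1
    set u : G := x * (τ' * x * τ'⁻¹) with hu
    have hxe : τ' * x * τ'⁻¹ ∈ Y := conj_mem_of_mem_actG hτ'a hx
    have huY : u ∈ Y := Y.mul_mem hx hxe
    set x₁ : G := τ * x * τ⁻¹ with hx₁
    have hx₁Y : x₁ ∈ Y := conj_mem_of_mem_actG hτa hx
    set p : G := τ * (τ' * x * τ'⁻¹) * τ⁻¹ with hp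
    have hpY : p ∈ Y := conj_mem_of_mem_actG hτa hxe
    set p' : G := τ' * x₁ * τ'⁻¹ with hp'
    have hp'Y : p' ∈ Y := conj_mem_of_mem_actG hτ'a hx₁Y
    have haY : τ * u * τ⁻¹ ∈ Y := conj_mem_of_mem_actG hτa huY
    have ha : τ * u * τ⁻¹ = x₁ * p := by rw [hu, hx₁, hp]; group
    -- p ≡ p'
    have hpp' : p * p'⁻¹ ∈ W := by
      have hq : ⁅τ, τ'⁆ ∈ kerM W Y := hQ (hC.E_comm τ hτ τ' hτ')
      have := (mem_kerM.1 hq).2 p' hp'Y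
      have e1 : p * p'⁻¹ = ⁅⁅τ, τ'⁆, p'⁆ := by
        rw [hp, hp', hx₁]; simp only [commutatorElement_def]; group
      rw [e1]; exact this
    -- ⁅u, τ u τ⁻¹⁆ = 1
    have hcomm : ⁅u, τ * u * τ⁻¹⁆ = 1 := by
      rw [ha, comm_mul_right' hC huY hx₁Y hpY, iv_comm_congr_right hC huY hp'Y hpp',
        ← comm_mul_right' hC huY hx₁Y hp'Y]
      exact iv_u_comm hC hτ'a hτ'2 hx hx₁Y
    -- (a u⁻¹)² = 1
    have hsq : (τ * u * τ⁻¹ * u⁻¹) ^ 2 = 1 := by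
      rw [mul_sq' hC haY (Y.inv_mem huY), sq_conj hC hτa huY]
      have hcm : Commute u (τ * u * τ⁻¹) := commutatorElement_eq_one_iff_mul_comm.1 hcomm
      have : ⁅u⁻¹, τ * u * τ⁻¹⁆ = 1 :=
        commutatorElement_eq_one_iff_mul_comm.2 hcm.inv_left.eq
      rw [this, mul_one, inv_pow, mul_inv_cancel]
    have huC : u ∈ Cτ := by
      rw [hCτ]
      refine ⟨huY, ?_⟩
      rw [commutatorElement_def]
      exact hC.inv_mem _ hsq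
    have hwC : y * u⁻¹ ∈ Cτ := by
      rw [hCτ]
      refine ⟨W_le_Y hC hw, ?_⟩
      rw [commutatorElement_def, conj_eq_of_mem_actG hτa hw, mul_inv_cancel]
      exact W.one_mem
    have : y = (y * u⁻¹) * u := by group
    rw [this]
    exact Cτ.mul_mem hwC huC
  have heq : Cτ' = Cτ := Subgroup.eq_of_le_of_card_ge hi (by rw [hcard, hcard'])
  refine ⟨fun y hy hy' => ((hCτ y).1 (hi ((hCτ' y).2 ⟨hy, hy'⟩))).2, fun y hy => ?_⟩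
  have hcY : ⁅τ, y⁆ ∈ Y := by
    rw [commutatorElement_def]
    exact Y.mul_mem (conj_mem_of_mem_actG hτa hy) (Y.inv_mem hy)
  have hcc : ⁅τ, ⁅τ, y⁆⁆ ∈ W := by
    have e1 : ⁅τ, ⁅τ, y⁆⁆ = ⁅τ ^ 2, y⁆ * (⁅τ, y⁆ ^ 2)⁻¹ := by
      simp only [commutatorElement_def, pow_two]; group
    rw [e1]
    exact W.mul_mem ((mem_kerM.1 hτ2).2 y hy) (W.inv_mem (hC.sq_mem _ hcY))
  have : ⁅τ, y⁆ ∈ Cτ' := by rw [heq, hCτ]; exact ⟨hcY, hcc⟩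
  exact ((hCτ' _).1 this).2

end Cfsg.Agent.Helper90.TH1B
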