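import Mathlib
import Cfsg.Agent.Lib.Helper15.BGW.Ctx
import Cfsg.Agent.Lib.Helper90.BGOmega

/-!
# S1428 (B-G 13.3), case (8): `p ∈ σ(H) - β(H)`, `q ∉ σ(H)`, `H` of `q`-rank at most 1

The `Ctx` adaptor of `Cfsg.Agent.Helper90.BGOmega.omega_false`, with helper15's exact signature.
-/

set_option autoImplicit false

namespace Cfsg.Agent.Helper90.BG133

open Cfsg Subgroup Cfsg.Agent.Helper15.BGW

variable {G : Type*} [Group G] [Finite G]

/-- a nontrivial `q`-subgroup has a subgroup of order `q`. -/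
theorem exists_le_card_eq_prime {q : ℕ} [hq : Fact q.Prime] {T : Subgroup G} (hT : IsPGroup q T)
    (hT1 : T ≠ ⊥) : ∃ X : Subgroup G, X ≤ T ∧ Nat.card X = q := by
  obtain ⟨k, hk⟩ := hT.exists_card_eq
  have hk0 : k ≠ 0 := by
    rintro rfl
    rw [pow_zero] at hk
    exact hT1 (Subgroup.card_eq_one.mp hk)
  have hdvd : q ∣ Nat.card T := by
    rw [hk]
    exact dvd_pow_self q hk0
  obtain ⟨x, hx⟩ := exists_prime_orderOf_dvd_card' q hdvd
  refine ⟨Subgroup.zpowers (x : G), ?_, ?_⟩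
  · rw [Subgroup.zpowers_le]
    exact x.2
  · rw [Nat.card_zpowers, Subgroup.orderOf_coe, hx]

theorem case_q_rank1 (hG : IsMinSimpleOddOrder G) {M H E P R T : Subgroup G} {p q r : ℕ}
    [Fact p.Prime] [Fact q.Prime] [Fact r.Prime] (C : Ctx M H E p q r P R T)
    (hpH : p ∈ sigma H) (hpβ : p ∉ beta H) (hqH : q ∉ sigma H) (hq1 : PRankLE q 1 H) :
    False := by
  obtain ⟨X, hXT, hX⟩ := exists_le_card_eq_prime C.hT C.hT1
  have hXH' : X ≤ ⁅H, H⁆ := hXT.trans C.hTH'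
  have hqd : q ∣ Nat.card ↥⁅H, H⁆ := by
    rw [← hX]
    exact Subgroup.card_dvd_of_le hXH'
  have hqτ : q ∈ tau3 H := ⟨Fact.out, hqH, hqd, hq1⟩
  have hPX : P ≤ centralizer (X : Set G) :=
    C.hPT.trans (Subgroup.centralizer_le (by exact_mod_cast hXT))
  exact Cfsg.Agent.Helper90.BGOmega.omega_false hG M H C.hM C.hH p q C.hpM.2.2.2.1 P C.hPM C.hP
    hpH hpβ C.hqM X (hXT.trans C.hTM) hX hPX hqτ hXH'

end Cfsg.Agent.Helper90.BG133
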