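import Mathlib
import Cfsg.Agent.Lib.Helper82.BG95R3
import Cfsg.Agent.Lib.Helper22.Fitting

/-!
# S1a (`step1_small`) for helper73's proof of Bender–Glauberman Lemma 9.5 (S1402)

If `F(M)` has rank at most 2 for a maximal subgroup `M` of a minimal simple group of odd order, then for the
largest prime divisor `q` of `|M|` the Sylow `q`-subgroup `Q` of `M` is normal in `M`, `N_G(Q) = M`, and `Q` is a
maximal `q`-subgroup of `G`.
-/

set_option autoImplicit false

namespace Cfsg.Agent.Helper90.BG95S1a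

open Cfsg Subgroup

variable {G : Type*} [Group G]

/-- `p`-rank transports along an injective hom (backwards). -/
private theorem pRankLE_of_inj {H K : Type*} [Group H] [Group K] {p k : ℕ} (f : H →* K)
    (hf : Function.Injective f) (h : PRankLE p k K) : PRankLE p k H := by
  intro A hA hAp
  have hc : IsMulCommutative ↥(A.map f) := by
    refine ⟨⟨?_⟩⟩
    rintro ⟨x, a, ha, rfl⟩ ⟨y, b, hb, rfl⟩
    apply Subtype.ext
    show f a * f b = f b * f a
    rw [← map_mul, ← map_mul]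
    congr 1
    have := hA.is_comm.comm ⟨a, ha⟩ ⟨b, hb⟩
    exact congrArg Subtype.val this
  have hp : ∀ a ∈ A.map f, a ^ p = 1 := by
    rintro _ ⟨a, ha, rfl⟩
    rw [← map_pow, hAp a ha, map_one]
  have := h (A.map f) hc hp
  rwa [Nat.card_congr (A.equivMapOfInjective f hf).symm.toEquiv] at this

/-- a coatom of a nonabelian group is nontrivial -/
private theorem coatom_ne_bot (hnc : ¬ IsMulCommutative G) (M : Subgroup G) (hM : IsCoatom M) : M ≠ ⊥ := by
  intro hbot
  apply hnc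
  refine ⟨⟨fun a b => ?_⟩⟩
  by_cases ha : a = 1
  · rw [ha, one_mul, mul_one]
  · have h1 : M < Subgroup.zpowers a := by
      rw [hbot, bot_lt_iff_ne_bot]
      intro h
      exact ha ((Subgroup.zpowers_eq_bot).mp h)
    have h2 : Subgroup.zpowers a = ⊤ := hM.2 _ h1
    have hb : b ∈ Subgroup.zpowers a := by rw [h2]; exact Subgroup.mem_top b
    obtain ⟨k, rfl⟩ := Subgroup.mem_zpowers_iff.mp hb
    exact (Commute.zpow_right (Commute.refl a) k).eq

variable [Finite G]

/-- (S1a) -/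
theorem step1_small (hG : IsMinSimpleOddOrder G) (M : Subgroup G) (hM : IsCoatom M)
    (hr : ∀ q : ℕ, q.Prime → PRankLE q 2 ↥(fittingOf M)) :
    ∃ q : ℕ, q.Prime ∧ ∃ Q : Subgroup G, Q ≤ fittingOf M ∧ IsPGroup q Q ∧ Q ≠ ⊥ ∧
      M ≤ normalizer (Q : Set G) ∧ normalizer (Q : Set G) ≤ M ∧
      ∀ R : Subgroup G, IsPGroup q R → Q ≤ R → R = Q := by
  classical
  obtain ⟨hoddG, hsimple, hnc, hsolvG⟩ := hG
  have hMtop : M ≠ ⊤ := hM.1
  have hsolv : Group.IsSolvable ↥M := hsolvG M hMtop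
  have hodd : Odd (Nat.card ↥M) := Odd.of_dvd_nat hoddG (Subgroup.card_subgroup_dvd_card M)
  have hMbot : M ≠ ⊥ := coatom_ne_bot hnc M hM
  have hnt : Nontrivial ↥M := (Subgroup.nontrivial_iff_ne_bot M).mpr hMbot
  -- rank of the Fitting subgroup of `↥M`
  have hrank : RankLE 2 ↥(fittingSubgroup ↥M) := by
    intro q hq
    have e : ↥(fittingSubgroup ↥M) ≃* ↥(fittingOf M) :=
      (fittingSubgroup ↥M).equivMapOfInjective M.subtype (Subgroup.subtype_injective M)
    exact pRankLE_of_inj e.toMonoidHom e.injective (hr q hq)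
  obtain ⟨q, hqp, hqd, -, Q0, hQ0c⟩ := Cfsg.Agent.Helper82.BG95R3.r3_char hodd hrank
  have : Fact q.Prime := ⟨hqp⟩
  have hQ0n : (Q0 : Subgroup ↥M).Normal := inferInstance
  have hQ0p : IsPGroup q (Q0 : Subgroup ↥M) := Q0.isPGroup'
  set Q : Subgroup G := (Q0 : Subgroup ↥M).map M.subtype with hQdef
  have hQM : Q ≤ M := Subgroup.map_subtype_le _
  have hQp : IsPGroup q Q := hQ0p.map M.subtype
  have hQ1 : Q ≠ ⊥ := by
    intro h
    have h1 : (Q0 : Subgroup ↥M) = ⊥ := by
      rw [hQdef, Subgroup.map_eq_bot_iff_of_injective _ (Subgroup.subtype_injective M)] at h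
      exact h
    exact Q0.ne_bot_of_dvd_card hqd h1
  have hMN : M ≤ normalizer (Q : Set G) := by
    intro m hm
    rw [Subgroup.mem_normalizer_iff]
    intro x
    constructor
    · rintro ⟨y, hy, rfl⟩
      refine ⟨⟨m, hm⟩ * y * ⟨m, hm⟩⁻¹, hQ0n.conj_mem y hy ⟨m, hm⟩, ?_⟩
      simp
    · rintro ⟨y, hy, hyx⟩
      have hyx' : (y : G) = m * x * m⁻¹ := hyx
      have hxM : x ∈ M := by
        have h1 : m * x * m⁻¹ ∈ M := by rw [← hyx']; exact y.2
        have h2 := M.mul_mem (M.mul_mem (M.inv_mem hm) h1) hm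
        have h3 : m⁻¹ * (m * x * m⁻¹) * m = x := by group
        rwa [h3] at h2
      refine ⟨⟨x, hxM⟩, ?_, rfl⟩
      have h4 := hQ0n.conj_mem y hy (⟨m, hm⟩⁻¹ : ↥M)
      have h5 : (⟨m, hm⟩⁻¹ : ↥M) * y * (⟨m, hm⟩⁻¹ : ↥M)⁻¹ = ⟨x, hxM⟩ := by
        apply Subtype.ext
        simp only [Subgroup.coe_mul, Subgroup.coe_inv, inv_inv]
        rw [hyx']
        group
      rwa [h5] at h4
  have hNM : normalizer (Q : Set G) ≤ M := by
    rcases eq_or_lt_of_le hMN with h | h
    · exact h.symm.le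
    · exfalso
      have htop : normalizer (Q : Set G) = ⊤ := hM.2 _ h
      have hQn : Q.Normal := Subgroup.normalizer_eq_top_iff.mp htop
      rcases hQn.eq_bot_or_eq_top with h1 | h1
      · exact hQ1 h1
      · apply hMtop
        rw [eq_top_iff, ← h1]
        exact hQM
  refine ⟨q, hqp, Q, ?_, hQp, hQ1, hMN, hNM, ?_⟩
  · -- `Q ≤ F(M)`
    unfold fittingOf
    apply Subgroup.map_mono
    have hnil : Group.IsNilpotent ↥(Q0 : Subgroup ↥M) := hQ0p.isNilpotent
    exact Cfsg.Agent.Helper22.le_fittingSubgroup hQ0n hnil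
  · -- maximality
    intro R hR hQR
    by_contra hne
    have hlt : Q.subgroupOf R < ⊤ := by
      rw [lt_top_iff_ne_top]
      intro h
      apply hne
      apply le_antisymm _ hQR
      intro x hx
      have : (⟨x, hx⟩ : ↥R) ∈ Q.subgroupOf R := by rw [h]; exact Subgroup.mem_top _
      exact Subgroup.mem_subgroupOf.mp this
    have hnilR : Group.IsNilpotent ↥R := hR.isNilpotent
    have hnc' := Group.normalizerCondition_of_isNilpotent (G := ↥R) (Q.subgroupOf R) hlt
    obtain ⟨x, hxN, hxQ⟩ := SetLike.exists_of_lt hnc'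
    -- `x` normalizes `Q`
    have hxNG : (x : G) ∈ normalizer (Q : Set G) := by
      rw [Subgroup.mem_normalizer_iff]
      intro g
      have hx' := Subgroup.mem_normalizer_iff.mp hxN
      constructor
      · intro hg
        have := (hx' ⟨g, hQR hg⟩).mp (Subgroup.mem_subgroupOf.mpr hg)
        exact Subgroup.mem_subgroupOf.mp this
      · intro hg
        have hgR : g ∈ R := by
          have h1 : (x : G) * g * (x : G)⁻¹ ∈ R := hQR hg
          have h2 := R.mul_mem (R.mul_mem (R.inv_mem x.2) h1) x.2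
          have h3 : (x : G)⁻¹ * ((x : G) * g * (x : G)⁻¹) * (x : G) = g := by group
          rwa [h3] at h2
        have := (hx' ⟨g, hgR⟩).mpr (Subgroup.mem_subgroupOf.mpr hg)
        exact Subgroup.mem_subgroupOf.mp this
    have hxM : (x : G) ∈ M := hNM hxNG
    -- the `q`-subgroup `N_R(Q)` of `M` contains the Sylow subgroup `Q0`
    set H : Subgroup ↥M := (R ⊓ normalizer (Q : Set G)).subgroupOf M with hHdef
    have hHp : IsPGroup q H := (hR.to_le inf_le_left).comap_subtype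
    have hQ0H : (Q0 : Subgroup ↥M) ≤ H := by
      intro y hy
      rw [hHdef, Subgroup.mem_subgroupOf, Subgroup.mem_inf]
      have hyQ : (y : G) ∈ Q := ⟨y, hy, rfl⟩
      exact ⟨hQR hyQ, Subgroup.le_normalizer hyQ⟩
    have hHQ0 : H = (Q0 : Subgroup ↥M) := Q0.is_maximal' hHp hQ0H
    have hxH : (⟨(x : G), hxM⟩ : ↥M) ∈ H := by
      rw [hHdef, Subgroup.mem_subgroupOf, Subgroup.mem_inf]
      exact ⟨x.2, hxNG⟩
    rw [hHQ0] at hxH
    apply hxQ
    rw [Subgroup.mem_subgroupOf]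
    exact ⟨⟨(x : G), hxM⟩, hxH, rfl⟩

/-- the field `Inputs.s1a` of `Cfsg.Agent.Helper73.BG95.Inputs`, verbatim -/
theorem s1a_field (hG : IsMinSimpleOddOrder G) :
    ∀ (M : Subgroup G), IsCoatom M → (∀ q : ℕ, q.Prime → PRankLE q 2 ↥(fittingOf M)) →
      ∃ q : ℕ, q.Prime ∧ ∃ Q : Subgroup G, Q ≤ fittingOf M ∧ IsPGroup q Q ∧ Q ≠ ⊥ ∧
        M ≤ normalizer (Q : Set G) ∧ normalizer (Q : Set G) ≤ M ∧
        ∀ R : Subgroup G, IsPGroup q R → Q ≤ R → R = Q :=
  fun M hM hr => step1_small hG M hM hr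

end Cfsg.Agent.Helper90.BG95S1a
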