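import Mathlib
import Cfsg.Agent.Lib.Helper67.BGCruxDefs
import Cfsg.Agent.Lib.Helper45.BG143
import Cfsg.Agent.Lib.Helper34.BG10b
import Cfsg.Agent.Lib.Helper33.Conj

/-!
# CRUX (L8) of S1430/S1431, package C6, sub-lemma (A6) (helper67's server)

A subgroup `X` of prime order `q ∈ κ(H)` of `C = C_{M_σ}(Y)` has `N_G(X) ≤ M`.
-/

set_option autoImplicit false
open Pointwise

namespace Cfsg.Agent.Helper90.BGCrux

open Subgroup Cfsg
open Cfsg.Agent.Helper52 (sylCard)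
open Cfsg.Agent.Helper67.BGCrux
open Cfsg.Agent.Helper33 (map_conj_eq_smul conj_smul_le_conj_smul conj_inv_smul_smul conj_mul_smul
  conj_smul_le_iff_le_inv)

variable {G : Type*} [Group G] [Finite G]

/-- **(C6-A6)** a subgroup `X` of prime order `q ∈ κ(H)` of `C` has `N_G(X) ≤ M`. -/
theorem c6_normalizer_le (hG : IsMinSimpleOddOrder G) (rows : Rows G) (inp : Inputs G)
    {M E Y H : Subgroup G} {s : ℕ} (cfg : Cfg M E Y s) (hs : HSide M E Y H s) {q : ℕ} [Fact q.Prime]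
    (hqκ : q ∈ kappa H) {X : Subgroup G} (hXC : X ≤ sigmaCore M ⊓ centralizer (Y : Set G))
    (hX : Nat.card X = q) : normalizer (X : Set G) ≤ M := by
  classical
  have hq : q.Prime := Fact.out
  have hM := cfg.hM
  have hXσ : X ≤ sigmaCore M := hXC.trans inf_le_left
  have hσM : sigmaCore M ≤ M := (rows.r1350 M hM).1.1
  have hXM : X ≤ M := hXσ.trans hσM
  have hXq : IsPGroup q X := IsPGroup.of_card (n := 1) (by rw [hX, pow_one])
  have hXne : X ≠ ⊥ := by
    intro h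
    have h1 : Nat.card X = 1 := by rw [h]; exact Subgroup.card_bot
    rw [hX] at h1
    exact hq.one_lt.ne' h1
  have hXtop : X ≠ ⊤ := Cfsg.Agent.Helper34.BG.ne_top_of_le_coatom hM hXM
  obtain ⟨L, hL, hNL⟩ := Cfsg.Agent.Helper34.BG.exists_coatom_ge
    (Cfsg.Agent.Helper34.BG.normalizer_ne_top hG hXne hXtop)
  -- `X ≤ H`
  have hXH : X ≤ H := by
    have h1 : X ≤ sigmaCore M ⊓ H := by rw [hs.hMsH]; exact hXC
    exact h1.trans inf_le_right
  -- `Y ≠ ⊥`, `Y ≤ H_σ ⊓ C(X)`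
  have hsP : s.Prime := cfg.hs.1
  have hYne : Y ≠ ⊥ := by
    intro h
    have h1 : Nat.card Y = 1 := by rw [h]; exact Subgroup.card_bot
    rw [cfg.hY] at h1
    exact hsP.one_lt.ne' h1
  have hYX : Y ≤ centralizer (X : Set G) := by
    intro y hy
    rw [Subgroup.mem_centralizer_iff]
    intro x hx
    have h1 : x ∈ centralizer (Y : Set G) := (hXC hx).2
    rw [Subgroup.mem_centralizer_iff] at h1
    exact (h1 y hy).symm
  have hne : sigmaCore H ⊓ centralizer (X : Set G) ≠ ⊥ := by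
    intro h
    apply hYne
    rw [eq_bot_iff, ← h]
    exact le_inf hs.hYσ hYX
  -- (L6): `X ≤ L_σ`
  have hXL : X ≤ sigmaCore L :=
    inp.l6 H hs.hH q hq hqκ.2.2.1 (Cfsg.Agent.Helper45.BG143.pRankLE_one_of_kappa hqκ) X hXH hX hne
      L hL hNL
  have hqd : ∀ K : Subgroup G, X ≤ K → q ∣ Nat.card K := by
    intro K hK
    rw [← hX]
    exact Subgroup.card_dvd_of_le hK
  have hqL : q ∈ sigma L := (rows.r1350 L hL).1.2.1 q hq (hqd _ hXL)
  have hqM : q ∈ sigma M := (rows.r1350 M hM).1.2.1 q hq (hqd _ hXσ)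
  obtain ⟨g, hg⟩ := inp.sp M L hM hL ⟨q, hqM, hqL⟩
  rw [map_conj_eq_smul] at hg
  -- `g⁻¹ = m c`
  have hXL' : X ≤ L := le_normalizer.trans hNL
  have hconj : X.map (MulAut.conj g⁻¹).toMonoidHom ≤ M := by
    rw [map_conj_eq_smul]
    calc MulAut.conj g⁻¹ • X ≤ MulAut.conj g⁻¹ • L := conj_smul_le_conj_smul hXL'
      _ = M := by rw [hg, conj_inv_smul_smul]
  obtain ⟨m, hm, c, hc, hgmc⟩ := (rows.r1404 M hM q hqM X hXq hXne hXM).1 g⁻¹ hconj
  have hcL : c ∈ L := hNL (Subgroup.centralizer_le_normalizer _ hc)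
  have hg' : g = c⁻¹ * m⁻¹ := by
    have : g = (g⁻¹)⁻¹ := (inv_inv g).symm
    rw [this, hgmc, mul_inv_rev]
  have hLM : L = M := by
    have h1 : L = MulAut.conj c⁻¹ • M := by
      rw [hg, hg', conj_mul_smul, Subgroup.conj_smul_eq_self_of_mem (M.inv_mem hm)]
    have h2 : MulAut.conj c • L = M := by
      rw [h1]
      have := conj_inv_smul_smul c⁻¹ M
      rwa [inv_inv] at this
    rw [← h2, Subgroup.conj_smul_eq_self_of_mem hcL]
  rw [← hLM]
  exact hNL

end Cfsg.Agent.Helper90.BGCrux
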