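import Mathlib
import Cfsg.Agent.Lib.Helper32.C3Defs
import Cfsg.Agent.Lib.Helper9.C3M3Defs

/-!
# C3M3 sub-server (helper9, S4415), piece (D): `pi_R_V4`
-/

set_option autoImplicit false

namespace Cfsg.Agent.Helper90.C3M3

open Cfsg.Agent.Helper32.C3 Cfsg.Agent.Helper9.C3M3

universe u v

set_option maxRecDepth 100000 in
set_option synthInstance.maxHeartbeats 400000 in
set_option synthInstance.maxSize 1024 in
theorem word_lemma : ∀ c τ : Equiv.Perm (Fin 4), c ^ 3 = 1 → c ≠ 1 → ¬ InV4 τ →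
    (τ ^ 3 = 1 ∧ τ ≠ 1) ∨ ∃ k l : Fin 3,
      ((c ^ (k : ℕ) * τ * (c ^ (k : ℕ))⁻¹) * (c ^ (l : ℕ) * τ * (c ^ (l : ℕ))⁻¹)) ^ 3 = 1 ∧
      (c ^ (k : ℕ) * τ * (c ^ (k : ℕ))⁻¹) * (c ^ (l : ℕ) * τ * (c ^ (l : ℕ))⁻¹) ≠ 1 := by
  decide

section Perm

variable {G : Type u} [Group G] [Finite G] (R : Subgroup G) (b : G)
  (π : G →* Equiv.Perm (Fin 4))

theorem pi_R_V4 [R.Normal] (hcop : (Nat.card ↥R).Coprime 3) (hb3 : b ^ 3 = 1) (hb1 : π b ≠ 1) :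
    ∀ r ∈ R, InV4 (π r) := by
  intro r hr
  by_contra hV
  have hc3 : π b ^ 3 = 1 := by rw [← map_pow, hb3, map_one]
  -- an element of `R` whose image has order three
  have key : ∃ x ∈ R, π x ^ 3 = 1 ∧ π x ≠ 1 := by
    rcases word_lemma (π b) (π r) hc3 hb1 hV with h | ⟨k, l, h1, h2⟩
    · exact ⟨r, hr, h.1, h.2⟩
    · refine ⟨(b ^ (k : ℕ) * r * (b ^ (k : ℕ))⁻¹) * (b ^ (l : ℕ) * r * (b ^ (l : ℕ))⁻¹),
        mul_mem (Subgroup.Normal.conj_mem inferInstance r hr _)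
          (Subgroup.Normal.conj_mem inferInstance r hr _), ?_, ?_⟩
      · simpa only [map_mul, map_inv, map_pow] using h1
      · simpa only [map_mul, map_inv, map_pow] using h2
  obtain ⟨x, hxR, hx3, hx1⟩ := key
  have ho : orderOf (π x) = 3 := orderOf_eq_prime hx3 hx1
  have h1 : orderOf (π x) ∣ orderOf x := orderOf_map_dvd π x
  have h2 : orderOf x ∣ Nat.card ↥R := Subgroup.orderOf_dvd_natCard R hxR
  have h3 : (3 : ℕ) ∣ Nat.card ↥R := ho ▸ h1.trans h2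
  have h4 : (3 : ℕ) ∣ Nat.gcd (Nat.card ↥R) 3 := Nat.dvd_gcd h3 dvd_rfl
  rw [hcop] at h4
  omega

end Perm

end Cfsg.Agent.Helper90.C3M3
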