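import Mathlib
import Cfsg.Agent.Lib.Helper32.C3Defs
import Cfsg.Agent.Lib.Helper9.C3M3Defs

/-!
# C3M3 sub-server (helper9, S4415), piece (I): `diag_trichotomy`
-/

set_option autoImplicit false

namespace Cfsg.Agent.Helper90.C3M3

open Cfsg.Agent.Helper32.C3 Cfsg.Agent.Helper9.C3M3

universe u v

theorem unit_cases : ∀ c : (ZMod 3)ˣ, c = 1 ∨ c = -1 := by decide

set_option maxRecDepth 100000 in
set_option synthInstance.maxHeartbeats 400000 in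
set_option synthInstance.maxSize 1024 in
theorem conj_lemma : ∀ ε₀ ε' : Fin 4 → (ZMod 3)ˣ, ∏ i, ε₀ i = 1 → (¬ ∀ i j, ε₀ i = ε₀ j) →
    ∏ i, ε' i = 1 → (¬ ∀ i j, ε' i = ε' j) →
    ∃ σ : Equiv.Perm (Fin 4), Equiv.Perm.sign σ = 1 ∧ ∀ i, ε' i = ε₀ (σ⁻¹ i) := by
  decide

theorem vec_facts :
    (∏ i, (![-1, -1, 1, 1] : Fin 4 → (ZMod 3)ˣ) i = 1 ∧
      ¬ ∀ i j, (![-1, -1, 1, 1] : Fin 4 → (ZMod 3)ˣ) i = (![-1, -1, 1, 1] : Fin 4 → (ZMod 3)ˣ) j) ∧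
    (∏ i, (![1, 1, -1, -1] : Fin 4 → (ZMod 3)ˣ) i = 1 ∧
      ¬ ∀ i j, (![1, 1, -1, -1] : Fin 4 → (ZMod 3)ˣ) i = (![1, 1, -1, -1] : Fin 4 → (ZMod 3)ˣ) j) ∧
    ∀ i, (![1, 1, -1, -1] : Fin 4 → (ZMod 3)ˣ) i * (![-1, -1, 1, 1] : Fin 4 → (ZMod 3)ˣ) i = -1 := by
  decide

section Mono2

variable {G : Type u} [Group G] [Finite G] {V : Type v} [AddCommGroup V] [Module (ZMod 3) V]
  [Finite V] (ρ : Representation (ZMod 3) G V) (R Q : Subgroup G) (b : G)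
  (e : Module.Basis (Fin 4) (ZMod 3) V) (π : G →* Equiv.Perm (Fin 4))
  (s : G → Fin 4 → (ZMod 3)ˣ)

theorem diag_trichotomy (hsm : ∀ g h i, s (g * h) i = s h i * s g (π h i))
    (hs1 : ∀ i, s 1 i = 1)
    (hprod : ∀ r ∈ R, ∏ i, s r i = 1)
    (heven : ∀ σ : Equiv.Perm (Fin 4), Equiv.Perm.sign σ = 1 → ∃ g : G, π g = σ)
    (hconj : ∀ g d : G, d ∈ R ⊓ π.ker →
      g * d * g⁻¹ ∈ R ⊓ π.ker ∧ ∀ i, s (g * d * g⁻¹) i = s d ((π g)⁻¹ i)) :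
    (∀ d ∈ R ⊓ π.ker, ∀ i j, s d i = s d j) ∨
      ∀ ε : Fin 4 → (ZMod 3)ˣ, ∏ i, ε i = 1 → ∃ d ∈ R ⊓ π.ker, ∀ i, s d i = ε i := by
  by_cases hsc : ∀ d ∈ R ⊓ π.ker, ∀ i j, s d i = s d j
  · exact Or.inl hsc
  right
  push Not at hsc
  obtain ⟨d, hd, i₀, j₀, hij⟩ := hsc
  have hdR : d ∈ R := hd.1
  have hnc : ¬ ∀ i j, s d i = s d j := fun hall => hij (hall i₀ j₀)
  -- non-constant vectors are realised
  have step1 : ∀ ε : Fin 4 → (ZMod 3)ˣ, ∏ i, ε i = 1 → (¬ ∀ i j, ε i = ε j) →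
      ∃ d' ∈ R ⊓ π.ker, ∀ i, s d' i = ε i := by
    intro ε hε hεnc
    obtain ⟨σ, hσ, hσε⟩ := conj_lemma (s d) ε (hprod d hdR) hnc hε hεnc
    obtain ⟨g, hg⟩ := heven σ hσ
    obtain ⟨h1, h2⟩ := hconj g d hd
    refine ⟨g * d * g⁻¹, h1, fun i => ?_⟩
    rw [h2 i, hg, hσε i]
  intro ε hε
  by_cases hεc : ∀ i j, ε i = ε j
  · rcases unit_cases (ε 0) with h0 | h0
    · refine ⟨1, one_mem _, fun i => ?_⟩
      rw [hs1, hεc i 0, h0]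
    · obtain ⟨⟨hv1, hv2⟩, ⟨hw1, hw2⟩, hvw⟩ := vec_facts
      obtain ⟨d₁, hd₁, hs₁⟩ := step1 _ hv1 hv2
      obtain ⟨d₂, hd₂, hs₂⟩ := step1 _ hw1 hw2
      refine ⟨d₁ * d₂, mul_mem hd₁ hd₂, fun i => ?_⟩
      have hπ2 : π d₂ = 1 := MonoidHom.mem_ker.1 hd₂.2
      rw [hsm, hπ2, Equiv.Perm.one_apply, hs₁, hs₂, hvw i, hεc i 0, h0]
  · exact step1 ε hε hεc

end Mono2

end Cfsg.Agent.Helper90.C3M3
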