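import Mathlib
import Cfsg.Agent.Lib.Helper24.CYCDefs

/-!
CYC server (helper24, S4016), piece (C8): a Schur-Zassenhaus complement `K` to `P` in `N_G(P)` containing all
`p'`-elements of `C_G(P)`.  (The statement holds for any Sylow `p`-subgroup of any finite group; `Min` is not used.)
-/

set_option autoImplicit false

namespace Cfsg.Agent.Helper90.CYC

open Subgroup Cfsg.Agent.Helper24.CYC

universe u

variable {G : Type u} [Group G] [Finite G] {p : ℕ} [Fact p.Prime]

/-- Generic version of (C8), valid in every finite group: a complement `K` to `P` in `N_G(P)`; every such complement contains all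
`p'`-elements `t` of `C_G(P)` (`t = x k`, `x ∈ P`, `k ∈ K` commute, so `t^|P| = k^|P| ∈ K` and `t` is a power of `t^|P|`). -/
theorem exists_compl_normalizer_sylow (P : Sylow p G) :
    ∃ K : Subgroup G, K ≤ NP P ∧ ¬ p ∣ Nat.card K ∧ Nat.card K * Nat.card P = Nat.card (NP P) ∧
      ∀ t ∈ CP P, (orderOf t).Coprime p → t ∈ K := by
  classical
  have hp : p.Prime := Fact.out
  set N : Subgroup G := NP P with hN
  have hPN : (P : Subgroup G) ≤ N := Subgroup.le_normalizer
  have hCN : CP P ≤ N := Subgroup.centralizer_le_normalizer _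
  let P' : Subgroup N := (P : Subgroup G).subgroupOf N
  have hnorm : P'.Normal := Subgroup.normal_in_normalizer
  have hcardP' : Nat.card P' = Nat.card P := Nat.card_congr (Subgroup.subgroupOfEquivOfLe hPN).toEquiv
  have hidx : P'.index ∣ (P : Subgroup G).index := Subgroup.relIndex_dvd_index_of_le hPN
  have hcop : (Nat.card P').Coprime P'.index := by
    rw [hcardP']
    exact Nat.Coprime.coprime_dvd_right hidx P.card_coprime_index
  obtain ⟨K', hK'⟩ := Subgroup.exists_right_complement'_of_coprime hcop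
  have hcard : Nat.card P' * Nat.card K' = Nat.card N := hK'.card_mul_card
  have hK'idx : P'.index = Nat.card K' := hK'.symm.index_eq_card
  have hpK' : ¬ p ∣ Nat.card K' := by
    rw [← hK'idx]
    intro h
    exact P.not_dvd_index (h.trans hidx)
  have hinj : Function.Injective N.subtype := Subgroup.subtype_injective N
  have hcardK : Nat.card (K'.map N.subtype) = Nat.card K' := Subgroup.card_map_of_injective hinj
  refine ⟨K'.map N.subtype, ?_, ?_, ?_, ?_⟩
  · intro x hx
    obtain ⟨y, _, rfl⟩ := Subgroup.mem_map.1 hx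
    exact y.2
  · rwa [hcardK]
  · rw [hcardK, mul_comm, ← hcardP']; exact hcard
  · intro t ht htp
    have htN : t ∈ N := hCN ht
    have hex := (Subgroup.isComplement_iff_existsUnique.1 (Subgroup.isComplement'_def.1 hK')) ⟨t, htN⟩
    obtain ⟨⟨x, k⟩, hxk, _⟩ := hex
    have hxP : ((x : N) : G) ∈ (P : Subgroup G) := Subgroup.mem_subgroupOf.1 x.2
    have hxk' : ((x : N) : G) * ((k : N) : G) = t := by
      have := congrArg (fun z : N => (z : G)) hxk
      simpa using this
    have hcomm1 : ((x : N) : G) * t = t * ((x : N) : G) := by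
      rw [Subgroup.mem_centralizer_iff] at ht
      exact ht _ hxP
    have hk_eq : ((k : N) : G) = ((x : N) : G)⁻¹ * t := by
      rw [← hxk', inv_mul_cancel_left]
    have hcomm2 : Commute ((x : N) : G) ((k : N) : G) := by
      unfold Commute SemiconjBy
      rw [hxk', hk_eq, mul_assoc, ← hcomm1, inv_mul_cancel_left]
    have hxq : ((x : N) : G) ^ Nat.card P = 1 := by
      have h1 : (⟨(x : N), hxP⟩ : (P : Subgroup G)) ^ Nat.card (P : Subgroup G) = 1 := pow_card_eq_one'
      have h2 : (((⟨(x : N), hxP⟩ : (P : Subgroup G)) ^ Nat.card (P : Subgroup G) : (P : Subgroup G)) : G) = 1 := by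
        rw [h1]; rfl
      rw [Subgroup.coe_pow] at h2
      exact h2
    have htq : t ^ Nat.card P = ((k : N) : G) ^ Nat.card P := by
      rw [← hxk', hcomm2.mul_pow, hxq, one_mul]
    obtain ⟨n, hn⟩ := IsPGroup.iff_card.1 P.2
    have hcop2 : (Nat.card P).Coprime (orderOf t) := by
      rw [hn]
      exact Nat.Coprime.pow_left n htp.symm
    obtain ⟨m, hm⟩ := exists_pow_eq_self_of_coprime hcop2
    have hkK : ((k : N) : G) ∈ K'.map N.subtype := Subgroup.mem_map.2 ⟨(k : N), k.2, rfl⟩
    rw [← hm, htq]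
    exact Subgroup.pow_mem _ (Subgroup.pow_mem _ hkK _) _

/-- (C8) Schur-Zassenhaus (`Subgroup.exists_right_complement'_of_coprime` in the group `↥(N_G(P))`): a complement `K`.  `K` is a
`p'`-group so abelian, `N/P ≅ K` abelian.  For a `p'`-element `t ∈ C_G(P)` and `y ∈ K`: `c = t y t⁻¹ y⁻¹ ∈ P` commutes with `t` and
`y t⁻¹ y⁻¹ = t⁻¹ c` has order `o(t)`, so `c^(o(t)) = 1`, `c = 1`: `K` centralises `t`, `K⟨t⟩` is a `p'`-subgroup of `N` of order
dividing `|K|`, so `t ∈ K`. -/
theorem compl_of_min (hM : Min p G) (P : Sylow p G) :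
    ∃ K : Subgroup G, K ≤ NP P ∧ ¬ p ∣ Nat.card K ∧ Nat.card K * Nat.card P = Nat.card (NP P) ∧
      ∀ t ∈ CP P, (orderOf t).Coprime p → t ∈ K :=
  have _ := hM
  exists_compl_normalizer_sylow P

end Cfsg.Agent.Helper90.CYC
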