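import Mathlib
import Cfsg.Agent.Lib.Helper52.CoprimeSylow
import Cfsg.Agent.Lib.Helper24.SZInternal
import Cfsg.Agent.Lib.Helper24.Averaging

set_option autoImplicit false

namespace Cfsg.Agent.Helper90

open Subgroup

universe u

variable {G : Type u} [Group G]

/-- Converse of `Helper52.relIndex_eq_of_forall_mul`: equal relative indices give a factorization. -/
theorem forall_mul_of_relIndex_eq [Finite G] (H U M : Subgroup G) (hUM : U ≤ M)
    (h : H.relIndex U = H.relIndex M) : ∀ m ∈ M, ∃ u ∈ U, ∃ k ∈ H, m = u * k := by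
  rw [relIndex, relIndex, index_eq_card, index_eq_card] at h
  have hbij : Function.Bijective (quotientSubgroupOfEmbeddingOfLE H hUM) :=
    (Nat.bijective_iff_injective_and_card _).mpr
      ⟨(quotientSubgroupOfEmbeddingOfLE H hUM).injective, h⟩
  intro m hm
  obtain ⟨q, hq⟩ := hbij.2 (QuotientGroup.mk ⟨m, hm⟩)
  induction q using QuotientGroup.induction_on with
  | H u =>
    rw [quotientSubgroupOfEmbeddingOfLE_apply_mk, QuotientGroup.eq, mem_subgroupOf] at hq
    refine ⟨u.1, u.2, u.1⁻¹ * m, ?_, by group⟩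
    simpa using hq

/-- Coprime action on a `p`-group `R = [R, A]` whose fixed points have index `p`: `|R| = p`. -/
theorem card_eq_prime_of_commutator_eq_self [Finite G] (p : ℕ) [hp : Fact p.Prime]
    (R A : Subgroup G) (hR : IsPGroup p R) (hAR : A ≤ normalizer (R : Set G))
    (hcop : (Nat.card A).Coprime (Nat.card R)) (hRA : ⁅R, A⁆ = R)
    (hidx : (R ⊓ centralizer (A : Set G)).relIndex R = p) : Nat.card R = p := by
  have hER : R ⊓ centralizer (A : Set G) ≤ R := inf_le_left
  have hcard : Nat.card (R ⊓ centralizer (A : Set G) : Subgroup G) * p = Nat.card R := by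
    rw [← hidx]; exact Cfsg.Agent.Helper52.card_mul_relIndex_eq hER
  -- E is normal in R
  obtain ⟨k, hk⟩ := hR.exists_card_eq
  have hk0 : k ≠ 0 := by
    rintro rfl
    rw [pow_zero] at hk
    rw [hk] at hcard
    have : p ∣ 1 := Dvd.intro_left _ hcard
    exact hp.out.one_lt.ne' (Nat.dvd_one.mp this)
  have hnormal : ((R ⊓ centralizer (A : Set G)).subgroupOf R).Normal := by
    apply normal_of_index_eq_minFac_card
    rw [hk, hp.out.pow_minFac hk0]
    exact hidx
  have hRE : R ≤ normalizer ((R ⊓ centralizer (A : Set G) : Subgroup G) : Set G) :=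
    (normal_subgroupOf_iff_le_normalizer hER).mp hnormal
  -- three subgroups
  have hEA : ⁅R ⊓ centralizer (A : Set G), A⁆ = ⊥ :=
    commutator_eq_bot_iff_le_centralizer.mpr inf_le_right
  have h1 : ⁅⁅R, R ⊓ centralizer (A : Set G)⁆, A⁆ = ⊥ := by
    rw [eq_bot_iff, ← hEA]
    refine commutator_mono ?_ le_rfl
    rw [commutator_comm]
    exact Cfsg.Agent.Helper24.commutator_le_of_le_normalizer _ R hRE
  have h2 : ⁅⁅R ⊓ centralizer (A : Set G), A⁆, R⁆ = ⊥ := by
    rw [hEA, commutator_bot_left]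
  have h3 : ⁅⁅A, R⁆, R ⊓ centralizer (A : Set G)⁆ = ⊥ :=
    commutator_commutator_eq_bot_of_rotate h1 h2
  rw [commutator_comm A R, hRA] at h3
  have hEcent : R ⊓ centralizer (A : Set G) ≤ centralizer (R : Set G) :=
    le_centralizer_iff.mp (commutator_eq_bot_iff_le_centralizer.mp h3)
  -- R is abelian
  have hcyc : IsCyclic (R ⧸ (R ⊓ centralizer (A : Set G)).subgroupOf R) := by
    apply isCyclic_of_prime_card (p := p)
    rw [← index_eq_card]
    exact hidx
  have hcomm : ∀ a b : R, a * b = b * a := by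
    have hmc := MonoidHom.isMulCommutative_of_isCyclic_of_ker_le_center
      (QuotientGroup.mk' ((R ⊓ centralizer (A : Set G)).subgroupOf R)) ?_
    · exact fun a b => hmc.is_comm.comm a b
    rw [QuotientGroup.ker_mk']
    intro x hx
    rw [mem_subgroupOf] at hx
    rw [mem_center_iff]
    intro y
    have := (mem_centralizer_iff.mp (hEcent hx)) y y.2
    exact Subtype.ext this
  have hRR : ⁅R, R⁆ = ⊥ := by
    rw [commutator_eq_bot_iff_le_centralizer]
    intro x hx
    rw [mem_centralizer_iff]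
    intro y hy
    have := hcomm ⟨y, hy⟩ ⟨x, hx⟩
    simpa using congrArg Subtype.val this
  -- averaging
  have havg := Cfsg.Agent.Helper24.inf_centralizer_inf_commutator_le R A hAR hcop.symm
  rw [hRA, hRR, inf_of_le_left hER] at havg
  have hE : R ⊓ centralizer (A : Set G) = ⊥ := eq_bot_iff.mpr havg
  rw [hE] at hcard
  simpa using hcard.symm

/-- Coprime action on a `p`-group whose fixed points have index `p`: `|[P, A]| = p`. -/
theorem card_commutator_eq_prime_of_pGroup [Finite G] (p : ℕ) [hp : Fact p.Prime]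
    (P A : Subgroup G) (hP : IsPGroup p P) (hAP : A ≤ normalizer (P : Set G))
    (hcop : (Nat.card A).Coprime (Nat.card P))
    (hidx : (P ⊓ centralizer (A : Set G)).relIndex P = p) :
    Nat.card (⁅P, A⁆ : Subgroup G) = p := by
  have hsolv : Group.IsSolvable P := by
    have : Group.IsNilpotent P := hP.isNilpotent
    infer_instance
  have hRP : ⁅P, A⁆ ≤ P := Cfsg.Agent.Helper24.commutator_le_of_le_normalizer P A hAP
  have hRR : ⁅⁅P, A⁆, A⁆ = ⁅P, A⁆ :=
    Cfsg.Agent.Helper24.commutator_commutator_eq P A hAP hcop hsolv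
  have hAR : A ≤ normalizer ((⁅P, A⁆ : Subgroup G) : Set G) := normalizer_commutator_ge_right _ _
  have hpR : IsPGroup p (⁅P, A⁆ : Subgroup G) :=
    hP.of_injective (Subgroup.inclusion hRP) (Subgroup.inclusion_injective hRP)
  have hcopR : (Nat.card A).Coprime (Nat.card (⁅P, A⁆ : Subgroup G)) :=
    Nat.Coprime.coprime_dvd_right (card_dvd_of_le hRP) hcop
  apply card_eq_prime_of_commutator_eq_self p ⁅P, A⁆ A hpR hAR hcopR hRR
  have h1 : (P ⊓ centralizer (A : Set G)).relIndex ⁅P, A⁆ =
      (P ⊓ centralizer (A : Set G)).relIndex P := by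
    apply Cfsg.Agent.Helper52.relIndex_eq_of_forall_mul _ _ _ hRP
    intro m hm
    obtain ⟨n, hn, c, hc, rfl⟩ :=
      Cfsg.Agent.Helper24.exists_commutator_mul_centralizer P A hAP hcop hsolv m hm
    exact ⟨n, hn, c, hc, rfl⟩
  have h2 : (⁅P, A⁆ ⊓ centralizer (A : Set G)).relIndex ⁅P, A⁆ =
      (P ⊓ centralizer (A : Set G)).relIndex ⁅P, A⁆ := by
    rw [← inf_relIndex_right (H := P ⊓ centralizer (A : Set G)) (K := ⁅P, A⁆)]
    congr 1
    rw [inf_right_comm, inf_of_le_right hRP]
  rw [h2, h1, hidx]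

end Cfsg.Agent.Helper90
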