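import Mathlib
import Cfsg.Prelude.Def_DegreeGraph
import Cfsg.Agent.Lib.Helper52.Coprime

/-!
DG2 server (helper89, S4811), piece (A3): non-central case.  `V = H'` is a normal Sylow `q`-subgroup and every element outside
`V` acts fixed-point-freely on `V`.
-/

set_option autoImplicit false

namespace Cfsg.Agent.Helper90.DG2

open Cfsg
open scoped commutatorElement

universe u

/-- every commutator lies in `commutator H` -/
theorem a3_comm_mem {H : Type u} [Group H] (a b : H) : ⁅a, b⁆ ∈ commutator H := by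
  rw [commutator_def]
  exact Subgroup.commutator_mem_commutator (Subgroup.mem_top a) (Subgroup.mem_top b)

/-- (A3) non-central case: `V = H'` is a normal Sylow `q`-subgroup and every element outside `V` acts
fixed-point-freely on `V`. -/
theorem noncentral_case {H : Type u} [Group H] [Finite H] [Group.IsSolvable H]
    (hq : ∀ L : Subgroup H, L.Normal → L ≠ ⊥ → commutator H ≤ L)
    (hV : commutator H ≠ ⊥) (hab : ∀ a ∈ commutator H, ∀ b ∈ commutator H, a * b = b * a)
    (q n : ℕ) (hqp : q.Prime) (hcard : Nat.card (commutator H) = q ^ n)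
    (hc : ¬ commutator H ≤ Subgroup.center H) :
    (Nat.card (commutator H)).Coprime (commutator H).index ∧
      ∀ g : H, g ∉ commutator H → ∀ x ∈ commutator H, g * x * g⁻¹ = x → x = 1 := by
  classical
  have : Fact q.Prime := ⟨hqp⟩
  have hVn : (commutator H).Normal := inferInstance
  -- Step 0: the centre is trivial
  have hZ : Subgroup.center H = ⊥ := by
    by_contra h
    exact hc (hq _ inferInstance h)
  -- Step 1: subgroups containing `V` are normal
  have hnormal : ∀ L : Subgroup H, commutator H ≤ L → L.Normal := by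
    intro L hVL
    refine ⟨fun x hx g => ?_⟩
    have e : g * x * g⁻¹ = ⁅g, x⁆ * x := by rw [commutatorElement_def]; group
    rw [e]
    exact L.mul_mem (hVL (a3_comm_mem g x)) hx
  -- Step 2: a Sylow `q`-subgroup `Q ⊇ V`, normal
  have hVp : IsPGroup q (commutator H) := IsPGroup.of_card hcard
  obtain ⟨Q, hVQ⟩ := hVp.exists_le_sylow
  have hQn : (Q : Subgroup H).Normal := hnormal _ hVQ
  -- Step 3: a complement `A`
  have hcopQ : (Nat.card (Q : Subgroup H)).Coprime (Q : Subgroup H).index := Q.card_coprime_index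
  obtain ⟨A, hA⟩ := Subgroup.exists_right_complement'_of_coprime hcopQ
  have hAcard : (Q : Subgroup H).index = Nat.card A := hA.symm.index_eq_card
  have hcop : (Nat.card A).Coprime (Nat.card (Q : Subgroup H)) := by
    rw [← hAcard]; exact hcopQ.symm
  have hdec : ∀ h : H, ∃ y ∈ (Q : Subgroup H), ∃ a ∈ A, h = y * a := by
    intro h
    obtain ⟨⟨⟨y, hy⟩, ⟨r, hr⟩⟩, hyr⟩ := hA.2 h
    exact ⟨y, hy, r, hr, hyr.symm⟩
  have hQA : (Q : Subgroup H) ⊓ A = ⊥ := hA.disjoint.eq_bot
  -- Step 4: `A` is abelian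
  have hAab : ∀ a ∈ A, ∀ b ∈ A, a * b = b * a := by
    intro a ha b hb
    have h1 : ⁅a, b⁆ ∈ (Q : Subgroup H) := hVQ (a3_comm_mem a b)
    have h2 : ⁅a, b⁆ ∈ A := by
      rw [commutatorElement_def]
      exact A.mul_mem (A.mul_mem (A.mul_mem ha hb) (A.inv_mem ha)) (A.inv_mem hb)
    have h3 : ⁅a, b⁆ ∈ (Q : Subgroup H) ⊓ A := ⟨h1, h2⟩
    rw [hQA, Subgroup.mem_bot] at h3
    exact commutatorElement_eq_one_iff_mul_comm.1 h3
  -- Step 5: `V ≤ C_H(Q)` (as `Z(Q) ⊴ H` is nontrivial)
  have hVcQ : commutator H ≤ Subgroup.centralizer ((Q : Subgroup H) : Set H) := by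
    have hZQn : ((Q : Subgroup H) ⊓ Subgroup.centralizer ((Q : Subgroup H) : Set H)).Normal :=
      inferInstance
    have hZQb : (Q : Subgroup H) ⊓ Subgroup.centralizer ((Q : Subgroup H) : Set H) ≠ ⊥ := by
      have hQnt : Nontrivial (Q : Subgroup H) := by
        rw [Subgroup.nontrivial_iff_ne_bot]
        intro h
        apply hV
        rw [eq_bot_iff, ← h]
        exact hVQ
      have hcn : Nontrivial (Subgroup.center (Q : Subgroup H)) := IsPGroup.center_nontrivial Q.2
      obtain ⟨z, hz⟩ := exists_ne (1 : Subgroup.center (Q : Subgroup H))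
      intro hbot
      have hzmem : ((z : (Q : Subgroup H)) : H) ∈
          (Q : Subgroup H) ⊓ Subgroup.centralizer ((Q : Subgroup H) : Set H) := by
        refine Subgroup.mem_inf.2 ⟨(z : (Q : Subgroup H)).2, ?_⟩
        rw [Subgroup.mem_centralizer_iff]
        intro y hy
        have h1 := Subgroup.mem_center_iff.1 z.2 ⟨y, hy⟩
        exact congrArg Subtype.val h1
      rw [hbot, Subgroup.mem_bot] at hzmem
      apply hz
      apply Subtype.ext
      apply Subtype.ext
      exact hzmem
    exact (hq _ hZQn hZQb).trans inf_le_right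
  -- Step 6: coprime action `Q = [Q,A] C_Q(A)`, with `[Q,A] ≤ V`
  have hAQ : A ≤ Subgroup.normalizer ((Q : Subgroup H) : Set H) := by
    rw [Subgroup.normalizer_eq_top]; exact le_top
  have hsolv : Group.IsSolvable A ∨ Group.IsSolvable (Q : Subgroup H) := Or.inr inferInstance
  have hcomle : ⁅(Q : Subgroup H), A⁆ ≤ commutator H := by
    rw [commutator_def]; exact Subgroup.commutator_mono le_top le_top
  have hdecQ : ∀ y ∈ (Q : Subgroup H), ∃ n ∈ commutator H,
      ∃ c ∈ (Q : Subgroup H) ⊓ Subgroup.centralizer (A : Set H), y = n * c := by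
    intro y hy
    obtain ⟨n, hn, c, hc', rfl⟩ :=
      Cfsg.Agent.Helper52.exists_commutator_mul_centralizer (Q : Subgroup H) A hAQ hcop hsolv y hy
    exact ⟨n, hcomle hn, c, hc', rfl⟩
  -- Step 7: `D = C_Q(A)` is normal in `H`
  have hDn : ((Q : Subgroup H) ⊓ Subgroup.centralizer (A : Set H)).Normal := by
    refine ⟨fun d hd h => ?_⟩
    obtain ⟨y, hy, a, ha, rfl⟩ := hdec h
    obtain ⟨n, hn, c, hcD, rfl⟩ := hdecQ y hy
    have h1 : a * d * a⁻¹ = d := by
      have h := (Subgroup.mem_centralizer_iff.1 hd.2) a ha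
      rw [h, mul_inv_cancel_right]
    have hcd : c * d * c⁻¹ ∈ (Q : Subgroup H) ⊓ Subgroup.centralizer (A : Set H) :=
      Subgroup.mul_mem _ (Subgroup.mul_mem _ hcD hd) (Subgroup.inv_mem _ hcD)
    have h2 : n * (c * d * c⁻¹) * n⁻¹ = c * d * c⁻¹ := by
      have h := (Subgroup.mem_centralizer_iff.1 (hVcQ hn)) (c * d * c⁻¹) hcd.1
      rw [← h, mul_inv_cancel_right]
    have e : n * c * a * d * (n * c * a)⁻¹ = n * (c * (a * d * a⁻¹) * c⁻¹) * n⁻¹ := by group
    rw [e, h1, h2]
    exact hcd
  -- Step 8: `D = ⊥`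
  have hDbot : (Q : Subgroup H) ⊓ Subgroup.centralizer (A : Set H) = ⊥ := by
    by_contra hne
    have hVD := hq _ hDn hne
    apply hc
    intro v hv
    rw [Subgroup.mem_center_iff]
    intro h
    obtain ⟨y, hy, a, ha, rfl⟩ := hdec h
    have e1 : y * v = v * y := (Subgroup.mem_centralizer_iff.1 (hVcQ hv)) y hy
    have e2 : a * v = v * a := (Subgroup.mem_centralizer_iff.1 (hVD hv).2) a ha
    calc y * a * v = y * (a * v) := by group
      _ = y * (v * a) := by rw [e2]
      _ = (y * v) * a := by group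
      _ = (v * y) * a := by rw [e1]
      _ = v * (y * a) := by group
  -- Step 9: `Q = V`
  have hQV : (Q : Subgroup H) ≤ commutator H := by
    intro y hy
    obtain ⟨n, hn, c, hcD, rfl⟩ := hdecQ y hy
    rw [hDbot, Subgroup.mem_bot] at hcD
    rw [hcD, mul_one]; exact hn
  have hQeq : (Q : Subgroup H) = commutator H := le_antisymm hQV hVQ
  refine ⟨by rw [← hQeq]; exact hcopQ, ?_⟩
  -- Step 10: fixed points
  intro g hg x hx hgx
  obtain ⟨y, hy, a, ha, rfl⟩ := hdec g
  have hyV : y ∈ commutator H := hQV hy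
  have ha1 : a ≠ 1 := by
    rintro rfl
    apply hg; rw [mul_one]; exact hyV
  have haxV : a * x * a⁻¹ ∈ commutator H := hVn.conj_mem x hx a
  have hax : a * x * a⁻¹ = x := by
    have e : y * a * x * (y * a)⁻¹ = y * (a * x * a⁻¹) * y⁻¹ := by group
    rw [e] at hgx
    have e2 : y * (a * x * a⁻¹) = (a * x * a⁻¹) * y := hab y hyV _ haxV
    rw [e2, mul_inv_cancel_right] at hgx
    exact hgx
  by_contra hx1
  have hFn : (commutator H ⊓ Subgroup.centralizer ({a} : Set H)).Normal := by
    refine ⟨fun w hw h => ?_⟩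
    obtain ⟨y', hy', a', ha', rfl⟩ := hdec h
    have hy'V : y' ∈ commutator H := hQV hy'
    have hwV : w ∈ commutator H := hw.1
    have hwa : w * a = a * w := Subgroup.mem_centralizer_singleton_iff.1 hw.2
    have ha'w : a' * w * a'⁻¹ ∈ commutator H := hVn.conj_mem w hwV a'
    have e : y' * a' * w * (y' * a')⁻¹ = y' * (a' * w * a'⁻¹) * y'⁻¹ := by group
    have e2 : y' * (a' * w * a'⁻¹) = (a' * w * a'⁻¹) * y' := hab y' hy'V _ ha'w
    rw [e, e2, mul_inv_cancel_right]
    refine Subgroup.mem_inf.2 ⟨ha'w, ?_⟩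
    rw [Subgroup.mem_centralizer_singleton_iff]
    have haa' : a * a' = a' * a := hAab a ha a' ha'
    have haa'inv : a'⁻¹ * a = a * a'⁻¹ := by
      have : a = a' * a * a'⁻¹ := by rw [← haa', mul_inv_cancel_right]
      calc a'⁻¹ * a = a'⁻¹ * (a' * a * a'⁻¹) := by rw [← this]
        _ = a * a'⁻¹ := by group
    calc a' * w * a'⁻¹ * a = a' * w * (a'⁻¹ * a) := by group
      _ = a' * w * (a * a'⁻¹) := by rw [haa'inv]
      _ = a' * (w * a) * a'⁻¹ := by group
      _ = a' * (a * w) * a'⁻¹ := by rw [hwa]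
      _ = (a' * a) * w * a'⁻¹ := by group
      _ = (a * a') * w * a'⁻¹ := by rw [haa']
      _ = a * (a' * w * a'⁻¹) := by group
  have hFb : commutator H ⊓ Subgroup.centralizer ({a} : Set H) ≠ ⊥ := by
    intro hbot
    have hxF : x ∈ commutator H ⊓ Subgroup.centralizer ({a} : Set H) := by
      refine Subgroup.mem_inf.2 ⟨hx, ?_⟩
      rw [Subgroup.mem_centralizer_singleton_iff]
      exact (mul_inv_eq_iff_eq_mul.1 hax).symm
    rw [hbot, Subgroup.mem_bot] at hxF
    exact hx1 hxF
  have hVF := hq _ hFn hFb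
  apply ha1
  have hacen : a ∈ Subgroup.center H := by
    rw [Subgroup.mem_center_iff]
    intro h
    obtain ⟨y', hy', a', ha', rfl⟩ := hdec h
    have e1 : y' * a = a * y' := Subgroup.mem_centralizer_singleton_iff.1 (hVF (hQV hy')).2
    have e2 : a' * a = a * a' := hAab a' ha' a ha
    calc y' * a' * a = y' * (a' * a) := by group
      _ = y' * (a * a') := by rw [e2]
      _ = (y' * a) * a' := by group
      _ = (a * y') * a' := by rw [e1]
      _ = a * (y' * a') := by group
  rw [hZ, Subgroup.mem_bot] at hacen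
  exact hacen

end Cfsg.Agent.Helper90.DG2
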