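import Mathlib
import Cfsg.Prelude.Def_GeometricClasses
import Cfsg.Agent.Lib.Helper97.ESDefs

/-!
ES lemma server (helper97, S5877), piece (MON): the fixed space of a monomial map has dimension at most the
number of orbits of the underlying permutation.
-/

set_option autoImplicit false

namespace Cfsg.Agent.Helper90.ES

open Cfsg Cfsg.Geo Cfsg.Agent.Helper97.ES
open scoped MatrixGroups

section lin

/-- a point moved by a permutation of prime order `ϖ` has `ϖ` distinct images `σ^i s`, `i < ϖ`. -/
theorem mon_injOn {T : Type*} (σ : Equiv.Perm T) (ϖ : ℕ) (hϖ : ϖ.Prime) (hσ : σ ^ ϖ = 1) (s : T)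
    (hs : σ s ≠ s) : Set.InjOn (fun i : ℕ => (σ ^ i) s) (Set.Iio ϖ) := by
  have hper : Function.IsPeriodicPt (⇑σ) ϖ s := by
    unfold Function.IsPeriodicPt Function.IsFixedPt
    rw [Equiv.Perm.iterate_eq_pow, hσ]; rfl
  have hdvd := hper.minimalPeriod_dvd
  have hmin : Function.minimalPeriod (⇑σ) s = ϖ := by
    rcases (Nat.dvd_prime hϖ).mp hdvd with h1 | h1
    · exfalso
      exact hs (Function.minimalPeriod_eq_one_iff_isFixedPt.mp h1)
    · exact h1
  have := Function.iterate_injOn_Iio_minimalPeriod (f := ⇑σ) (x := s)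
  rw [hmin] at this
  intro i hi j hj hij
  apply this hi hj
  simp only [Equiv.Perm.iterate_eq_pow]
  exact hij

/-- the orbit space of a permutation. -/
abbrev MonQ {T : Type*} (σ : Equiv.Perm T) : Type _ := Quotient (Equiv.Perm.SameCycle.setoid σ)

/-- the orbit count: `ϖ * #orbits + f ≤ ϖ * f + |T|`. -/
theorem mon_count {T : Type*} [Fintype T] [DecidableEq T] (σ : Equiv.Perm T) (ϖ : ℕ)
    (hϖ : ϖ.Prime) (hσ : σ ^ ϖ = 1) [Fintype (MonQ σ)] :
    ϖ * Fintype.card (MonQ σ) +
        (Finset.univ.filter (fun t => σ t = t)).card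
      ≤ ϖ * (Finset.univ.filter (fun t => σ t = t)).card + Fintype.card T := by
  classical
  set fx : Finset T := Finset.univ.filter (fun t => σ t = t) with hfx
  set Qfix : Finset (MonQ σ) := Finset.univ.filter (fun q : MonQ σ => σ q.out = q.out) with hQfix
  set Qmov : Finset (MonQ σ) := Finset.univ.filter (fun q : MonQ σ => ¬ σ q.out = q.out) with hQmov
  have hsplit : Fintype.card (MonQ σ) = Qfix.card + Qmov.card := by
    rw [hQfix, hQmov, Finset.card_filter_add_card_filter_not, Finset.card_univ]
  -- (a)
  have ha : Qfix.card ≤ fx.card := by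
    apply Finset.card_le_card_of_injOn (fun q : MonQ σ => q.out)
    · intro q hq
      simp only [hQfix, Finset.coe_filter, Finset.mem_univ, true_and, Set.mem_ofPred_eq] at hq
      simp only [hfx, Finset.coe_filter, Finset.mem_univ, true_and, Set.mem_ofPred_eq]
      exact hq
    · intro q _ q' _ h
      have := congrArg (fun t : T => (Quotient.mk (Equiv.Perm.SameCycle.setoid σ) t : MonQ σ)) h
      simpa using this
  -- fibers
  have hfib : Fintype.card T =
      ∑ q : MonQ σ, (Finset.univ.filter (fun t : T => (Quotient.mk (Equiv.Perm.SameCycle.setoid σ) t : MonQ σ) = q)).card := by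
    rw [← Finset.card_univ]
    exact Finset.card_eq_sum_card_fiberwise (fun _ _ => Finset.mem_coe.mpr (Finset.mem_univ _))
  have hc : ∀ q : MonQ σ, 1 ≤
      (Finset.univ.filter (fun t : T => (Quotient.mk (Equiv.Perm.SameCycle.setoid σ) t : MonQ σ) = q)).card := by
    intro q
    apply Finset.card_pos.mpr
    exact ⟨q.out, by simp⟩
  have hb : ∀ q ∈ Qmov, ϖ ≤
      (Finset.univ.filter (fun t : T => (Quotient.mk (Equiv.Perm.SameCycle.setoid σ) t : MonQ σ) = q)).card := by
    intro q hq
    simp only [hQmov, Finset.mem_filter, Finset.mem_univ, true_and] at hq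
    have hinj := mon_injOn σ ϖ hϖ hσ q.out hq
    have : (Finset.range ϖ).card ≤
        (Finset.univ.filter (fun t : T => (Quotient.mk (Equiv.Perm.SameCycle.setoid σ) t : MonQ σ) = q)).card := by
      apply Finset.card_le_card_of_injOn (fun i : ℕ => (σ ^ i) q.out)
      · intro i _
        simp only [Finset.coe_filter, Finset.mem_univ, true_and, Set.mem_ofPred_eq]
        have : (Quotient.mk (Equiv.Perm.SameCycle.setoid σ) ((σ ^ i) q.out) : MonQ σ) =
            Quotient.mk (Equiv.Perm.SameCycle.setoid σ) q.out := by
          apply Quotient.sound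
          change Equiv.Perm.SameCycle σ ((σ ^ i) q.out) q.out
          exact ⟨-(i : ℤ), by simp⟩
        rw [this, Quotient.out_eq]
      · intro i hi j hj hij
        exact hinj (by simpa using hi) (by simpa using hj) hij
    simpa using this
  have hsum : Qfix.card + ϖ * Qmov.card ≤ Fintype.card T := by
    rw [hfib, ← Finset.sum_filter_add_sum_filter_not Finset.univ (fun q : MonQ σ => σ q.out = q.out)]
    apply Nat.add_le_add
    · calc Qfix.card = ∑ _q ∈ Qfix, 1 := by simp
        _ ≤ _ := Finset.sum_le_sum (fun q _ => hc q)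
    · calc ϖ * Qmov.card = ∑ _q ∈ Qmov, ϖ := by simp [mul_comm]
        _ ≤ _ := Finset.sum_le_sum (fun q hq => hb q hq)
  rw [hsplit]
  have h1 : 1 ≤ ϖ := hϖ.one_lt.le
  nlinarith [Nat.mul_le_mul_left (ϖ - 1) ha, Nat.sub_add_cancel h1]

/-- **(MON) fixed space of a monomial map (Mathlib only).** -/
theorem mon_bound {F E T : Type*} [Field F] [AddCommGroup E] [Module F E] [Fintype T]
    [DecidableEq T] (b : Module.Basis T F E) (φ : E →ₗ[F] E) (σ : Equiv.Perm T) (μ : T → F)
    (hφ : ∀ t, φ (b t) = μ t • b (σ t)) (ϖ : ℕ) (hϖ : ϖ.Prime) (hσ : σ ^ ϖ = 1) :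
    ϖ * Module.finrank F (LinearMap.ker (φ - LinearMap.id)) +
        (Finset.univ.filter (fun t => σ t = t)).card
      ≤ ϖ * (Finset.univ.filter (fun t => σ t = t)).card + Fintype.card T ∧
    ϖ ∣ Fintype.card T - (Finset.univ.filter (fun t => σ t = t)).card := by
  classical
  constructor
  · let _ : Fintype (MonQ σ) := Fintype.ofFinite _
    -- coordinates of `φ v`
    have key : ∀ (v : E) (t₀ : T), b.repr (φ v) (σ t₀) = μ t₀ * b.repr v t₀ := by
      intro v t₀
      conv_lhs => rw [← b.sum_repr v]
      simp only [map_sum, map_smul, hφ, Module.Basis.repr_self, Finsupp.coe_finsetSum,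
        Finsupp.coe_smul, Finset.sum_apply, Pi.smul_apply, smul_eq_mul, Finsupp.single_apply]
      rw [Finset.sum_eq_single t₀]
      · simp [mul_comm]
      · intro t _ ht
        have : σ t ≠ σ t₀ := fun h => ht (σ.injective h)
        simp [this]
      · intro h; exact absurd (Finset.mem_univ _) h
    -- the evaluation map on orbit representatives
    let ev : LinearMap.ker (φ - LinearMap.id) →ₗ[F] (MonQ σ → F) :=
      (LinearMap.pi fun q : MonQ σ => b.coord q.out).comp (LinearMap.ker (φ - LinearMap.id)).subtype
    have hev : Function.Injective ev := by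
      rw [← LinearMap.ker_eq_bot, LinearMap.ker_eq_bot']
      rintro ⟨v, hv⟩ h0
      have hfix : φ v = v := by
        rw [LinearMap.mem_ker, LinearMap.sub_apply, LinearMap.id_apply, sub_eq_zero] at hv
        exact hv
      have hrec : ∀ t, b.repr v (σ t) = μ t * b.repr v t := by
        intro t
        have := key v t
        rwa [hfix] at this
      have hrep : ∀ q : MonQ σ, b.repr v q.out = 0 := by
        intro q
        have := congrFun h0 q
        simpa [ev] using this
      have hpow : ∀ (k : ℕ) (s : T), b.repr v s = 0 → b.repr v ((σ ^ k) s) = 0 := by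
        intro k
        induction k with
        | zero => intro s hs; simpa using hs
        | succ k ih =>
          intro s hs
          rw [pow_succ', Equiv.Perm.mul_apply, hrec, ih s hs, mul_zero]
      have hall : ∀ t, b.repr v t = 0 := by
        intro t
        have hsc : Equiv.Perm.SameCycle σ
            (Quotient.mk (Equiv.Perm.SameCycle.setoid σ) t : MonQ σ).out t :=
          Quotient.mk_out (s := Equiv.Perm.SameCycle.setoid σ) t
        obtain ⟨i, _, hi⟩ := hsc.exists_pow_eq'
        rw [← hi]
        exact hpow i _ (hrep _)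
      have hv0 : v = 0 := by
        apply b.repr.injective
        ext t
        rw [hall t]; simp
      exact Subtype.ext hv0
    have hdim : Module.finrank F (LinearMap.ker (φ - LinearMap.id)) ≤ Fintype.card (MonQ σ) := by
      have := LinearMap.finrank_le_finrank_of_injective hev
      rwa [Module.finrank_fintype_fun_eq_card] at this
    have hcount := mon_count σ ϖ hϖ hσ
    calc ϖ * Module.finrank F (LinearMap.ker (φ - LinearMap.id)) +
          (Finset.univ.filter (fun t => σ t = t)).card
        ≤ ϖ * Fintype.card (MonQ σ) + (Finset.univ.filter (fun t => σ t = t)).card :=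
          Nat.add_le_add_right (Nat.mul_le_mul_left ϖ hdim) _
      _ ≤ _ := hcount
  · have : Fact ϖ.Prime := ⟨hϖ⟩
    let f : Function.End T := ⇑σ
    have hpow : ∀ n : ℕ, f ^ n = ((σ ^ n : Equiv.Perm T) : T → T) := by
      intro n
      induction n with
      | zero => rfl
      | succ k ih => rw [pow_succ, ih, pow_succ]; rfl
    have h2 : f ^ ϖ ^ 1 = 1 := by
      rw [pow_one, hpow, hσ]; rfl
    have hmod := Equiv.Perm.card_fixedPoints_modEq (p := ϖ) h2
    have hcard : Fintype.card ↑(Function.fixedPoints f) =
        (Finset.univ.filter (fun t => σ t = t)).card := by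
      rw [← Fintype.card_subtype]
      rfl
    rw [hcard] at hmod
    exact (Nat.modEq_iff_dvd' (Finset.card_le_univ _)).mp hmod.symm

end lin

end Cfsg.Agent.Helper90.ES
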