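import Mathlib
import Cfsg.Prelude.Def_GeometricClasses
import Cfsg.Agent.Lib.Helper97.ESDefs

/-!
ES lemma server (helper97, S5877), piece (TRANS): the commutant of `g` in the matrix algebra has the same
dimension as the centralizer of `toLin' g` in `End (F^n)`.
-/

set_option autoImplicit false

namespace Cfsg.Agent.Helper90.ES

open Cfsg Cfsg.Geo Cfsg.Agent.Helper97.ES
open scoped MatrixGroups

/-- **(TRANS) matrices ↔ endomorphisms.** -/
theorem cDim_eq {F : Type*} [Field F] {n : ℕ} (g : GL (Fin n) F) :
    cDim g = Module.finrank F (Subalgebra.centralizer F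
      ({Matrix.toLin' (g : Matrix (Fin n) (Fin n) F)} : Set (Module.End F (Fin n → F)))) := by
  set e : Matrix (Fin n) (Fin n) F ≃ₗ[F] Module.End F (Fin n → F) := Matrix.toLin' with he
  have hginv : (g : Matrix (Fin n) (Fin n) F) * ((g⁻¹ : GL (Fin n) F) : Matrix (Fin n) (Fin n) F) = 1 := by
    simp
  have hmem : ∀ A : Matrix (Fin n) (Fin n) F,
      A ∈ LinearMap.ker (conjLin g - LinearMap.id) ↔
        (g : Matrix (Fin n) (Fin n) F) * A = A * (g : Matrix (Fin n) (Fin n) F) := by
    intro A
    rw [LinearMap.mem_ker, LinearMap.sub_apply, LinearMap.id_apply, sub_eq_zero, conjLin_apply]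
    constructor
    · intro h
      have h2 : (g : Matrix (Fin n) (Fin n) F) * A *
          ((g⁻¹ : GL (Fin n) F) : Matrix (Fin n) (Fin n) F) * (g : Matrix (Fin n) (Fin n) F) =
          A * (g : Matrix (Fin n) (Fin n) F) := by rw [h]
      have h3 : ((g⁻¹ : GL (Fin n) F) : Matrix (Fin n) (Fin n) F) * (g : Matrix (Fin n) (Fin n) F) = 1 := by
        simp
      rwa [Matrix.mul_assoc, h3, Matrix.mul_one] at h2
    · intro h
      rw [h, Matrix.mul_assoc, hginv, Matrix.mul_one]
  have hmap : (LinearMap.ker (conjLin g - LinearMap.id)).map (e : Matrix (Fin n) (Fin n) F →ₗ[F] Module.End F (Fin n → F)) =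
      Subalgebra.toSubmodule (Subalgebra.centralizer F
        ({Matrix.toLin' (g : Matrix (Fin n) (Fin n) F)} : Set (Module.End F (Fin n → F)))) := by
    ext T
    rw [Submodule.mem_map, Subalgebra.mem_toSubmodule, Subalgebra.mem_centralizer_iff]
    constructor
    · rintro ⟨A, hA, rfl⟩
      intro x hx
      rw [Set.mem_singleton_iff] at hx
      subst hx
      have := (hmem A).mp hA
      change Matrix.toLin' (g : Matrix (Fin n) (Fin n) F) * Matrix.toLin' A =
        Matrix.toLin' A * Matrix.toLin' (g : Matrix (Fin n) (Fin n) F)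
      rw [Module.End.mul_eq_comp, Module.End.mul_eq_comp, ← Matrix.toLin'_mul, ← Matrix.toLin'_mul, this]
    · intro hT
      refine ⟨e.symm T, ?_, by simp⟩
      rw [hmem]
      have h1 := hT (Matrix.toLin' (g : Matrix (Fin n) (Fin n) F)) (Set.mem_singleton _)
      apply e.injective
      have e1 : e ((g : Matrix (Fin n) (Fin n) F) * e.symm T) =
          Matrix.toLin' (g : Matrix (Fin n) (Fin n) F) * T := by
        rw [he, Matrix.toLin'_mul, Module.End.mul_eq_comp]
        congr 1
        exact e.apply_symm_apply T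
      have e2 : e (e.symm T * (g : Matrix (Fin n) (Fin n) F)) =
          T * Matrix.toLin' (g : Matrix (Fin n) (Fin n) F) := by
        rw [he, Matrix.toLin'_mul, Module.End.mul_eq_comp]
        congr 1
        exact e.apply_symm_apply T
      rw [e1, e2, h1]
  unfold cDim
  rw [(e.submoduleMap (LinearMap.ker (conjLin g - LinearMap.id))).finrank_eq]
  have : Module.finrank F (Submodule.map (e : Matrix (Fin n) (Fin n) F →ₗ[F] Module.End F (Fin n → F))
      (LinearMap.ker (conjLin g - LinearMap.id))) =
      Module.finrank F (Subalgebra.toSubmodule (Subalgebra.centralizer F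
        ({Matrix.toLin' (g : Matrix (Fin n) (Fin n) F)} : Set (Module.End F (Fin n → F))))) := by
    rw [hmap]
  exact this

end Cfsg.Agent.Helper90.ES
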