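import Mathlib
import Cfsg.Prelude.Def_Transfer
import Cfsg.Agent.S0012
import Cfsg.Agent.Lib.Helper47.Frat

set_option autoImplicit false

namespace Cfsg.Agent.Helper90

open Cfsg Subgroup
open scoped commutatorElement

variable {G : Type*} [Group G]

/-- Membership in the centre of a subgroup `Q`, viewed inside `G`. -/
theorem mem_map_center_iff (Q : Subgroup G) (x : G) :
    x ∈ (Subgroup.center Q).map Q.subtype ↔ x ∈ Q ∧ ∀ y ∈ Q, y * x = x * y := by
  constructor
  · rintro ⟨c, hc, rfl⟩
    refine ⟨c.2, fun y hy => ?_⟩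
    have := Subgroup.mem_center_iff.mp hc ⟨y, hy⟩
    simpa using congrArg Subtype.val this
  · rintro ⟨hx, h⟩
    exact ⟨⟨x, hx⟩, Subgroup.mem_center_iff.mpr (fun y => Subtype.ext (h y y.2)), rfl⟩

/-- A nonabelian subgroup `R` of an extraspecial 2-group `Q` whose centre lies in the centre of
`Q` is itself extraspecial, and contains the centre of `Q`. -/
theorem isExtraspecial_two_of_le [Finite G] (Q R : Subgroup G) (hQ : IsExtraspecial 2 Q)
    (hRQ : R ≤ Q) (hna : ∃ x ∈ R, ∃ y ∈ R, x * y ≠ y * x)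
    (hZR : ∀ x ∈ R, (∀ y ∈ R, y * x = x * y) → x ∈ (Subgroup.center Q).map Q.subtype) :
    IsExtraspecial 2 R ∧ (Subgroup.center Q).map Q.subtype ≤ R := by
  have : Fact (Nat.Prime 2) := ⟨Nat.prime_two⟩
  obtain ⟨⟨hpQ, hfratQ, hcommQ⟩, hcardQ⟩ := hQ
  set Z : Subgroup G := (Subgroup.center Q).map Q.subtype with hZ
  have hZcard : Nat.card Z = 2 := by
    rw [hZ, Subgroup.card_map_of_injective Q.subtype_injective]
    exact hcardQ
  have hQQ : ⁅Q, Q⁆ = Z := by
    rw [← Subgroup.map_subtype_commutator, hcommQ]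
  have hpR : IsPGroup 2 R := hpQ.of_injective (Subgroup.inclusion hRQ) (Subgroup.inclusion_injective hRQ)
  -- the commutator subgroup of R is Z
  have hRRle : ⁅R, R⁆ ≤ Z := hQQ ▸ Subgroup.commutator_mono hRQ hRQ
  have hRRne : ⁅R, R⁆ ≠ ⊥ := by
    obtain ⟨x, hx, y, hy, hxy⟩ := hna
    intro h
    have hc : ⁅x, y⁆ ∈ ⁅R, R⁆ := Subgroup.commutator_mem_commutator hx hy
    rw [h, Subgroup.mem_bot, commutatorElement_eq_one_iff_commute] at hc
    exact hxy hc
  have hRR : ⁅R, R⁆ = Z := by
    apply Subgroup.eq_of_le_of_card_ge hRRle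
    have hdvd : Nat.card (⁅R, R⁆ : Subgroup G) ∣ 2 := hZcard ▸ Subgroup.card_dvd_of_le hRRle
    rcases (Nat.dvd_prime Nat.prime_two).mp hdvd with h1 | h2
    · exact absurd (Subgroup.card_eq_one.mp h1) hRRne
    · rw [h2, hZcard]
  have hZleR : Z ≤ R := by
    rw [← hRR, ← Subgroup.map_subtype_commutator]
    exact Subgroup.map_subtype_le _
  have hcenR : (Subgroup.center R).map R.subtype = Z := by
    apply le_antisymm
    · intro x hx
      rw [mem_map_center_iff] at hx
      exact hZR x hx.1 hx.2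
    · intro z hz
      rw [mem_map_center_iff]
      refine ⟨hZleR hz, fun y hy => ?_⟩
      exact ((mem_map_center_iff Q z).mp hz).2 y (hRQ hy)
  have hcommR : (commutator R).map R.subtype = Z := by
    rw [Subgroup.map_subtype_commutator, hRR]
  have hS12 := Cfsg.Agent.S0012.result 2 hpR
  have hS12Q := Cfsg.Agent.S0012.result 2 hpQ
  have hfratR : (frattini R).map R.subtype = Z := by
    apply le_antisymm
    · let φ : R →* Q ⧸ Subgroup.center Q :=
        (QuotientGroup.mk' (Subgroup.center Q)).comp (Subgroup.inclusion hRQ)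
      have hmkcomm : ∀ a b : Q, (QuotientGroup.mk' (Subgroup.center Q)) a *
          (QuotientGroup.mk' (Subgroup.center Q)) b =
          (QuotientGroup.mk' (Subgroup.center Q)) b * (QuotientGroup.mk' (Subgroup.center Q)) a := by
        intro a b
        rw [← map_mul, ← map_mul, QuotientGroup.mk'_apply, QuotientGroup.mk'_apply, QuotientGroup.eq]
        have : (a * b)⁻¹ * (b * a) = ⁅b⁻¹, a⁻¹⁆ := by
          rw [commutatorElement_def]; group
        rw [this, ← hcommQ]
        exact Subgroup.commutator_mem_commutator (Subgroup.mem_top _) (Subgroup.mem_top _)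
      have hker := Cfsg.Agent.Helper47.frattini_le_ker_of_elementary (p := 2) φ
        (fun x y => hmkcomm _ _)
        (fun x => by
          show (QuotientGroup.mk' (Subgroup.center Q)) (Subgroup.inclusion hRQ x) ^ 2 = 1
          rw [← map_pow, QuotientGroup.mk'_apply, QuotientGroup.eq_one_iff, ← hfratQ]
          exact hS12Q.2 _)
      rintro _ ⟨x, hx, rfl⟩
      have hxk := hker hx
      rw [MonoidHom.mem_ker] at hxk
      have hxc : Subgroup.inclusion hRQ x ∈ Subgroup.center Q := by
        rw [← QuotientGroup.eq_one_iff]; exact hxk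
      exact ⟨Subgroup.inclusion hRQ x, hxc, rfl⟩
    · rw [← hcommR]
      exact Subgroup.map_mono hS12.1
  refine ⟨⟨⟨hpR, ?_, ?_⟩, ?_⟩, hZleR⟩
  · exact Subgroup.map_injective R.subtype_injective (hfratR.trans hcenR.symm)
  · exact Subgroup.map_injective R.subtype_injective (hcommR.trans hcenR.symm)
  · rw [← Subgroup.card_map_of_injective R.subtype_injective, hcenR, hZcard]

end Cfsg.Agent.Helper90
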