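import Mathlib
import Cfsg.Agent.Lib.Helper52.FCDefs
import Cfsg.Agent.Lib.Helper90.FCA5

/-!
# FC server (helper52, S3816), piece (A6): `caseA_I`
-/

set_option autoImplicit false

namespace Cfsg.Agent.Helper90.FC

open Subgroup Cfsg.Agent.Helper52.FC
open scoped commutatorElement

universe u

variable {G : Type u} [Group G]

theorem inv_inv_of_pow {a : G} {X : Subgroup G} {p : ℕ} (hp : 1 ≤ p) (hpow : a ^ p = 1)
    (hX : Inv a X) : ∀ x ∈ X, a⁻¹ * x * a ∈ X := by
  have hainv : a⁻¹ = a ^ (p - 1) := by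
    have h1 : a ^ (p - 1) * a = 1 := by
      rw [← pow_succ, Nat.sub_add_cancel hp, hpow]
    exact (eq_inv_of_mul_eq_one_left h1).symm
  intro x hx
  have := inv_pow_of_inv hX (p - 1) x hx
  rw [← hainv, inv_inv] at this
  exact this

theorem mem_normalizer_of_inv {a : G} {X : Subgroup G} {p : ℕ} (hp : 1 ≤ p) (hpow : a ^ p = 1)
    (hX : Inv a X) : a ∈ normalizer (X : Set G) := by
  rw [mem_normalizer_iff]
  intro x
  constructor
  · exact hX x
  · intro hx
    have := inv_inv_of_pow hp hpow hX _ hx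
    have e : a⁻¹ * (a * x * a⁻¹) * a = x := by group
    rwa [e] at this

theorem le_normalizer_of_normBy {H N : Subgroup G} (hN : NormBy H N) :
    H ≤ normalizer (N : Set G) := by
  intro h hh
  rw [mem_normalizer_iff]
  intro x
  constructor
  · exact hN h hh x
  · intro hx
    have := hN h⁻¹ (H.inv_mem hh) _ hx
    have e : h⁻¹ * (h * x * h⁻¹) * h⁻¹⁻¹ = x := by group
    rwa [e] at this

theorem map_conj_le_of_mem (K : Subgroup G) (g : G) (hg : g ∈ K) :
    K.map (MulAut.conj g).toMonoidHom ≤ K := by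
  rw [map_le_iff_le_comap]
  intro x hx
  exact K.mul_mem (K.mul_mem hg hx) (K.inv_mem hg)

theorem caseA_I [Finite G] {p : ℕ} {a : G} {H : Subgroup G} (mx : MCX p G a H) (hZs : ZZ a H ⊓ star a H = ⊥)
    (hmin : ∀ V : Subgroup G, MinNormal a H V → V ≤ Fix a)
    (hA1 : ∀ V : Subgroup G, V ≤ H → NormBy H V → V ≤ Fix a → V ≤ ZZ a H)
    (hA0 : ∀ W : Subgroup G, W ≤ H → NormBy H W → Inv a W → W ≠ ⊥ → ∃ V : Subgroup G, V ≤ W ∧ MinNormal a H V)
    (N : Subgroup G) (hN : Chief a H N) (hNab : Ab N) (hI : Fix a ⊓ ⁅N, H ⊔ zpowers a⁆ ≤ star a H) : False := by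
  have hyp := mx.mc.hyp
  have hp := mx.mc.hp
  have haN : a ∈ normalizer (N : Set G) := mem_normalizer_of_inv hp.one_le hyp.pow hN.inv
  have hHN : H ≤ normalizer (N : Set G) := le_normalizer_of_normBy hN.norm
  have hHPN : H ⊔ zpowers a ≤ normalizer (N : Set G) := sup_le hHN (zpowers_le.2 haN)
  set W : Subgroup G := ⁅N, H ⊔ zpowers a⁆ with hW
  have hWN : W ≤ N := Cfsg.Agent.Helper24.commutator_le_of_le_normalizer N _ hHPN
  have hWne : W ≠ ⊥ := by
    intro hbot
    apply hN.act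
    have h1 : ⁅N, zpowers a⁆ ≤ W := commutator_mono le_rfl le_sup_right
    rw [hbot] at h1
    exact h1.trans bot_le
  have hstab : ∀ g ∈ H ⊔ zpowers a, (∀ x ∈ N, g * x * g⁻¹ ∈ N) → ∀ w ∈ W, g * w * g⁻¹ ∈ W := by
    intro g hg hgN w hw
    have hle : W.map (MulAut.conj g).toMonoidHom ≤ W := by
      rw [hW, map_commutator]
      apply commutator_mono
      · rw [map_le_iff_le_comap]
        intro x hx
        exact hgN x hx
      · exact map_conj_le_of_mem _ g hg
    exact hle (mem_map_of_mem _ hw)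
  have hW3 : NormBy H W := fun h hh => hstab h (le_sup_left (a := H) hh) (hN.norm h hh)
  have hW4 : Inv a W :=
    hstab a (le_sup_right (a := H) (mem_zpowers a)) hN.inv
  obtain ⟨V, hVW, hV⟩ := hA0 W (hWN.trans hN.le) hW3 hW4 hWne
  have hVfix : V ≤ Fix a := hmin V hV
  have hVZ : V ≤ ZZ a H := hA1 V hV.le hV.norm hVfix
  apply hV.ne
  rw [eq_bot_iff, ← hZs]
  exact le_inf hVZ ((le_inf hVfix hVW).trans hI)

end Cfsg.Agent.Helper90.FC
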