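import Mathlib
import Cfsg.Agent.Lib.Helper9.SubnormalJoin

set_option autoImplicit false

namespace Cfsg.Agent.Helper90

open Subgroup
open scoped Pointwise

variable {G : Type*} [Group G]

/-- membership in a conjugate subgroup -/
theorem mem_conj_smul' {g x : G} {H : Subgroup G} : x ∈ MulAut.conj g • H ↔ g⁻¹ * x * g ∈ H := by
  rw [Subgroup.mem_pointwise_smul_iff_inv_smul_mem, MulAut.smul_def, ← map_inv, MulAut.conj_apply,
    inv_inv]

/-- Relative subnormality `N ⊲⊲ K` for subgroups of a fixed ambient group. -/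
inductive RSN : Subgroup G → Subgroup G → Prop
  | refl (K : Subgroup G) : RSN K K
  | step (N M K : Subgroup G) : N ≤ M → M ≤ Subgroup.normalizer (N : Set G) → RSN M K → RSN N K

theorem RSN.le {N K : Subgroup G} (h : RSN N K) : N ≤ K := by
  induction h with
  | refl => exact le_rfl
  | step N M K hNM _ _ ih => exact hNM.trans ih

theorem RSN.of_normal {N K : Subgroup G} (h1 : N ≤ K) (h2 : K ≤ normalizer (N : Set G)) :
    RSN N K :=
  RSN.step N K K h1 h2 (RSN.refl K)

theorem RSN.trans {N M K : Subgroup G} (h1 : RSN N M) (h2 : RSN M K) : RSN N K := by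
  induction h1 with
  | refl => exact h2
  | step N M' M hNM hn _ ih => exact RSN.step N M' K hNM hn (ih h2)

theorem rsn_top_iff {N : Subgroup G} : RSN N ⊤ ↔ N.IsSubnormal := by
  constructor
  · intro h
    generalize hK : (⊤ : Subgroup G) = K at h
    induction h with
    | refl => rw [← hK]; exact IsSubnormal.top
    | step N M K hNM hn _ ih =>
      exact IsSubnormal.step N M hNM (ih hK) ((normal_subgroupOf_iff_le_normalizer hNM).mpr hn)
  · intro h
    induction h with
    | top => exact RSN.refl _
    | step H K h_le hSubn hN ih =>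
      exact RSN.step H K ⊤ h_le ((normal_subgroupOf_iff_le_normalizer h_le).mp hN) ih

theorem RSN.subgroupOf_isSubnormal {N K : Subgroup G} (h : RSN N K) :
    (N.subgroupOf K).IsSubnormal := by
  induction h with
  | refl K => rw [subgroupOf_self]; exact IsSubnormal.top
  | step N M K hNM hn hMK ih =>
    have hle : N.subgroupOf K ≤ M.subgroupOf K := fun x hx => hNM hx
    refine IsSubnormal.step _ (M.subgroupOf K) hle ih ?_
    rw [normal_subgroupOf_iff_le_normalizer hle]
    intro x hx
    rw [mem_normalizer_iff]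
    intro y
    rw [mem_subgroupOf, mem_subgroupOf]
    exact (mem_normalizer_iff.mp (hn hx)) y

theorem rsn_map_subtype_of_isSubnormal {K : Subgroup G} {N' : Subgroup K} (h : N'.IsSubnormal) :
    RSN (N'.map K.subtype) K := by
  induction h with
  | top => rw [← MonoidHom.range_eq_map, range_subtype]; exact RSN.refl K
  | step H' K' h_le hSubn hN ih =>
    refine RSN.step _ (K'.map K.subtype) K (map_mono h_le) ?_ ih
    rw [normal_subgroupOf_iff_le_normalizer h_le] at hN
    exact le_trans (map_mono hN) (le_normalizer_map _)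

theorem rsn_of_subgroupOf_isSubnormal {N K : Subgroup G} (hNK : N ≤ K)
    (h : (N.subgroupOf K).IsSubnormal) : RSN N K := by
  have := rsn_map_subtype_of_isSubnormal h
  rwa [map_subgroupOf_eq_of_le hNK] at this

theorem RSN.inf_right {M K : Subgroup G} (h : RSN M K) :
    ∀ H : Subgroup G, H ≤ K → RSN (M ⊓ H) H := by
  induction h with
  | refl K => intro H hH; rw [inf_eq_right.mpr hH]; exact RSN.refl H
  | step N M K hNM hn hMK ih =>
    intro H hH
    refine RSN.step (N ⊓ H) (M ⊓ H) H (inf_le_inf_right H hNM) ?_ (ih H hH)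
    intro x hx
    rw [mem_normalizer_iff]
    intro y
    have h1 := mem_normalizer_iff.mp (hn hx.1) y
    simp only [mem_inf]
    constructor
    · rintro ⟨a, b⟩
      exact ⟨h1.mp a, H.mul_mem (H.mul_mem hx.2 b) (H.inv_mem hx.2)⟩
    · rintro ⟨a, b⟩
      refine ⟨h1.mpr a, ?_⟩
      have : y = x⁻¹ * (x * y * x⁻¹) * x := by group
      rw [this]
      exact H.mul_mem (H.mul_mem (H.inv_mem hx.2) b) hx.2

theorem RSN.restrict {S K H : Subgroup G} (h : RSN S K) (hSH : S ≤ H) (hHK : H ≤ K) :
    RSN S H := by
  have := h.inf_right H hHK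
  rwa [inf_eq_left.mpr hSH] at this

theorem RSN.conj {N K : Subgroup G} (h : RSN N K) (g : G) :
    RSN (MulAut.conj g • N) (MulAut.conj g • K) := by
  induction h with
  | refl K => exact RSN.refl _
  | step N M K hNM hn hMK ih =>
    refine RSN.step _ (MulAut.conj g • M) _ (pointwise_smul_le_pointwise_smul_iff.mpr hNM) ?_ ih
    intro x hx
    rw [mem_conj_smul'] at hx
    rw [mem_normalizer_iff]
    intro y
    rw [mem_conj_smul', mem_conj_smul']
    have h1 := mem_normalizer_iff.mp (hn hx) (g⁻¹ * y * g)
    have : g⁻¹ * x * g * (g⁻¹ * y * g) * (g⁻¹ * x * g)⁻¹ = g⁻¹ * (x * y * x⁻¹) * g := by group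
    rw [this] at h1
    exact h1

theorem RSN.sup [Finite G] {S T H : Subgroup G} (hS : RSN S H) (hT : RSN T H) :
    RSN (S ⊔ T) H := by
  have h1 := hS.subgroupOf_isSubnormal
  have h2 := hT.subgroupOf_isSubnormal
  have h3 := Cfsg.Agent.Helper9.isSubnormal_sup _ _ h1 h2
  rw [← subgroupOf_sup hS.le hT.le] at h3
  exact rsn_of_subgroupOf_isSubnormal (sup_le hS.le hT.le) h3

theorem conj_smul_eq_self_iff_mem_normalizer {x : G} {S : Subgroup G} :
    MulAut.conj x • S = S ↔ x ∈ normalizer (S : Set G) := by
  rw [mem_normalizer_iff]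
  constructor
  · intro heq y
    constructor
    · intro hy
      rw [← heq, mem_conj_smul']
      have : x⁻¹ * (x * y * x⁻¹) * x = y := by group
      rw [this]; exact hy
    · intro hy
      rw [← heq, mem_conj_smul'] at hy
      have : x⁻¹ * (x * y * x⁻¹) * x = y := by group
      rw [this] at hy; exact hy
  · intro h
    ext y
    rw [mem_conj_smul']
    have := h (x⁻¹ * y * x)
    have h2 : x * (x⁻¹ * y * x) * x⁻¹ = y := by group
    rw [h2] at this
    exact this

/-- If `S ⊲⊲ K` but `S` is not normal in `K` then some `K`-conjugate of `S` different from `S`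
normalizes `S`. -/
theorem RSN.exists_conj_aux {M K : Subgroup G} (h : RSN M K) :
    ∀ S : Subgroup G, S ≤ M → M ≤ normalizer (S : Set G) → ¬ K ≤ normalizer (S : Set G) →
      ∃ x ∈ K, MulAut.conj x • S ≠ S ∧ MulAut.conj x • S ≤ normalizer (S : Set G) := by
  induction h with
  | refl K => intro S _ h1 h2; exact absurd h1 h2
  | step N M K hNM hn hMK ih =>
    intro S hSN hNS hK
    by_cases hM : M ≤ normalizer (S : Set G)
    · exact ih S (hSN.trans hNM) hM hK
    · obtain ⟨x, hxM, hxS⟩ := SetLike.not_le_iff_exists.mp hM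
      refine ⟨x, hMK.le hxM, ?_, ?_⟩
      · intro heq
        exact hxS (conj_smul_eq_self_iff_mem_normalizer.mp heq)
      · have h1 : MulAut.conj x • S ≤ MulAut.conj x • N :=
          pointwise_smul_le_pointwise_smul_iff.mpr hSN
        rw [conj_smul_eq_self_iff_mem_normalizer.mpr (hn hxM)] at h1
        exact h1.trans hNS

theorem card_conj_smul (x : G) (S : Subgroup G) :
    Nat.card (MulAut.conj x • S : Subgroup G) = Nat.card S := by
  rw [pointwise_smul_def]
  exact card_map_of_injective (MulAut.conj x).injective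

/-- **Wielandt's zipper lemma** (relative form). -/
theorem zipper [Finite G] (X : Subgroup G) : ∀ S : Subgroup G, S ≤ X →
    (∀ H, S ≤ H → H < X → RSN S H) → ¬ RSN S X → ∃ M, M < X ∧ ∀ K, S ≤ K → K < X → K ≤ M := by
  intro S
  induction S using WellFoundedGT.induction with
  | ind S ih =>
    intro hSX hprop hnot
    have hnX : ¬ X ≤ normalizer (S : Set G) := fun h => hnot (RSN.of_normal hSX h)
    have hlt : normalizer (S : Set G) ⊓ X < X := by
      refine lt_of_le_of_ne inf_le_right (fun h => hnX ?_)
      exact inf_eq_right.mp h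
    obtain ⟨M, hNM, hM⟩ := Finite.exists_le_maximal (p := fun M : Subgroup G => M < X) hlt
    refine ⟨M, hM.prop, fun K hSK hKX => ?_⟩
    by_cases hKn : K ≤ normalizer (S : Set G)
    · exact le_trans (le_inf hKn hKX.le) hNM
    · obtain ⟨x, hxK, hxne, hxn⟩ :=
        (hprop K hSK hKX).exists_conj_aux S le_rfl le_normalizer hKn
      have hST : S < S ⊔ MulAut.conj x • S := by
        refine lt_of_le_of_ne le_sup_left (fun h => hxne ?_)
        have hle : MulAut.conj x • S ≤ S := le_sup_right.trans h.ge
        exact eq_of_le_of_card_ge hle (card_conj_smul x S).ge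
      have hxSK : MulAut.conj x • S ≤ K := by
        have h1 : MulAut.conj x • S ≤ MulAut.conj x • K :=
          pointwise_smul_le_pointwise_smul_iff.mpr hSK
        rwa [conj_smul_eq_self_of_mem hxK] at h1
      have hTK : S ⊔ MulAut.conj x • S ≤ K := sup_le hSK hxSK
      have hTN : S ⊔ MulAut.conj x • S ≤ normalizer (S : Set G) := sup_le le_normalizer hxn
      have hTM : S ⊔ MulAut.conj x • S ≤ M := le_trans (le_inf hTN (hTK.trans hKX.le)) hNM
      have hT1 : ∀ H, S ⊔ MulAut.conj x • S ≤ H → H < X → RSN (S ⊔ MulAut.conj x • S) H := by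
        intro H hTH hHX
        have hSH : S ≤ H := le_sup_left.trans hTH
        have hxSH : MulAut.conj x • S ≤ H := le_sup_right.trans hTH
        have hxX : x ∈ X := hKX.le hxK
        have h1 : RSN S H := hprop H hSH hHX
        have h2 : RSN S ((MulAut.conj x)⁻¹ • H) := by
          refine hprop _ (pointwise_smul_subset_iff.mp hxSH) ?_
          have hle : (MulAut.conj x)⁻¹ • H ≤ X := by
            rw [← subset_pointwise_smul_iff, conj_smul_eq_self_of_mem hxX]
            exact hHX.le
          refine lt_of_le_of_ne hle (fun h => hHX.ne ?_)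
          have h3 : MulAut.conj x • ((MulAut.conj x)⁻¹ • H) = MulAut.conj x • X := by rw [h]
          rw [smul_inv_smul, conj_smul_eq_self_of_mem hxX] at h3
          exact h3
        have h3 := h2.conj x
        rw [smul_inv_smul] at h3
        exact h1.sup h3
      have hT2 : ¬ RSN (S ⊔ MulAut.conj x • S) X := by
        intro hTX
        exact hnot ((RSN.of_normal le_sup_left hTN).trans hTX)
      obtain ⟨M', hM'X, hM'⟩ := ih (S ⊔ MulAut.conj x • S) hST (hTK.trans hKX.le) hT1 hT2
      have hMM' : M ≤ M' := hM' M hTM hM.prop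
      have : M' ≤ M := hM.le_of_ge hM'X hMM'
      exact (hM' K hTK hKX).trans this

/-- **Wielandt's subnormality criterion** (relative form). -/
theorem wielandt_aux [Finite G] : ∀ X : Subgroup G, ∀ A : Subgroup G, A ≤ X →
    (∀ g ∈ X, RSN A (A ⊔ MulAut.conj g • A)) → RSN A X := by
  intro X
  induction X using WellFoundedLT.induction with
  | ind X ih =>
    intro A hAX h
    by_contra hnot
    have hprop : ∀ H, A ≤ H → H < X → RSN A H :=
      fun H hAH hHX => ih H hHX A hAH (fun g hg => h g (hHX.le hg))
    obtain ⟨M, hMX, hM⟩ := zipper X A hAX hprop hnot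
    have hconjX : ∀ g ∈ X, MulAut.conj g • A ≤ X := by
      intro g hg
      have h1 : MulAut.conj g • A ≤ MulAut.conj g • X :=
        pointwise_smul_le_pointwise_smul_iff.mpr hAX
      rwa [conj_smul_eq_self_of_mem hg] at h1
    have hconj : ∀ g ∈ X, MulAut.conj g • A ≤ M := by
      intro g hg
      have hle : A ⊔ MulAut.conj g • A ≤ X := sup_le hAX (hconjX g hg)
      rcases eq_or_lt_of_le hle with heq | hlt
      · exact absurd (heq ▸ h g hg) hnot
      · exact le_sup_right.trans (hM _ le_sup_left hlt)
    have hNM : (⨆ g : X, MulAut.conj (g : G) • A) ≤ M := iSup_le (fun g => hconj g g.2)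
    have hAN : A ≤ ⨆ g : X, MulAut.conj (g : G) • A := by
      have := le_iSup (fun g : X => MulAut.conj (g : G) • A) 1
      simpa using this
    have hclosed : ∀ x ∈ X, ∀ y ∈ (⨆ g : X, MulAut.conj (g : G) • A), x * y * x⁻¹ ∈
        (⨆ g : X, MulAut.conj (g : G) • A) := by
      intro x hx y hy
      have hle : (⨆ g : X, MulAut.conj (g : G) • A) ≤
          (MulAut.conj x)⁻¹ • (⨆ g : X, MulAut.conj (g : G) • A) := by
        refine iSup_le (fun g => ?_)
        rw [← pointwise_smul_subset_iff, smul_smul, ← map_mul]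
        exact le_iSup (fun g : X => MulAut.conj (g : G) • A) ⟨x * g, X.mul_mem hx g.2⟩
      have := hle hy
      rw [mem_inv_pointwise_smul_iff, MulAut.smul_def, MulAut.conj_apply] at this
      exact this
    have hXN : X ≤ normalizer ((⨆ g : X, MulAut.conj (g : G) • A : Subgroup G) : Set G) := by
      intro x hx
      rw [mem_normalizer_iff]
      intro y
      refine ⟨hclosed x hx y, fun hy => ?_⟩
      have := hclosed x⁻¹ (X.inv_mem hx) _ hy
      have h2 : x⁻¹ * (x * y * x⁻¹) * x⁻¹⁻¹ = y := by group
      rwa [h2] at this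
    have hNX : (⨆ g : X, MulAut.conj (g : G) • A) < X := lt_of_le_of_lt hNM hMX
    exact hnot ((ih _ hNX A hAN (fun g hg => h g (hNX.le hg))).trans (RSN.of_normal hNX.le hXN))

/-- **Wielandt's subnormality criterion.** -/
theorem wielandt_criterion [Finite G] (A : Subgroup G)
    (h : ∀ g : G, (A.subgroupOf (A ⊔ MulAut.conj g • A)).IsSubnormal) : A.IsSubnormal := by
  rw [← rsn_top_iff]
  exact wielandt_aux ⊤ A le_top (fun g _ => rsn_of_subgroupOf_isSubnormal le_sup_left (h g))

end Cfsg.Agent.Helper90
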