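import Mathlib
import Cfsg.Agent.Lib.Helper90.Zipper

set_option autoImplicit false

/-!
# A generalization of Wielandt's zipper lemma

Let `A < G` with normal closure `G`, and let `Y` be the join of all proper subgroups `H ≥ A`
with `H = ⟨A^H⟩`.  Then `Y = G` or `A` lies in a unique maximal subgroup.
-/

namespace Cfsg.Agent.Helper90

open Subgroup
open scoped Pointwise

variable {G : Type*} [Group G]

/-! ### conjugation lemmas -/

theorem conj_smul_le_of_le_of_mem {H K : Subgroup G} {g : G} (hHK : H ≤ K) (hg : g ∈ K) :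
    MulAut.conj g • H ≤ K := by
  have h1 : MulAut.conj g • H ≤ MulAut.conj g • K := pointwise_smul_le_pointwise_smul_iff.mpr hHK
  rwa [conj_smul_eq_self_of_mem hg] at h1

theorem conj_smul_le_iff' {H K : Subgroup G} {g : G} :
    MulAut.conj g • H ≤ K ↔ H ≤ MulAut.conj g⁻¹ • K := by
  rw [map_inv]; exact pointwise_smul_subset_iff

theorem le_conj_smul_iff' {H K : Subgroup G} {g : G} :
    H ≤ MulAut.conj g • K ↔ MulAut.conj g⁻¹ • H ≤ K := by
  rw [map_inv]; exact subset_pointwise_smul_iff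

theorem conj_smul_ne_top {M : Subgroup G} (hM : M ≠ ⊤) (g : G) : MulAut.conj g • M ≠ ⊤ := by
  intro h
  apply hM
  rw [eq_top_iff] at h ⊢
  intro x _
  have : g * x * g⁻¹ ∈ MulAut.conj g • M := h (mem_top _)
  rw [mem_conj_smul'] at this
  have h2 : g⁻¹ * (g * x * g⁻¹) * g = x := by group
  rwa [h2] at this

theorem isCoatom_conj_smul {M : Subgroup G} (hM : IsCoatom M) (g : G) :
    IsCoatom (MulAut.conj g • M) := by
  refine ⟨conj_smul_ne_top hM.1 g, fun X hX => ?_⟩
  have h1 : M < MulAut.conj g⁻¹ • X := by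
    refine lt_of_le_of_ne (conj_smul_le_iff'.mp hX.le) (fun h => hX.ne ?_)
    rw [h, map_inv, smul_inv_smul]
  have h2 := hM.2 _ h1
  by_contra hne
  exact conj_smul_ne_top hne g⁻¹ h2

theorem conj_smul_eq_of_le [Finite G] {g : G} {S : Subgroup G} (h : MulAut.conj g • S ≤ S) :
    MulAut.conj g • S = S :=
  eq_of_le_of_card_ge h (card_conj_smul g S).ge

theorem eq_of_le_of_card_eq' [Finite G] {S T : Subgroup G} (h : S ≤ T)
    (hc : Nat.card S = Nat.card T) : S = T :=
  eq_of_le_of_card_ge h hc.ge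

theorem normalizer_conj_smul_le (g : G) (A : Subgroup G) :
    normalizer ((MulAut.conj g • A : Subgroup G) : Set G) ≤
      MulAut.conj g • normalizer (A : Set G) := by
  intro x hx
  rw [mem_conj_smul', ← conj_smul_eq_self_iff_mem_normalizer]
  rw [← conj_smul_eq_self_iff_mem_normalizer] at hx
  have : MulAut.conj (g⁻¹ * x * g) • A = MulAut.conj g⁻¹ • (MulAut.conj x • (MulAut.conj g • A)) := by
    rw [smul_smul, smul_smul, ← map_mul, ← map_mul, mul_assoc]
  rw [this, hx, smul_smul, ← map_mul, inv_mul_cancel, map_one, one_smul]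

/-! ### the family `HH T` -/

/-- proper subgroups `H ≥ T` generated by their own conjugates of `T` -/
def HH (T : Subgroup G) : Set (Subgroup G) :=
  {H | T ≤ H ∧ H ≠ ⊤ ∧ Subgroup.normalClosure ((T.subgroupOf H : Subgroup ↥H) : Set ↥H) = ⊤}

theorem normalClosure_subgroupOf_eq_top_iff {T H : Subgroup G} (hTH : T ≤ H) :
    Subgroup.normalClosure ((T.subgroupOf H : Subgroup ↥H) : Set ↥H) = ⊤ ↔
      ∀ N : Subgroup G, T ≤ N → N ≤ H → H ≤ normalizer (N : Set G) → N = H := by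
  constructor
  · intro h N hTN hNH hn
    have hnorm : (N.subgroupOf H).Normal := (normal_subgroupOf_iff_le_normalizer hNH).mpr hn
    have hle : Subgroup.normalClosure ((T.subgroupOf H : Subgroup ↥H) : Set ↥H) ≤ N.subgroupOf H :=
      normalClosure_le_normal (fun x hx => hTN hx)
    rw [h, top_le_iff, subgroupOf_eq_top] at hle
    exact le_antisymm hNH hle
  · intro h
    set N' := Subgroup.normalClosure ((T.subgroupOf H : Subgroup ↥H) : Set ↥H) with hN'
    have h1 : T ≤ N'.map H.subtype := by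
      intro x hx
      exact ⟨⟨x, hTH hx⟩, Subgroup.subset_normalClosure hx, rfl⟩
    have h2 : N'.map H.subtype ≤ H := by
      rintro _ ⟨y, _, rfl⟩; exact y.2
    have h3 : H ≤ normalizer ((N'.map H.subtype : Subgroup G) : Set G) := by
      have hnorm : N'.Normal := Subgroup.normalClosure_normal
      have : (N'.map H.subtype).subgroupOf H = N' := by
        ext y
        rw [mem_subgroupOf]
        constructor
        · rintro ⟨z, hz, hzy⟩
          have : z = y := Subtype.ext hzy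
          rwa [← this]
        · intro hy; exact ⟨y, hy, rfl⟩
      rw [← normal_subgroupOf_iff_le_normalizer h2, this]
      exact hnorm
    have h4 := h _ h1 h2 h3
    rw [eq_top_iff]
    intro y _
    have : (y : G) ∈ N'.map H.subtype := by rw [h4]; exact y.2
    obtain ⟨z, hz, hzy⟩ := this
    have : z = y := Subtype.ext hzy
    rwa [← this]

theorem mem_HH_iff {T H : Subgroup G} :
    H ∈ HH T ↔ T ≤ H ∧ H ≠ ⊤ ∧
      ∀ N : Subgroup G, T ≤ N → N ≤ H → H ≤ normalizer (N : Set G) → N = H := by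
  constructor
  · rintro ⟨h1, h2, h3⟩
    exact ⟨h1, h2, (normalClosure_subgroupOf_eq_top_iff h1).mp h3⟩
  · rintro ⟨h1, h2, h3⟩
    exact ⟨h1, h2, (normalClosure_subgroupOf_eq_top_iff h1).mpr h3⟩

theorem self_mem_HH {T : Subgroup G} (hT : T ≠ ⊤) : T ∈ HH T :=
  mem_HH_iff.mpr ⟨le_rfl, hT, fun _ h1 h2 _ => le_antisymm h2 h1⟩

theorem HH_trans {A S H : Subgroup G} (hS : S ∈ HH A) (hH : H ∈ HH S) : H ∈ HH A := by
  rw [mem_HH_iff] at hS hH ⊢
  obtain ⟨hAS, _, hS3⟩ := hS
  obtain ⟨hSH, hH2, hH3⟩ := hH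
  refine ⟨hAS.trans hSH, hH2, fun N hAN hNH hn => ?_⟩
  have h1 : N ⊓ S = S := by
    refine hS3 (N ⊓ S) (le_inf hAN hAS) inf_le_right ?_
    intro s hs
    rw [mem_normalizer_iff]
    intro y
    have h2 := mem_normalizer_iff.mp (hn (hSH hs)) y
    simp only [mem_inf]
    constructor
    · rintro ⟨a, b⟩
      exact ⟨h2.mp a, S.mul_mem (S.mul_mem hs b) (S.inv_mem hs)⟩
    · rintro ⟨a, b⟩
      refine ⟨h2.mpr a, ?_⟩
      have : y = s⁻¹ * (s * y * s⁻¹) * s := by group
      rw [this]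
      exact S.mul_mem (S.mul_mem (S.inv_mem hs) b) hs
  exact hH3 N (inf_eq_right.mp h1) hNH hn

theorem RSN.exists_normal_of_ne {N K : Subgroup G} (h : RSN N K) (hne : N ≠ K) :
    ∃ N' : Subgroup G, N ≤ N' ∧ N' ≤ K ∧ K ≤ normalizer (N' : Set G) ∧ N' ≠ K := by
  induction h with
  | refl K => exact absurd rfl hne
  | step N M K hNM hn hMK ih =>
    by_cases hMK' : M = K
    · subst hMK'
      exact ⟨N, le_rfl, hNM, hn, hne⟩
    · obtain ⟨N', h1, h2, h3, h4⟩ := ih hMK'
      exact ⟨N', hNM.trans h1, h2, h3, h4⟩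

theorem eq_of_rsn_of_mem_HH {T H : Subgroup G} (hH : H ∈ HH T) (h : RSN T H) : T = H := by
  by_contra hne
  obtain ⟨N', h1, h2, h3, h4⟩ := h.exists_normal_of_ne hne
  exact h4 ((mem_HH_iff.mp hH).2.2 N' h1 h2 h3)

theorem not_rsn_top_of_normalClosure {A : Subgroup G} (hA : A ≠ ⊤)
    (hcl : Subgroup.normalClosure (A : Set G) = ⊤) : ¬ RSN A ⊤ := by
  intro h
  obtain ⟨N', h1, _, h3, h4⟩ := h.exists_normal_of_ne hA
  have hnorm : N'.Normal := normalizer_eq_top_iff.mp (top_le_iff.mp h3)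
  have : Subgroup.normalClosure (A : Set G) ≤ N' := normalClosure_le_normal h1
  rw [hcl, top_le_iff] at this
  exact h4 this

/-- Either `A` is subnormal in `X`, or `X` contains a member of `HH A` strictly larger than `A`. -/
theorem rsn_or_exists_mem_HH [Finite G] (A : Subgroup G) :
    ∀ X : Subgroup G, A ≤ X → X ≠ ⊤ → RSN A X ∨ ∃ S ∈ HH A, A < S ∧ S ≤ X := by
  intro X
  induction X using WellFoundedLT.induction with
  | ind X ih =>
    intro hAX hX
    set N := sInf {N' : Subgroup G | A ≤ N' ∧ N' ≤ X ∧ X ≤ normalizer (N' : Set G)} with hN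
    have hNX : N ≤ X := sInf_le ⟨hAX, le_rfl, le_normalizer⟩
    have hAN : A ≤ N := le_sInf (fun N' h => h.1)
    have hn : X ≤ normalizer (N : Set G) := by
      intro x hx
      rw [mem_normalizer_iff]
      intro y
      simp only [hN, mem_sInf, Set.mem_ofPred_eq]
      constructor
      · intro h N' hN'
        exact (mem_normalizer_iff.mp (hN'.2.2 hx) y).mp (h N' hN')
      · intro h N' hN'
        exact (mem_normalizer_iff.mp (hN'.2.2 hx) y).mpr (h N' hN')
    by_cases hNeq : N = X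
    · by_cases hAeq : A = X
      · left; rw [hAeq]; exact RSN.refl X
      · right
        refine ⟨X, mem_HH_iff.mpr ⟨hAX, hX, fun N'' h1 h2 h3 => ?_⟩, lt_of_le_of_ne hAX hAeq, le_rfl⟩
        refine le_antisymm h2 ?_
        rw [← hNeq]
        exact sInf_le ⟨h1, h2, h3⟩
    · have hlt : N < X := lt_of_le_of_ne hNX hNeq
      have hNtop : N ≠ ⊤ := fun h => hX (top_le_iff.mp (h ▸ hNX))
      rcases ih N hlt hAN hNtop with h | ⟨S, hS, hAS, hSN⟩
      · left; exact h.trans (RSN.of_normal hNX hn)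
      · right; exact ⟨S, hS, hAS, hSN.trans hNX⟩

theorem rsn_iSup [Finite G] {ι : Type*} [Finite ι] {A : ι → Subgroup G} {H : Subgroup G}
    (h : ∀ i, RSN (A i) H) : RSN (⨆ i, A i) H := by
  classical
  have := Fintype.ofFinite ι
  have : (⨆ i, A i) = Finset.univ.sup A := by rw [Finset.sup_eq_iSup]; simp
  rw [this]
  refine Finset.sup_induction (p := fun S => RSN S H) ?_
    (fun a ha b hb => RSN.sup ha hb) (fun i _ => h i)
  refine RSN.of_normal bot_le ?_
  have : normalizer (((⊥ : Subgroup G)) : Set G) = ⊤ := normalizer_eq_top_iff.mpr inferInstance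
  rw [this]; exact le_top

/-! ### the bad configuration -/

/-- The induction hypothesis: all strictly larger subgroups satisfy the theorem. -/
def IH (G : Type*) [Group G] (n : ℕ) : Prop :=
  ∀ T : Subgroup G, n < Nat.card T → T ≠ ⊤ → Subgroup.normalClosure (T : Set G) = ⊤ →
    sSup (HH T) ≠ ⊤ → ∃! M : Subgroup G, IsCoatom M ∧ T ≤ M

/-- a pair (subgroup, special maximal subgroup) -/
structure BH (n : ℕ) (A M : Subgroup G) : Prop where
  coatom : IsCoatom M
  le : A ≤ M
  norm : normalizer (A : Set G) ≤ M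
  sn : ∀ X : Subgroup G, X ≠ ⊤ → A ≤ X → ¬ X ≤ M → RSN A X
  ncl : Subgroup.normalClosure (A : Set G) = ⊤
  card : Nat.card A = n

theorem BH.conj {n : ℕ} {A M : Subgroup G} (h : BH n A M) (g : G) :
    BH n (MulAut.conj g • A) (MulAut.conj g • M) where
  coatom := isCoatom_conj_smul h.coatom g
  le := pointwise_smul_le_pointwise_smul_iff.mpr h.le
  norm := (normalizer_conj_smul_le g A).trans (pointwise_smul_le_pointwise_smul_iff.mpr h.norm)
  sn := by
    intro X hX hAX hXM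
    have h1 : RSN A (MulAut.conj g⁻¹ • X) := by
      refine h.sn _ (conj_smul_ne_top hX _) (conj_smul_le_iff'.mp hAX) (fun hle => hXM ?_)
      exact le_conj_smul_iff'.mpr hle
    have h2 := h1.conj g
    rwa [map_inv, smul_inv_smul] at h2
  ncl := by
    rw [eq_top_iff, ← h.ncl]
    refine normalClosure_le_normal (fun a ha => ?_)
    have h1 : g * a * g⁻¹ ∈ Subgroup.normalClosure ((MulAut.conj g • A : Subgroup G) : Set G) := by
      apply Subgroup.subset_normalClosure
      rw [SetLike.mem_coe, mem_conj_smul']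
      have : g⁻¹ * (g * a * g⁻¹) * g = a := by group
      rw [this]; exact ha
    have h2 := (Subgroup.normalClosure_normal (s := ((MulAut.conj g • A : Subgroup G) : Set G))).conj_mem
      _ h1 g⁻¹
    have h3 : g⁻¹ * (g * a * g⁻¹) * g⁻¹⁻¹ = a := by group
    rwa [h3] at h2
  card := by rw [card_conj_smul]; exact h.card

/-- **Key lemma**: a subgroup generated by `A₀` and further members of `BH`-pairs, lying in `M₀`
but in none of the other special maximal subgroups, lies in the unique maximal subgroup `M₀`. -/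
theorem BH.only_in [Finite G] {n : ℕ} (hIH : IH G n) {A₀ M₀ : Subgroup G} (h₀ : BH n A₀ M₀)
    {ι : Type*} [Finite ι] (A M : ι → Subgroup G) (h : ∀ i, BH n (A i) (M i))
    (hT : A₀ ⊔ ⨆ i, A i ≤ M₀) (hne : ¬ (A₀ ⊔ ⨆ i, A i ≤ A₀))
    (hM : ∀ i, A₀ ⊔ ⨆ i, A i ≤ M i → M i = M₀) :
    ∀ X : Subgroup G, X ≠ ⊤ → A₀ ⊔ ⨆ i, A i ≤ X → X ≤ M₀ := by
  set T := A₀ ⊔ ⨆ i, A i with hTdef
  have hY : sSup (HH T) ≤ M₀ := by
    refine sSup_le (fun H hH => ?_)
    have hTH : T ≤ H := hH.1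
    have hHtop : H ≠ ⊤ := hH.2.1
    by_contra hHM₀
    have hi : ∀ i, ¬ H ≤ M i := by
      intro i hHi
      have := hM i (hTH.trans hHi)
      rw [this] at hHi
      exact hHM₀ hHi
    have r0 : RSN A₀ H := h₀.sn H hHtop (le_sup_left.trans hTH) hHM₀
    have ri : ∀ i, RSN (A i) H := fun i =>
      (h i).sn H hHtop ((le_iSup A i).trans (le_sup_right.trans hTH)) (hi i)
    have rT : RSN T H := r0.sup (rsn_iSup ri)
    have := eq_of_rsn_of_mem_HH hH rT
    exact hHM₀ (this ▸ hT)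
  have hcard : n < Nat.card T := by
    by_contra hle
    push Not at hle
    have : A₀ = T := eq_of_le_of_card_ge le_sup_left (by rw [h₀.card]; exact hle)
    exact hne this.ge
  have hTtop : T ≠ ⊤ := fun h' => h₀.coatom.1 (top_le_iff.mp (h' ▸ hT))
  have hTncl : Subgroup.normalClosure (T : Set G) = ⊤ := by
    rw [eq_top_iff, ← h₀.ncl]
    exact Subgroup.normalClosure_mono (le_sup_left (a := A₀))
  have hYtop : sSup (HH T) ≠ ⊤ := fun h' => h₀.coatom.1 (top_le_iff.mp (h' ▸ hY))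
  obtain ⟨M', _, hM'⟩ := hIH T hcard hTtop hTncl hYtop
  intro X hX hTX
  obtain ⟨M'', hM''c, hXM''⟩ := (eq_top_or_exists_le_coatom X).resolve_left hX
  have e1 : M'' = M' := hM' M'' ⟨hM''c, hTX.trans hXM''⟩
  have e2 : M₀ = M' := hM' M₀ ⟨h₀.coatom, hT⟩
  rw [e2, ← e1]; exact hXM''

theorem BH.only_in₁ [Finite G] {n : ℕ} (hIH : IH G n) {A₀ M₀ A₁ M₁ : Subgroup G}
    (h₀ : BH n A₀ M₀) (h₁ : BH n A₁ M₁) (hT : A₀ ⊔ A₁ ≤ M₀) (hne : ¬ A₁ ≤ A₀)
    (hM : A₀ ⊔ A₁ ≤ M₁ → M₁ = M₀) :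
    ∀ X : Subgroup G, X ≠ ⊤ → A₀ ⊔ A₁ ≤ X → X ≤ M₀ := by
  have key := BH.only_in hIH h₀ (ι := Unit) (fun _ => A₁) (fun _ => M₁) (fun _ => h₁)
  simp only [iSup_const] at key
  exact key hT (fun h => hne (le_sup_right.trans h)) (fun _ => hM)

theorem BH.only_in₂ [Finite G] {n : ℕ} (hIH : IH G n) {A₀ M₀ A₁ M₁ A₂ M₂ : Subgroup G}
    (h₀ : BH n A₀ M₀) (h₁ : BH n A₁ M₁) (h₂ : BH n A₂ M₂) (hT : A₀ ⊔ (A₁ ⊔ A₂) ≤ M₀)
    (hne : ¬ A₂ ≤ A₀)
    (hM₁ : A₀ ⊔ (A₁ ⊔ A₂) ≤ M₁ → M₁ = M₀) (hM₂ : A₀ ⊔ (A₁ ⊔ A₂) ≤ M₂ → M₂ = M₀) :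
    ∀ X : Subgroup G, X ≠ ⊤ → A₀ ⊔ (A₁ ⊔ A₂) ≤ X → X ≤ M₀ := by
  have key := BH.only_in hIH h₀ (ι := Bool) (fun b => cond b A₁ A₂) (fun b => cond b M₁ M₂)
    (fun b => by cases b <;> assumption)
  simp only [iSup_bool_eq, cond_true, cond_false] at key
  refine key hT (fun h => hne (le_sup_right.trans (le_sup_right.trans h))) (fun b => ?_)
  cases b
  · exact hM₂
  · exact hM₁

/-- two different members with the same special maximal subgroup -/
theorem BH.only_in_same [Finite G] {n : ℕ} (hIH : IH G n) {A₁ A₂ M₀ : Subgroup G}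
    (h₁ : BH n A₁ M₀) (h₂ : BH n A₂ M₀) (hne : A₁ ≠ A₂) :
    ∀ X : Subgroup G, X ≠ ⊤ → A₁ ⊔ A₂ ≤ X → X ≤ M₀ := by
  refine BH.only_in₁ hIH h₁ h₂ (sup_le h₁.le h₂.le) (fun h => hne ?_) (fun _ => rfl)
  exact (eq_of_le_of_card_ge h (by rw [h₁.card, h₂.card])).symm

/-- symmetry of the relation "lies in the special maximal subgroup of" in the presence of
a second common overgroup -/
theorem BH.le_of_sup_le [Finite G] {n : ℕ} (hIH : IH G n) {A₁ M₁ A₂ M₂ X : Subgroup G}
    (h₁ : BH n A₁ M₁) (h₂ : BH n A₂ M₂) (h21 : A₂ ≤ M₁) (hX : X ≠ ⊤) (hle : A₁ ⊔ A₂ ≤ X)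
    (hXM : ¬ X ≤ M₁) : A₁ ≤ M₂ := by
  by_contra hcon
  refine hXM (BH.only_in₁ hIH h₁ h₂ (sup_le h₁.le h21) (fun h => hcon ?_)
    (fun h => absurd (le_sup_left.trans h) hcon) X hX hle)
  have : A₂ = A₁ := eq_of_le_of_card_ge h (by rw [h₁.card, h₂.card])
  rw [← this]; exact h₂.le

theorem not_le_of_isCoatom_of_ne {M M' : Subgroup G} (hM : IsCoatom M) (hM' : IsCoatom M')
    (hne : M ≠ M') : ¬ M' ≤ M := by
  intro h
  rcases hM'.le_iff.mp h with h1 | h1
  · exact hM.1 h1
  · exact hne h1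

/-- The configuration: two adjacent pairs. -/
structure Cfg (n : ℕ) (A M B M' : Subgroup G) : Prop where
  hA : BH n A M
  hB : BH n B M'
  hAM' : A ≤ M'
  hBM : B ≤ M
  hne : M ≠ M'
  hAB : A ≠ B

theorem Cfg.symm {n : ℕ} {A M B M' : Subgroup G} (c : Cfg n A M B M') : Cfg n B M' A M :=
  ⟨c.hB, c.hA, c.hBM, c.hAM', c.hne.symm, c.hAB.symm⟩

theorem Cfg.not_le {n : ℕ} {A M B M' : Subgroup G} (c : Cfg n A M B M') : ¬ M' ≤ M :=
  not_le_of_isCoatom_of_ne c.hA.coatom c.hB.coatom c.hne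

/-- the common neighbours -/
def Zset (n : ℕ) (A M B M' : Subgroup G) : Set (Subgroup G) :=
  {C | ∃ L : Subgroup G, BH n C L ∧ C ≤ M ∧ C ≤ M' ∧ A ≤ L ∧ B ≤ L}

theorem Zset_symm (n : ℕ) (A M B M' : Subgroup G) : Zset n B M' A M = Zset n A M B M' := by
  ext C
  constructor
  · rintro ⟨L, h1, h2, h3, h4, h5⟩; exact ⟨L, h1, h3, h2, h5, h4⟩
  · rintro ⟨L, h1, h2, h3, h4, h5⟩; exact ⟨L, h1, h3, h2, h5, h4⟩

theorem Cfg.conj_eq_self [Finite G] {n : ℕ} (hIH : IH G n) {A M B M' : Subgroup G}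
    (c : Cfg n A M B M') {m : G} (hm : m ∈ M) (hmB : MulAut.conj m • B ≤ M') :
    MulAut.conj m • A = A := by
  have hB3 : BH n (MulAut.conj m • B) (MulAut.conj m • M') := c.hB.conj m
  have hmBM : MulAut.conj m • B ≤ M := conj_smul_le_of_le_of_mem c.hBM hm
  have s1 : A ≤ MulAut.conj m • M' :=
    BH.le_of_sup_le hIH c.hA hB3 hmBM c.hB.coatom.1 (sup_le c.hAM' hmB) c.not_le
  have h4 : BH n (MulAut.conj m⁻¹ • A) M := by
    have := c.hA.conj m⁻¹
    rwa [conj_smul_eq_self_of_mem (M.inv_mem hm)] at this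
  have h5 : MulAut.conj m⁻¹ • A ≤ M' := le_conj_smul_iff'.mp s1
  have h6 : MulAut.conj m⁻¹ • A = A := by
    by_contra hne
    exact c.not_le (BH.only_in_same hIH c.hA h4 (Ne.symm hne) M' c.hB.coatom.1 (sup_le c.hAM' h5))
  have h7 : MulAut.conj m • (MulAut.conj m⁻¹ • A) = MulAut.conj m • A := by rw [h6]
  rw [map_inv, smul_inv_smul] at h7
  exact h7.symm

theorem Cfg.le_conj [Finite G] {n : ℕ} (hIH : IH G n) {A M B M' : Subgroup G}
    (c : Cfg n A M B M') {m : G} (hm : m ∈ M) (hmB : MulAut.conj m • B ≤ M') :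
    B ≤ MulAut.conj m • M' := by
  have hB3 : BH n (MulAut.conj m • B) (MulAut.conj m • M') := c.hB.conj m
  have hmBM : MulAut.conj m • B ≤ M := conj_smul_le_of_le_of_mem c.hBM hm
  exact BH.le_of_sup_le hIH c.hB hB3 hmB c.hA.coatom.1 (sup_le c.hBM hmBM) c.symm.not_le

theorem Cfg.conj_mem_Zset [Finite G] {n : ℕ} (hIH : IH G n) {A M B M' : Subgroup G}
    (c : Cfg n A M B M') {m : G} (hm : m ∈ M) (hmB : MulAut.conj m • B ≤ M')
    {C : Subgroup G} (hC : C ∈ Zset n A M B M') : MulAut.conj m • C ∈ Zset n A M B M' := by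
  obtain ⟨L, hCL, hCM, hCM', hAL, hBL⟩ := hC
  have hmA : MulAut.conj m • A = A := c.conj_eq_self hIH hm hmB
  have hm'A : MulAut.conj m⁻¹ • A = A := by
    have : MulAut.conj m⁻¹ • (MulAut.conj m • A) = MulAut.conj m⁻¹ • A := by rw [hmA]
    rw [map_inv, inv_smul_smul] at this
    rw [map_inv]; exact this.symm
  have hm' : m⁻¹ ∈ M := M.inv_mem hm
  -- the pair `B₁ = m⁻¹ B m`
  have hB₁ : BH n (MulAut.conj m⁻¹ • B) (MulAut.conj m⁻¹ • M') := c.hB.conj m⁻¹
  have hB₁M : MulAut.conj m⁻¹ • B ≤ M := conj_smul_le_of_le_of_mem c.hBM hm'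
  have hB₁M' : MulAut.conj m⁻¹ • B ≤ M' := by
    rw [conj_smul_le_iff', inv_inv]
    exact c.le_conj hIH hm hmB
  have hMne : ¬ M ≤ MulAut.conj m⁻¹ • M' := by
    intro h
    have h1 : MulAut.conj m • M ≤ M' := by rw [conj_smul_le_iff']; exact h
    rw [conj_smul_eq_self_of_mem hm] at h1
    exact c.symm.not_le h1
  -- the two key facts
  have key : C ≤ MulAut.conj m⁻¹ • M' ∧ MulAut.conj m⁻¹ • B ≤ L := by
    by_cases hLM : L = M
    · subst hLM
      have hCA : A = C := by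
        by_contra hne
        exact c.not_le (BH.only_in_same hIH c.hA hCL hne M' c.hB.coatom.1 (sup_le c.hAM' hCM'))
      refine ⟨?_, hB₁M⟩
      rw [← hCA, le_conj_smul_iff', inv_inv, hmA]
      exact c.hAM'
    · have hML : ¬ M ≤ L := by
        intro h
        rcases c.hA.coatom.le_iff.mp h with h1 | h1
        · exact hCL.coatom.1 h1
        · exact hLM h1
      by_cases h1 : A ⊔ (C ⊔ MulAut.conj m⁻¹ • B) ≤ L
      · have hB₁L : MulAut.conj m⁻¹ • B ≤ L := le_sup_right.trans (le_sup_right.trans h1)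
        refine ⟨?_, hB₁L⟩
        exact BH.le_of_sup_le hIH hCL hB₁ hB₁L c.hA.coatom.1 (sup_le hCM hB₁M) hML
      · by_cases h2 : A ⊔ (C ⊔ MulAut.conj m⁻¹ • B) ≤ MulAut.conj m⁻¹ • M'
        · have hCM₁ : C ≤ MulAut.conj m⁻¹ • M' := le_sup_left.trans (le_sup_right.trans h2)
          refine ⟨hCM₁, ?_⟩
          exact BH.le_of_sup_le hIH hB₁ hCL hCM₁ c.hA.coatom.1 (sup_le hB₁M hCM) hMne
        · exfalso
          refine c.not_le (BH.only_in₂ hIH c.hA hCL hB₁ (sup_le c.hA.le (sup_le hCM hB₁M)) ?_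
            (fun h => absurd h h1) (fun h => absurd h h2) M' c.hB.coatom.1
            (sup_le c.hAM' (sup_le hCM' hB₁M')))
          intro hle
          have h3 : MulAut.conj m⁻¹ • B = A :=
            eq_of_le_of_card_ge hle (by rw [c.hA.card, hB₁.card])
          have h4 : MulAut.conj m • (MulAut.conj m⁻¹ • B) = MulAut.conj m • A := by rw [h3]
          rw [map_inv, smul_inv_smul, hmA] at h4
          exact c.hAB h4.symm
  refine ⟨MulAut.conj m • L, hCL.conj m, conj_smul_le_of_le_of_mem hCM hm, ?_, ?_, ?_⟩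
  · rw [conj_smul_le_iff']; exact key.1
  · rw [le_conj_smul_iff', hm'A]; exact hAL
  · rw [le_conj_smul_iff']; exact key.2

theorem Cfg.mem_normalizer [Finite G] {n : ℕ} (hIH : IH G n) {A M B M' : Subgroup G}
    (c : Cfg n A M B M') {m : G} (hm : m ∈ M) (hmB : MulAut.conj m • B ≤ M') :
    m ∈ normalizer ((sSup (Zset n A M B M') : Subgroup G) : Set G) := by
  rw [← conj_smul_eq_self_iff_mem_normalizer]
  apply conj_smul_eq_of_le
  rw [conj_smul_le_iff']
  refine sSup_le (fun C hC => ?_)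
  rw [← conj_smul_le_iff']
  exact le_sSup (c.conj_mem_Zset hIH hm hmB hC)

theorem Cfg.exists_outside [Finite G] {n : ℕ} (hIH : IH G n) {A M B M' : Subgroup G}
    (c : Cfg n A M B M') : ∃ y ∈ M', y ∉ M ∧ MulAut.conj y • A ≤ M := by
  have hr : RSN A M' := c.hA.sn M' c.hB.coatom.1 c.hAM' c.not_le
  have hnot : ¬ M' ≤ normalizer (A : Set G) := fun h => c.not_le (h.trans c.hA.norm)
  obtain ⟨y, hyM', hyne, hyn⟩ := hr.exists_conj_aux A le_rfl le_normalizer hnot
  refine ⟨y, hyM', fun hyM => ?_, hyn.trans c.hA.norm⟩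
  have h1 : BH n (MulAut.conj y • A) M := by
    have := c.hA.conj y
    rwa [conj_smul_eq_self_of_mem hyM] at this
  have h2 : MulAut.conj y • A ≤ M' := conj_smul_le_of_le_of_mem c.hAM' hyM'
  exact c.not_le (BH.only_in_same hIH c.hA h1 (Ne.symm hyne) M' c.hB.coatom.1 (sup_le c.hAM' h2))

theorem RSN.exists_step {N K : Subgroup G} (h : RSN N K) (R : Set G) (hN : (N : Set G) ⊆ R)
    (hK : ¬ (K : Set G) ⊆ R) :
    ∃ C V : Subgroup G, N ≤ C ∧ C ≤ V ∧ V ≤ normalizer (C : Set G) ∧ V ≤ K ∧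
      (C : Set G) ⊆ R ∧ ¬ (V : Set G) ⊆ R := by
  induction h with
  | refl K => exact absurd hN hK
  | step N M K hNM hn hMK ih =>
    by_cases hMR : (M : Set G) ⊆ R
    · obtain ⟨C, V, h1, h2, h3, h4, h5, h6⟩ := ih hMR hK
      exact ⟨C, V, hNM.trans h1, h2, h3, h4, h5, h6⟩
    · exact ⟨N, M, le_rfl, hNM, hn, hMK.le, hN, hMR⟩

/-- The configuration is contradictory. -/
theorem Cfg.false [Finite G] {n : ℕ} (hIH : IH G n) {A M B M' : Subgroup G}
    (c : Cfg n A M B M') (hsn : ¬ RSN A M) : False := by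
  set Z := sSup (Zset n A M B M') with hZ
  have hAZ : A ≤ Z := le_sSup ⟨M, c.hA, c.hA.le, c.hAM', c.hA.le, c.hBM⟩
  have hZM : Z ≤ M := sSup_le (fun C hC => by obtain ⟨L, _, h, _⟩ := hC; exact h)
  have hXtop : normalizer (Z : Set G) ≠ ⊤ := by
    intro h
    have hnorm : Z.Normal := normalizer_eq_top_iff.mp h
    have h1 : Subgroup.normalClosure (A : Set G) ≤ Z := normalClosure_le_normal hAZ
    rw [c.hA.ncl, top_le_iff] at h1
    exact c.hA.coatom.1 (top_le_iff.mp (h1 ▸ hZM))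
  -- an element of the normalizer outside `M`
  obtain ⟨y, hyM', hyM, hyA⟩ := c.exists_outside hIH
  have hyX : y ∈ normalizer (Z : Set G) := by
    have := c.symm.mem_normalizer hIH hyM' hyA
    rwa [Zset_symm] at this
  -- the set `R'`
  have hR : ∀ m : G, m ∈ M → MulAut.conj m • B ≤ M' → m ∈ normalizer (Z : Set G) :=
    fun m hm hmB => c.mem_normalizer hIH hm hmB
  have hBR : ((B : Subgroup G) : Set G) ⊆ {m : G | m ∈ M ∧ MulAut.conj m • B ≤ M'} := by
    intro b hb
    refine ⟨c.hBM hb, ?_⟩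
    rw [conj_smul_eq_self_of_mem hb]
    exact c.hB.le
  have hMR : ¬ ((M : Subgroup G) : Set G) ⊆ {m : G | m ∈ M ∧ MulAut.conj m • B ≤ M'} := by
    intro h
    apply hsn
    refine RSN.of_normal c.hA.le (fun m hm => ?_)
    rw [← conj_smul_eq_self_iff_mem_normalizer]
    exact c.conj_eq_self hIH hm (h hm).2
  have hrB : RSN B M := c.hB.sn M c.hA.coatom.1 c.hBM c.symm.not_le
  obtain ⟨C₁, V, hBC, hCV, hVn, hVM, hCR, hVR⟩ := hrB.exists_step _ hBR hMR
  -- the subgroup `T`
  have hfam : ∀ v : V, BH n (MulAut.conj (v : G) • B) (MulAut.conj (v : G) • M') :=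
    fun v => c.hB.conj v
  have hvB : ∀ v : V, MulAut.conj (v : G) • B ≤ C₁ := by
    intro v
    have h1 : MulAut.conj (v : G) • B ≤ MulAut.conj (v : G) • C₁ :=
      pointwise_smul_le_pointwise_smul_iff.mpr hBC
    rwa [conj_smul_eq_self_iff_mem_normalizer.mpr (hVn v.2)] at h1
  have hC₁M : C₁ ≤ M := hCV.trans hVM
  have hC₁X : C₁ ≤ normalizer (Z : Set G) := fun x hx => hR x (hCR hx).1 (hCR hx).2
  have hT : A ⊔ ⨆ v : V, MulAut.conj (v : G) • B ≤ M :=
    sup_le c.hA.le (iSup_le (fun v => (hvB v).trans hC₁M))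
  have hTX : A ⊔ ⨆ v : V, MulAut.conj (v : G) • B ≤ normalizer (Z : Set G) :=
    sup_le (hAZ.trans le_normalizer) (iSup_le (fun v => (hvB v).trans hC₁X))
  have hne : ¬ (A ⊔ ⨆ v : V, MulAut.conj (v : G) • B ≤ A) := by
    intro h
    have h1 : B ≤ A := by
      have h2 : MulAut.conj ((1 : V) : G) • B ≤ ⨆ v : V, MulAut.conj (v : G) • B :=
        le_iSup (fun v : V => MulAut.conj (v : G) • B) 1
      simp only [OneMemClass.coe_one, map_one, one_smul] at h2
      exact h2.trans (le_sup_right.trans h)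
    exact c.hAB (eq_of_le_of_card_ge h1 (by rw [c.hA.card, c.hB.card])).symm
  have hM : ∀ v : V, A ⊔ ⨆ v : V, MulAut.conj (v : G) • B ≤ MulAut.conj (v : G) • M' →
      MulAut.conj (v : G) • M' = M := by
    intro v hv
    exfalso
    apply hVR
    intro w hw
    refine ⟨hVM hw, ?_⟩
    have hvw : (v : G) * w ∈ V := V.mul_mem v.2 hw
    have h0 : MulAut.conj ((v : G) * w) • B ≤ ⨆ u : V, MulAut.conj (u : G) • B :=
      le_iSup (fun u : V => MulAut.conj (u : G) • B) ⟨(v : G) * w, hvw⟩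
    have h1 : MulAut.conj ((v : G) * w) • B ≤ MulAut.conj (v : G) • M' :=
      h0.trans (le_sup_right.trans hv)
    rw [le_conj_smul_iff', smul_smul, ← map_mul, inv_mul_cancel_left] at h1
    exact h1
  have hfinal := BH.only_in hIH c.hA (fun v : V => MulAut.conj (v : G) • B)
    (fun v : V => MulAut.conj (v : G) • M') hfam hT hne hM _ hXtop hTX
  exact hyM (hfinal hyX)

theorem conj_smul_normalizer_le (g : G) (A : Subgroup G) :
    MulAut.conj g • normalizer (A : Set G) ≤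
      normalizer ((MulAut.conj g • A : Subgroup G) : Set G) := by
  have h := normalizer_conj_smul_le g⁻¹ (MulAut.conj g • A)
  rw [map_inv, inv_smul_smul] at h
  rw [conj_smul_le_iff', map_inv]
  exact h

theorem conj_mem_HH {T H : Subgroup G} (hH : H ∈ HH T) (g : G) :
    MulAut.conj g • H ∈ HH (MulAut.conj g • T) := by
  rw [mem_HH_iff] at hH ⊢
  obtain ⟨h1, h2, h3⟩ := hH
  refine ⟨pointwise_smul_le_pointwise_smul_iff.mpr h1, conj_smul_ne_top h2 g, ?_⟩
  intro N hTN hNH hn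
  have h4 : MulAut.conj g⁻¹ • N = H := by
    refine h3 _ (conj_smul_le_iff'.mp hTN) (le_conj_smul_iff'.mp hNH) ?_
    refine le_trans ?_ (conj_smul_normalizer_le g⁻¹ N)
    rw [← conj_smul_le_iff']
    exact hn
  rw [← h4, map_inv, smul_inv_smul]

/-- **Generalized zipper lemma.** -/
theorem gen_zipper_aux [Finite G] : ∀ k : ℕ, ∀ A : Subgroup G, Nat.card G - Nat.card A = k →
    Subgroup.normalClosure (A : Set G) = ⊤ → A ≠ ⊤ → sSup (HH A) ≠ ⊤ →
    ∃! M : Subgroup G, IsCoatom M ∧ A ≤ M := by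
  intro k
  induction k using Nat.strong_induction_on with
  | _ k ih =>
    intro A hk hcl hAtop hY
    -- the induction hypothesis
    have hIH : IH G (Nat.card A) := by
      intro T hcard hTtop hTcl hTY
      have h1 : Nat.card T ≤ Nat.card G := Subgroup.card_le_card_group T
      exact ih (Nat.card G - Nat.card T) (by omega) T rfl hTcl hTtop hTY
    set Y := sSup (HH A) with hYdef
    have hAY : A ≤ Y := le_sSup (self_mem_HH hAtop)
    have hNY : normalizer (Y : Set G) ≠ ⊤ := by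
      intro h
      have hnorm : Y.Normal := normalizer_eq_top_iff.mp h
      have h1 : Subgroup.normalClosure (A : Set G) ≤ Y := normalClosure_le_normal hAY
      rw [hcl, top_le_iff] at h1
      exact hY h1
    obtain ⟨M, hMc, hNM⟩ := (eq_top_or_exists_le_coatom _).resolve_left hNY
    have hYM : Y ≤ M := le_normalizer.trans hNM
    -- the pair `(A, M)`
    have hBH : BH (Nat.card A) A M := by
      refine ⟨hMc, hAY.trans hYM, ?_, ?_, hcl, rfl⟩
      · refine le_trans ?_ hNM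
        intro g hg
        rw [← conj_smul_eq_self_iff_mem_normalizer]
        apply conj_smul_eq_of_le
        rw [conj_smul_le_iff']
        refine sSup_le (fun H hH => ?_)
        rw [← conj_smul_le_iff']
        have h1 := conj_mem_HH hH g
        rw [conj_smul_eq_self_iff_mem_normalizer.mpr hg] at h1
        exact le_sSup h1
      · intro X hX hAX hXM
        rcases rsn_or_exists_mem_HH A X hAX hX with h | ⟨S, hS, hAS, hSX⟩
        · exact h
        · exfalso
          have hcard : Nat.card A < Nat.card S := by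
            by_contra hle
            push Not at hle
            exact hAS.ne (eq_of_le_of_card_ge hAS.le hle)
          have hScl : Subgroup.normalClosure (S : Set G) = ⊤ := by
            rw [eq_top_iff, ← hcl]
            exact Subgroup.normalClosure_mono hAS.le
          have hSY : sSup (HH S) ≤ Y := sSup_le_sSup (fun H hH => HH_trans hS hH)
          have hSY' : sSup (HH S) ≠ ⊤ := fun h => hY (top_le_iff.mp (h ▸ hSY))
          obtain ⟨M', _, hM'⟩ := hIH S hcard hS.2.1 hScl hSY'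
          obtain ⟨M'', hM''c, hXM''⟩ := (eq_top_or_exists_le_coatom X).resolve_left hX
          have e1 : M'' = M' := hM' M'' ⟨hM''c, hSX.trans hXM''⟩
          have e2 : M = M' := hM' M ⟨hMc, (le_sSup hS).trans hYM⟩
          exact hXM (by rw [e2, ← e1]; exact hXM'')
    refine ⟨M, ⟨hMc, hBH.le⟩, ?_⟩
    rintro K ⟨hKc, hAK⟩
    by_contra hKM
    have hKM' : ¬ K ≤ M := not_le_of_isCoatom_of_ne hMc hKc (Ne.symm hKM)
    by_cases hsn : RSN A M
    · -- the classical zipper lemma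
      have hprop : ∀ H, A ≤ H → H < ⊤ → RSN A H := by
        intro H hAH hH
        by_cases hHM : H ≤ M
        · exact hsn.restrict hAH hHM
        · exact hBH.sn H hH.ne hAH hHM
      obtain ⟨M₀, hM₀, hall⟩ := zipper ⊤ A le_top hprop (not_rsn_top_of_normalClosure hAtop hcl)
      have h1 : M ≤ M₀ := hall M hBH.le (lt_top_iff_ne_top.mpr hMc.1)
      have h2 : K ≤ M₀ := hall K hAK (lt_top_iff_ne_top.mpr hKc.1)
      have h3 : M₀ = M := by
        rcases hMc.le_iff.mp h1 with h | h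
        · exact absurd h hM₀.ne
        · exact h
      exact hKM' (h3 ▸ h2)
    · -- the bad configuration
      have hrK : RSN A K := hBH.sn K hKc.1 hAK hKM'
      have hnot : ¬ K ≤ normalizer (A : Set G) := fun h => hKM' (h.trans hBH.norm)
      obtain ⟨x, hxK, hxne, hxn⟩ := hrK.exists_conj_aux A le_rfl le_normalizer hnot
      have hB : BH (Nat.card A) (MulAut.conj x • A) (MulAut.conj x • M) := hBH.conj x
      have hBM : MulAut.conj x • A ≤ M := hxn.trans hBH.norm
      have hBK : MulAut.conj x • A ≤ K := conj_smul_le_of_le_of_mem hAK hxK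
      have hAM' : A ≤ MulAut.conj x • M :=
        BH.le_of_sup_le hIH hBH hB hBM hKc.1 (sup_le hAK hBK) hKM'
      have hne : M ≠ MulAut.conj x • M := by
        intro h
        rw [← h] at hB
        exact hKM' (BH.only_in_same hIH hBH hB (Ne.symm hxne) K hKc.1 (sup_le hAK hBK))
      exact Cfg.false hIH ⟨hBH, hB, hAM', hBM, hne, Ne.symm hxne⟩ hsn

theorem gen_zipper [Finite G] (A : Subgroup G) (hcl : Subgroup.normalClosure (A : Set G) = ⊤)
    (hA : A ≠ ⊤) : sSup (HH A) = ⊤ ∨ ∃! M : Subgroup G, IsCoatom M ∧ A ≤ M := by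
  by_cases hY : sSup (HH A) = ⊤
  · exact Or.inl hY
  · exact Or.inr (gen_zipper_aux _ A rfl hcl hA hY)

end Cfsg.Agent.Helper90
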