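import Mathlib
import Cfsg.Agent.Lib.Helper31.H2Defs

/-!
H2 server (helper31, S3786), piece (O1): `O_p(G / O_{p',p}(G)) = 1`.
-/

set_option autoImplicit false

namespace Cfsg.Agent.Helper90.H2

open Cfsg Cfsg.Agent.Helper31.H2 Cfsg.Agent.Helper31.HHB Cfsg.Agent.Helper48.Wreath

/-- (O1) `O_p(G / O_{p',p}(G)) = 1`: the image in `G/O_{p'}(G)` of the preimage `X` of `O_p(G/O_{p',p}(G))` is a normal
`p`-subgroup, so it lies in `O_p(G/O_{p'}(G))`, i.e. `X ≤ O_{p',p}(G)`. -/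
theorem pCore_quot_pPrimePCore_eq_bot {G : Type*} [Group G] [Finite G] (p : ℕ) [Fact p.Prime] :
    pCore p (G ⧸ pPrimePCore p G) = ⊥ := by
  have hUn : (pPrimePCore p G).Normal := inferInstance
  -- the image of `X` in `G / O_{p'}(G)`
  have hXn : ((pCore p (G ⧸ pPrimePCore p G)).comap (QuotientGroup.mk' (pPrimePCore p G))).Normal :=
    inferInstance
  have hYn : (((pCore p (G ⧸ pPrimePCore p G)).comap (QuotientGroup.mk' (pPrimePCore p G))).map
      (QuotientGroup.mk' (pPrimeCore p G))).Normal :=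
    Subgroup.Normal.map hXn _ (QuotientGroup.mk'_surjective _)
  have hYp : IsPGroup p (((pCore p (G ⧸ pPrimePCore p G)).comap
      (QuotientGroup.mk' (pPrimePCore p G))).map (QuotientGroup.mk' (pPrimeCore p G))) := by
    rintro ⟨y, hy⟩
    obtain ⟨x, hx, rfl⟩ := Subgroup.mem_map.1 hy
    have hx' : QuotientGroup.mk' (pPrimePCore p G) x ∈ pCore p (G ⧸ pPrimePCore p G) := hx
    obtain ⟨k, hk⟩ := (Cfsg.Agent.Helper55.isPGroup_pCore (G := G ⧸ pPrimePCore p G) (p := p)) ⟨_, hx'⟩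
    have hk' : (QuotientGroup.mk' (pPrimePCore p G) x) ^ (p ^ k) = 1 := by
      have := congrArg Subtype.val hk
      simpa using this
    rw [← map_pow, QuotientGroup.mk'_apply, QuotientGroup.eq_one_iff] at hk'
    -- `x ^ p ^ k ∈ O_{p',p}(G)`: its image in `G/O_{p'}` lies in `O_p(G/O_{p'})`
    have hk'' : QuotientGroup.mk' (pPrimeCore p G) (x ^ p ^ k) ∈ pCore p (G ⧸ pPrimeCore p G) := hk'
    obtain ⟨j, hj⟩ := (Cfsg.Agent.Helper55.isPGroup_pCore (G := G ⧸ pPrimeCore p G) (p := p)) ⟨_, hk''⟩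
    have hj' : (QuotientGroup.mk' (pPrimeCore p G) (x ^ p ^ k)) ^ (p ^ j) = 1 := by
      have := congrArg Subtype.val hj
      simpa using this
    refine ⟨k + j, ?_⟩
    apply Subtype.ext
    rw [Subgroup.coe_pow, Subgroup.coe_mk, Subgroup.coe_one, pow_add, pow_mul, ← map_pow]
    exact hj'
  have hle := Cfsg.Agent.Helper55.le_pCore hYn hYp
  rw [eq_bot_iff]
  intro q hq
  obtain ⟨g, rfl⟩ := QuotientGroup.mk_surjective q
  have hg : g ∈ (pCore p (G ⧸ pPrimePCore p G)).comap (QuotientGroup.mk' (pPrimePCore p G)) := hq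
  have hg2 : QuotientGroup.mk' (pPrimeCore p G) g ∈ pCore p (G ⧸ pPrimeCore p G) :=
    hle (Subgroup.mem_map_of_mem _ hg)
  have hg3 : g ∈ pPrimePCore p G := hg2
  rw [Subgroup.mem_bot]
  exact (QuotientGroup.eq_one_iff g).mpr hg3

end Cfsg.Agent.Helper90.H2
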