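import Mathlib

set_option autoImplicit false

/-!
# Nilpotent minimal covers: general tools

* `minCover_eq_of_le_proper`: in a cover of minimal cardinality, two members contained in a common
  proper subgroup coincide.
* `nilpotent_fixes_unique_fixed`: if a nilpotent subgroup `A` acts on a set, `P` is an `A`-invariant
  predicate and some `u ∈ A` has exactly one fixed point `ω₁` satisfying `P`, then `A` fixes `ω₁`.
* `nilpotent_le_stabilizer_of_cycle`: a nilpotent subgroup containing an element acting as a cycle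
  on more than half of the points stabilizes the set of fixed points of that cycle.
* `no_nilpotent_minCover_of_cycle`: the resulting obstruction to nilpotent minimal covers.
-/

namespace Cfsg.Agent.Helper90

open Equiv Equiv.Perm
open scoped Pointwise

/-- In a cover of minimal cardinality, two members contained in a common proper subgroup coincide. -/
theorem minCover_eq_of_le_proper {G : Type*} [Group G] (𝓐 : Finset (Subgroup G))
    (hprop : ∀ A ∈ 𝓐, A ≠ ⊤) (hcov : ∀ g : G, ∃ A ∈ 𝓐, g ∈ A)
    (hmin : ∀ 𝓑 : Finset (Subgroup G),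
      (∀ A ∈ 𝓑, A ≠ ⊤) ∧ (∀ g : G, ∃ A ∈ 𝓑, g ∈ A) → 𝓐.card ≤ 𝓑.card)
    {A B : Subgroup G} (hA : A ∈ 𝓐) (hB : B ∈ 𝓐) {M : Subgroup G} (hM : M ≠ ⊤)
    (hAM : A ≤ M) (hBM : B ≤ M) : A = B := by
  classical
  by_contra hne
  have h := hmin (insert M ((𝓐.erase A).erase B)) ⟨?_, ?_⟩
  · have h1 : ((𝓐.erase A).erase B).card = 𝓐.card - 2 := by
      rw [Finset.card_erase_of_mem, Finset.card_erase_of_mem hA]
      · omega
      · exact Finset.mem_erase.mpr ⟨Ne.symm hne, hB⟩
    have h2 := Finset.card_insert_le M ((𝓐.erase A).erase B)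
    have h3 : 2 ≤ 𝓐.card := by
      have hsub : ({A, B} : Finset (Subgroup G)) ⊆ 𝓐 := by
        intro C hC
        simp only [Finset.mem_insert, Finset.mem_singleton] at hC
        rcases hC with rfl | rfl <;> assumption
      have := Finset.card_le_card hsub
      rwa [Finset.card_pair hne] at this
    omega
  · intro C hC
    rcases Finset.mem_insert.mp hC with rfl | hC
    · exact hM
    · exact hprop C (Finset.mem_of_mem_erase (Finset.mem_of_mem_erase hC))
  · intro g
    obtain ⟨C, hC, hg⟩ := hcov g
    by_cases hCA : C = A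
    · exact ⟨M, Finset.mem_insert_self _ _, hAM (hCA ▸ hg)⟩
    by_cases hCB : C = B
    · exact ⟨M, Finset.mem_insert_self _ _, hBM (hCB ▸ hg)⟩
    · exact ⟨C, Finset.mem_insert_of_mem
        (Finset.mem_erase.mpr ⟨hCB, Finset.mem_erase.mpr ⟨hCA, hC⟩⟩), hg⟩

/-- If a nilpotent subgroup `A` acts on a set, `P` is an `A`-invariant predicate and some `u ∈ A`
has exactly one fixed point `ω₁` satisfying `P`, then all of `A` fixes `ω₁`. -/
theorem nilpotent_fixes_unique_fixed {G Ω : Type*} [Group G] [MulAction G Ω] (A : Subgroup G)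
    [hA : Group.IsNilpotent A] (P : Ω → Prop) (hP : ∀ g ∈ A, ∀ ω, P ω → P (g • ω))
    {u : G} (hu : u ∈ A) {ω₁ : Ω} (hPω : P ω₁) (hfix : u • ω₁ = ω₁)
    (huniq : ∀ ω, P ω → u • ω = ω → ω = ω₁) : ∀ g ∈ A, g • ω₁ = ω₁ := by
  obtain ⟨n, hn⟩ := hA.nilpotent'
  have key : ∀ i : ℕ, ∀ z : A, z ∈ Subgroup.upperCentralSeries A i → (z : G) • ω₁ = ω₁ := by
    intro i
    induction i with
    | zero =>
      intro z hz
      rw [Subgroup.upperCentralSeries_zero, Subgroup.mem_bot] at hz
      subst hz
      simp
    | succ i ih =>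
      intro z hz
      rw [Subgroup.mem_upperCentralSeries_succ_iff] at hz
      have h1 := ih _ (hz ⟨u, hu⟩)
      have hu' : u⁻¹ • ω₁ = ω₁ := by rw [inv_smul_eq_iff, hfix]
      have h2 : u • ((z : G)⁻¹ • ω₁) = (z : G)⁻¹ • ω₁ := by
        simp only [commutatorElement_def, Subgroup.coe_mul, Subgroup.coe_inv, mul_smul, hu'] at h1
        rw [eq_inv_smul_iff]
        exact h1
      have h3 := huniq _ (hP _ (A.inv_mem z.2) _ hPω) h2
      rw [inv_smul_eq_iff] at h3
      exact h3.symm
  intro g hg
  exact key n ⟨g, hg⟩ (by rw [hn]; trivial)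

/-- A nilpotent subgroup containing an element acting as a cycle moving more than half of the
points stabilizes the set of fixed points of that cycle. -/
theorem nilpotent_le_stabilizer_of_cycle {G Ω : Type*} [Group G] [Fintype Ω] [DecidableEq Ω]
    [MulAction G Ω] (A : Subgroup G) [Group.IsNilpotent A] {x : Perm Ω} (hx : x.IsCycle)
    (hcard : Fintype.card Ω < 2 * x.support.card) {gx : G} (hgx : ∀ i, gx • i = x i)
    (hA : gx ∈ A) : A ≤ MulAction.stabilizer G (x.supportᶜ : Finset Ω) := by
  have hpow : ∀ k : ℕ, ∀ i, (gx ^ k) • i = (x ^ k) i := by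
    intro k
    induction k with
    | zero => intro i; simp
    | succ k ih => intro i; rw [pow_succ, pow_succ, mul_smul, hgx, ih, Perm.mul_apply]
  have hfix : gx • (x.supportᶜ : Finset Ω) = x.supportᶜ := by
    apply Finset.eq_of_subset_of_card_le
    · intro j hj
      obtain ⟨i, hi, rfl⟩ := Finset.mem_smul_finset.mp hj
      rw [hgx, notMem_support.mp (Finset.mem_compl.mp hi)]
      exact hi
    · rw [Finset.card_smul_finset]
  intro g hg
  rw [MulAction.mem_stabilizer_iff]
  refine nilpotent_fixes_unique_fixed A (fun S : Finset Ω => S.card = (x.supportᶜ : Finset Ω).card)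
    (fun g _ S hS => by simpa [Finset.card_smul_finset] using hS) hA rfl hfix ?_ g hg
  intro S hS hSfix
  have hSpow : ∀ k : ℕ, (gx ^ k) • S = S := by
    intro k
    have : gx ∈ MulAction.stabilizer G S := MulAction.mem_stabilizer_iff.mpr hSfix
    exact MulAction.mem_stabilizer_iff.mp (pow_mem this k)
  have hsub : S ⊆ x.supportᶜ := by
    intro i hiS
    by_contra hiD
    have hi : x i ≠ i := by
      rw [Finset.mem_compl, not_not, mem_support] at hiD
      exact hiD
    have hsupp : x.support ⊆ S := by
      intro j hj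
      obtain ⟨k, hk⟩ := hx.exists_pow_eq hi (mem_support.mp hj)
      rw [← hk, ← hpow, ← hSpow k]
      exact Finset.smul_mem_smul_finset hiS
    have h1 := Finset.card_le_card hsupp
    rw [hS, Finset.card_compl] at h1
    omega
  exact Finset.eq_of_subset_of_card_le hsub (le_of_eq hS.symm)

/-- The obstruction: if `G` acts on a finite set, some element acts as a cycle `x` with at least
four moved points, moving more than half of the points, the "cut" conjugate of `x` is also induced
by an element of `G`, and `G` does not preserve the fixed point set of `x`, then `G` has no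
minimal cover consisting of nilpotent subgroups. -/
theorem no_nilpotent_minCover_of_cycle {G Ω : Type*} [Group G] [Fintype Ω] [DecidableEq Ω]
    [MulAction G Ω] {x : Perm Ω} (hx : x.IsCycle) (h4 : 4 ≤ x.support.card)
    (hcard : Fintype.card Ω < 2 * x.support.card) {a : Ω} (ha : x a ≠ a) {gx gy g₀ : G}
    (hgx : ∀ i, gx • i = x i) (hgy : ∀ i, gy • i = (swap a (x a) * x * swap a (x a)) i)
    (hg₀ : ∃ d, x d = d ∧ x (g₀ • d) ≠ g₀ • d)
    (𝓐 : Finset (Subgroup G))
    (hprop : ∀ A ∈ 𝓐, A ≠ ⊤) (hcov : ∀ g : G, ∃ A ∈ 𝓐, g ∈ A)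
    (hmin : ∀ 𝓑 : Finset (Subgroup G),
      (∀ A ∈ 𝓑, A ≠ ⊤) ∧ (∀ g : G, ∃ A ∈ 𝓑, g ∈ A) → 𝓐.card ≤ 𝓑.card)
    (hnil : ∀ A ∈ 𝓐, Group.IsNilpotent A) : False := by
  set s : Perm Ω := swap a (x a) with hs
  set y : Perm Ω := s * x * s with hy
  have hss : s⁻¹ = s := swap_inv _ _
  -- `x (x a) ≠ a`
  have hord : orderOf x = x.support.card := hx.orderOf
  have hffx : x (x a) ≠ a := by
    intro h
    have h2 : (x ^ 2) a = a := by rw [pow_two, Perm.mul_apply, h]
    have h3 : x ^ 2 = 1 := (hx.pow_eq_one_iff' ha).mpr h2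
    have h4' := Nat.le_of_dvd (by norm_num) (orderOf_dvd_of_pow_eq_one h3)
    omega
  -- `y` is a cycle with the same support
  have hycyc : y.IsCycle := by
    have := hx.conj (g := s)
    rwa [hss] at this
  have hs_supp : ∀ i, x (s i) ≠ s i ↔ x i ≠ i := by
    intro i
    by_cases hia : i = a
    · subst hia
      simp only [hs, swap_apply_left]
      constructor
      · intro _; exact ha
      · intro _ h; exact ha (x.injective h)
    by_cases hib : i = x a
    · subst hib
      simp only [hs, swap_apply_right]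
      constructor
      · intro _ h; exact ha (x.injective h)
      · intro _; exact ha
    · rw [hs, swap_apply_of_ne_of_ne hia hib]
  have hysupp : y.support = x.support := by
    ext i
    rw [mem_support, mem_support, hy, Perm.mul_apply, Perm.mul_apply, ← hs_supp i]
    constructor
    · intro h h'
      apply h
      rw [h']
      simp [hs]
    · intro h h'
      apply h
      have := congrArg s h'
      simpa [hs] using this
  -- the stabilizer of the fixed point set is proper
  set M : Subgroup G := MulAction.stabilizer G (x.supportᶜ : Finset Ω) with hM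
  have hMtop : M ≠ ⊤ := by
    intro htop
    obtain ⟨d, hd, hd'⟩ := hg₀
    have hg : g₀ ∈ M := by rw [htop]; trivial
    rw [hM, MulAction.mem_stabilizer_iff] at hg
    have h1 : g₀ • d ∈ g₀ • (x.supportᶜ : Finset Ω) :=
      Finset.smul_mem_smul_finset (Finset.mem_compl.mpr (notMem_support.mpr hd))
    rw [hg, Finset.mem_compl, mem_support] at h1
    exact h1 hd'
  obtain ⟨A, hA, hxA⟩ := hcov gx
  obtain ⟨B, hB, hyB⟩ := hcov gy
  have := hnil A hA
  have := hnil B hB
  have hAM : A ≤ M := nilpotent_le_stabilizer_of_cycle A hx hcard hgx hxA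
  have hBM : B ≤ M := by
    have := nilpotent_le_stabilizer_of_cycle B hycyc (by rw [hysupp]; exact hcard) hgy hyB
    rwa [hysupp] at this
  have hAB : A = B := minCover_eq_of_le_proper 𝓐 hprop hcov hmin hA hB hMtop hAM hBM
  have hyA : gy ∈ A := hAB ▸ hyB
  -- the element `w = y x = (s x)^2`
  set v : Perm Ω := s * x with hv
  have hvcyc : v.IsCycle := hx.swap_mul ha hffx
  have hvsupp : v.support = x.support \ {a} := support_swap_mul_eq x a hffx
  have hvcard : 3 ≤ v.support.card := by
    rw [hvsupp, Finset.sdiff_singleton_eq_erase, Finset.card_erase_of_mem (mem_support.mpr ha)]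
    omega
  have hvord : orderOf v = v.support.card := hvcyc.orderOf
  have hw : ∀ i, (gy * gx) • i = (v ^ 2) i := by
    intro i
    rw [mul_smul, hgx, hgy]
    show (s * x * s) (x i) = ((s * x) ^ 2) i
    rw [pow_two]
    simp only [Perm.mul_apply]
  have hva : v a = a := by simp [hv, hs, Perm.mul_apply]
  have hfixA := nilpotent_fixes_unique_fixed A (fun i : Ω => x i ≠ i) ?_ (A.mul_mem hyA hxA)
    (ω₁ := a) ha ?_ ?_
  · have := hfixA gx hxA
    rw [hgx] at this
    exact ha this
  · intro g hg i hi hgi
    have hgM := hAM hg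
    rw [hM, MulAction.mem_stabilizer_iff] at hgM
    have h1 : g • i ∈ g • (x.supportᶜ : Finset Ω) := by
      rw [hgM, Finset.mem_compl, mem_support, not_not]
      exact hgi
    rw [Finset.smul_mem_smul_finset_iff, Finset.mem_compl, mem_support] at h1
    exact h1 hi
  · rw [hw, pow_two, Perm.mul_apply, hva, hva]
  · intro i hi hwi
    by_contra hia
    have hiv : v i ≠ i := by
      rw [← mem_support, hvsupp, Finset.mem_sdiff, Finset.mem_singleton]
      exact ⟨mem_support.mpr hi, hia⟩
    rw [hw] at hwi
    have h3 : v ^ 2 = 1 := (hvcyc.pow_eq_one_iff' hiv).mpr hwi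
    have h4' := Nat.le_of_dvd (by norm_num) (orderOf_dvd_of_pow_eq_one h3)
    omega

end Cfsg.Agent.Helper90
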