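import Mathlib
import Cfsg.Agent.Lib.Helper90.NilpCover

set_option autoImplicit false

/-!
# Nilpotent minimal covers and abelian Sylow subgroups (Bryce–Serena)

Let `G` be a finite group with trivial centre and a minimal cover `𝓐` by nilpotent subgroups, and
assume the Sylow `p`-subgroups of `G` are abelian.  Then every `p`-element of a member is central in
that member, so two members sharing a nontrivial `p`-element coincide.  For a Sylow `p`-subgroup `P`
that is cyclic or of exponent `> p`, it follows that `C_G(P)` is a member of the cover, that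
`N_G(P)` is the unique maximal subgroup containing `C_G(P)`, and that `P` is a TI-subgroup.
-/

namespace Cfsg.Agent.Helper90

open scoped Pointwise

/-- In a nilpotent group, two elements of coprime orders commute. -/
theorem commute_of_coprime_orderOf (K : Type*) [Group K] [Group.IsNilpotent K] :
    ∀ a b : K, (orderOf a).Coprime (orderOf b) → Commute a b := by
  refine Group.nilpotent_center_quotient_ind
    (P := fun K _ _ => ∀ a b : K, (orderOf a).Coprime (orderOf b) → Commute a b) K ?_ ?_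
  · intro K _ _ a b _
    exact Subsingleton.elim _ _
  · intro K _ _ ih a b hab
    have h1 : Commute (QuotientGroup.mk a : K ⧸ Subgroup.center K) (QuotientGroup.mk b) :=
      ih _ _ (Nat.Coprime.coprime_dvd_left (orderOf_map_dvd (QuotientGroup.mk' _) a)
        (Nat.Coprime.coprime_dvd_right (orderOf_map_dvd (QuotientGroup.mk' _) b) hab))
    set c := a * b * a⁻¹ * b⁻¹ with hc
    have hcZ : c ∈ Subgroup.center K := by
      rw [← QuotientGroup.eq_one_iff, hc]
      simp only [QuotientGroup.mk_mul, QuotientGroup.mk_inv]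
      rw [h1.eq]
      group
    have hcomm : ∀ z : K, Commute c z := fun z => (Subgroup.mem_center_iff.mp hcZ z).symm
    have e1 : a * b * a⁻¹ = c * b := by rw [hc]; group
    have hb : c ^ orderOf b = 1 := by
      have h2 : (a * b * a⁻¹) ^ orderOf b = 1 := by
        rw [conj_pow, pow_orderOf_eq_one]; group
      rw [e1, (hcomm b).mul_pow, pow_orderOf_eq_one, mul_one] at h2
      exact h2
    have e2 : b * a * b⁻¹ = c⁻¹ * a := by rw [hc]; group
    have ha : c ^ orderOf a = 1 := by
      have h2 : (b * a * b⁻¹) ^ orderOf a = 1 := by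
        rw [conj_pow, pow_orderOf_eq_one]; group
      rw [e2, ((hcomm a).inv_left).mul_pow, pow_orderOf_eq_one, mul_one, inv_pow,
        inv_eq_one] at h2
      exact h2
    have h3 : orderOf c ∣ 1 := by
      have := Nat.dvd_gcd (orderOf_dvd_of_pow_eq_one ha) (orderOf_dvd_of_pow_eq_one hb)
      rwa [hab.gcd_eq_one] at this
    have hc1 : c = 1 := orderOf_eq_one_iff.mp (Nat.dvd_one.mp h3)
    rw [hc] at hc1
    have : a * b = b * a := by
      have h4 := congrArg (fun t => t * b * a) hc1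
      simpa [mul_assoc] using h4
    exact this

/-- If `c` commutes with `g ^ a` and `g ^ b` with `a`, `b` coprime, then `c` commutes with `g`. -/
theorem commute_of_commute_pow_pow {G : Type*} [Group G] {c g : G} {a b : ℕ} (hab : a.Coprime b)
    (ha : Commute c (g ^ a)) (hb : Commute c (g ^ b)) : Commute c g := by
  have h1 : IsCoprime (a : ℤ) (b : ℤ) := Nat.isCoprime_iff_coprime.mpr hab
  obtain ⟨u, v, huv⟩ := h1
  have hg : g = (g ^ a) ^ u * (g ^ b) ^ v := by
    rw [← zpow_natCast, ← zpow_natCast, ← zpow_mul, ← zpow_mul, ← zpow_add]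
    have : (a : ℤ) * u + (b : ℤ) * v = 1 := by linarith
    rw [this, zpow_one]
  rw [hg]
  exact (ha.zpow_right u).mul_right (hb.zpow_right v)

/-- In a finite nilpotent group, an element of `p`-power order lies in every Sylow `p`-subgroup. -/
theorem mem_sylow_of_nilpotent {K : Type*} [Group K] [Finite K] [Group.IsNilpotent K] {p : ℕ}
    [Fact p.Prime] (R : Sylow p K) {y : K} {j : ℕ} (hy : orderOf y = p ^ j) : y ∈ R := by
  have hpg : IsPGroup p (Subgroup.zpowers y) :=
    IsPGroup.of_card (n := j) (by rw [Nat.card_zpowers, hy])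
  obtain ⟨R', hR'⟩ := hpg.exists_le_sylow
  obtain ⟨g, rfl⟩ := MulAction.exists_smul_eq K R R'
  rw [Sylow.smul_eq_of_normal] at hR'
  exact hR' (Subgroup.mem_zpowers y)

/-- the `p'`-part exponent of the order of an element, with its basic properties. -/
theorem exists_pPart_exponent {G : Type*} [Group G] [Finite G] (p : ℕ) [hp : Fact p.Prime] (a : G) :
    ∃ m s : ℕ, m.Coprime (p ^ s) ∧ (a ^ m) ^ (p ^ s) = 1 ∧ (a ^ (p ^ s)) ^ m = 1 ∧
      m.Coprime p := by
  have hn : orderOf a ≠ 0 := (orderOf_pos a).ne'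
  refine ⟨ordCompl[p] (orderOf a), (orderOf a).factorization p, ?_, ?_, ?_, ?_⟩
  · exact (Nat.Coprime.pow_right _ (Nat.coprime_ordCompl hp.out hn).symm)
  · rw [← pow_mul, mul_comm, Nat.ordProj_mul_ordCompl_eq_self, pow_orderOf_eq_one]
  · rw [← pow_mul, Nat.ordProj_mul_ordCompl_eq_self, pow_orderOf_eq_one]
  · exact (Nat.coprime_ordCompl hp.out hn).symm

/-- an element killed by a power of `p` has `p`-power order. -/
theorem orderOf_eq_prime_pow_of_pow_eq_one {G : Type*} [Group G] {p : ℕ} [hp : Fact p.Prime]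
    {y : G} {s : ℕ} (h : y ^ (p ^ s) = 1) : ∃ j, orderOf y = p ^ j := by
  obtain ⟨j, -, hj⟩ := (Nat.dvd_prime_pow hp.out).mp (orderOf_dvd_of_pow_eq_one h)
  exact ⟨j, hj⟩

/-- **Step A.** If the Sylow `p`-subgroups of `G` are abelian, then a `p`-element of a nilpotent
subgroup `A` commutes with all of `A`. -/
theorem pElement_central_of_nilpotent {G : Type*} [Group G] [Finite G] {p : ℕ} [hp : Fact p.Prime]
    (hab : ∀ Q : Sylow p G, ∀ a ∈ Q, ∀ b ∈ Q, a * b = b * a)
    (A : Subgroup G) [Group.IsNilpotent A] {x : G} (hxA : x ∈ A) {k : ℕ} (hx : orderOf x = p ^ k)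
    {a : G} (haA : a ∈ A) : Commute x a := by
  obtain ⟨m, s, hms, h1, h2, hmp⟩ := exists_pPart_exponent p a
  apply commute_of_commute_pow_pow hms
  · -- `a ^ m` is a `p`-element
    obtain ⟨j, hj⟩ := orderOf_eq_prime_pow_of_pow_eq_one h1
    let R : Sylow p A := default
    have hxR : (⟨x, hxA⟩ : A) ∈ R := mem_sylow_of_nilpotent R (j := k) (by
      rw [← hx]; exact Subgroup.orderOf_mk x hxA)
    have haR : (⟨a ^ m, A.pow_mem haA m⟩ : A) ∈ R := mem_sylow_of_nilpotent R (j := j) (by
      rw [← hj]; exact Subgroup.orderOf_mk _ _)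
    have hpg : IsPGroup p ((R : Subgroup A).map A.subtype) := R.isPGroup'.map _
    obtain ⟨Q, hQ⟩ := hpg.exists_le_sylow
    have hxQ : x ∈ Q := hQ ⟨⟨x, hxA⟩, hxR, rfl⟩
    have haQ : a ^ m ∈ Q := hQ ⟨⟨a ^ m, A.pow_mem haA m⟩, haR, rfl⟩
    exact hab Q x hxQ (a ^ m) haQ
  · -- `a ^ (p ^ s)` has order prime to `p`
    have hco : (orderOf x).Coprime (orderOf (a ^ (p ^ s))) := by
      rw [hx]
      apply Nat.Coprime.pow_left
      exact (Nat.Coprime.coprime_dvd_right (orderOf_dvd_of_pow_eq_one h2) hmp.symm)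
    have := commute_of_coprime_orderOf A ⟨x, hxA⟩ ⟨a ^ (p ^ s), A.pow_mem haA _⟩ (by
      rwa [Subgroup.orderOf_mk, Subgroup.orderOf_mk])
    have h3 := congrArg (Subtype.val) this.eq
    exact h3

/-- A cover of minimal cardinality all of whose members are nilpotent. -/
structure NilpMinCover (G : Type*) [Group G] (𝓐 : Finset (Subgroup G)) : Prop where
  proper : ∀ A ∈ 𝓐, A ≠ ⊤
  cover : ∀ g : G, ∃ A ∈ 𝓐, g ∈ A
  minimal : ∀ 𝓑 : Finset (Subgroup G),
    (∀ A ∈ 𝓑, A ≠ ⊤) ∧ (∀ g : G, ∃ A ∈ 𝓑, g ∈ A) → 𝓐.card ≤ 𝓑.card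
  nilpotent : ∀ A ∈ 𝓐, Group.IsNilpotent A

section

variable {G : Type*} [Group G] [Finite G] {𝓐 : Finset (Subgroup G)} {p : ℕ} [hp : Fact p.Prime]

/-- **Step B.** Two members of a nilpotent minimal cover that share a nontrivial `p`-element
coincide (centre trivial, Sylow `p`-subgroups abelian). -/
theorem NilpMinCover.eq_of_common_pElement (h : NilpMinCover G 𝓐) (hZ : Subgroup.center G = ⊥)
    (hab : ∀ Q : Sylow p G, ∀ a ∈ Q, ∀ b ∈ Q, a * b = b * a) {A B : Subgroup G} (hA : A ∈ 𝓐)
    (hB : B ∈ 𝓐) {x : G} {k : ℕ} (hx : orderOf x = p ^ k) (hx1 : x ≠ 1) (hxA : x ∈ A)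
    (hxB : x ∈ B) : A = B := by
  have hM : Subgroup.centralizer ({x} : Set G) ≠ ⊤ := by
    intro htop
    apply hx1
    have : x ∈ Subgroup.center G := by
      rw [Subgroup.mem_center_iff]
      intro g
      have hg : g ∈ Subgroup.centralizer ({x} : Set G) := by rw [htop]; trivial
      rw [Subgroup.mem_centralizer_iff] at hg
      exact (hg x rfl).symm
    rwa [hZ, Subgroup.mem_bot] at this
  have := h.nilpotent A hA
  have := h.nilpotent B hB
  refine minCover_eq_of_le_proper 𝓐 h.proper h.cover h.minimal hA hB hM ?_ ?_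
  · intro a ha
    rw [Subgroup.mem_centralizer_iff]
    intro y hy
    rw [Set.mem_singleton_iff] at hy
    subst hy
    exact (pElement_central_of_nilpotent hab A hxA hx ha).eq
  · intro a ha
    rw [Subgroup.mem_centralizer_iff]
    intro y hy
    rw [Set.mem_singleton_iff] at hy
    subst hy
    exact (pElement_central_of_nilpotent hab B hxB hx ha).eq

/-- elements of a Sylow `p`-subgroup have `p`-power order -/
theorem orderOf_of_mem_sylow (P : Sylow p G) {y : G} (hy : y ∈ P) : ∃ j, orderOf y = p ^ j := by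
  obtain ⟨j, hj⟩ := P.isPGroup' ⟨y, hy⟩
  have : y ^ (p ^ j) = 1 := by
    have := congrArg Subtype.val hj
    simpa using this
  exact orderOf_eq_prime_pow_of_pow_eq_one this

/-- a `p`-element normalizing a Sylow `p`-subgroup lies in it -/
theorem mem_sylow_of_mem_normalizer (P : Sylow p G) {y : G} {j : ℕ} (hy : orderOf y = p ^ j)
    (hyN : y ∈ Subgroup.normalizer ((P : Subgroup G) : Set G)) : y ∈ P := by
  have hpg : IsPGroup p (Subgroup.zpowers y) :=
    IsPGroup.of_card (n := j) (by rw [Nat.card_zpowers, hy])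
  have h1 : Subgroup.zpowers y ⊓ Subgroup.normalizer ((P : Subgroup G) : Set G) =
      Subgroup.zpowers y ⊓ (P : Subgroup G) := hpg.inf_normalizer_sylow P
  have h2 : Subgroup.zpowers y ≤ Subgroup.normalizer ((P : Subgroup G) : Set G) := by
    rw [Subgroup.zpowers_le]
    exact hyN
  rw [inf_eq_left.mpr h2] at h1
  have h3 : Subgroup.zpowers y ≤ P := by
    rw [h1]
    exact inf_le_right
  exact h3 (Subgroup.mem_zpowers y)

/-- the hypothesis on the Sylow subgroup: cyclic, or of exponent greater than `p`. -/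
def GoodSylow (P : Sylow p G) : Prop :=
  (∃ x₀ ∈ P, ∀ y ∈ P, y ∈ Subgroup.zpowers x₀) ∨ (∃ x₀ ∈ P, x₀ ^ p ≠ 1)

theorem mem_smul_sylow_iff (P : Sylow p G) (g y : G) : y ∈ g • P ↔ g⁻¹ * y * g ∈ P := by
  change y ∈ MulAut.conj g • (P : Subgroup G) ↔ g⁻¹ * y * g ∈ (P : Subgroup G)
  rw [Subgroup.mem_pointwise_smul_iff_inv_smul_mem]
  simp [MulAut.smul_def]

theorem GoodSylow.smul {P : Sylow p G} (hP : GoodSylow P) (g : G) : GoodSylow (g • P) := by
  rcases hP with ⟨x₀, hx₀, hgen⟩ | ⟨x₀, hx₀, hne⟩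
  · left
    refine ⟨g * x₀ * g⁻¹, ?_, ?_⟩
    · rw [mem_smul_sylow_iff]
      simpa [mul_assoc] using hx₀
    · intro y hy
      rw [mem_smul_sylow_iff] at hy
      obtain ⟨i, hi⟩ := Subgroup.mem_zpowers_iff.mp (hgen _ hy)
      rw [Subgroup.mem_zpowers_iff]
      refine ⟨i, ?_⟩
      rw [conj_zpow, hi]
      group
  · right
    refine ⟨g * x₀ * g⁻¹, ?_, ?_⟩
    · rw [mem_smul_sylow_iff]
      simpa [mul_assoc] using hx₀
    · rw [conj_pow]
      intro h
      apply hne
      have := congrArg (fun t => g⁻¹ * t * g) h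
      simpa [mul_assoc] using this

/-- **Step C.** A good Sylow `p`-subgroup is contained in a member of the cover. -/
theorem NilpMinCover.exists_sylow_le (h : NilpMinCover G 𝓐) (hZ : Subgroup.center G = ⊥)
    (hab : ∀ Q : Sylow p G, ∀ a ∈ Q, ∀ b ∈ Q, a * b = b * a) (P : Sylow p G)
    (hP : GoodSylow P) : ∃ A ∈ 𝓐, (P : Subgroup G) ≤ A := by
  rcases hP with ⟨x₀, hx₀, hgen⟩ | ⟨x₀, hx₀, hne⟩
  · obtain ⟨A, hA, hxA⟩ := h.cover x₀
    refine ⟨A, hA, fun y hy => ?_⟩
    exact (Subgroup.zpowers_le.mpr hxA) (hgen y hy)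
  · obtain ⟨A, hA, hxA⟩ := h.cover x₀
    refine ⟨A, hA, ?_⟩
    obtain ⟨k, hk⟩ := orderOf_of_mem_sylow P (P.pow_mem hx₀ p)
    -- elements of order dividing `p`
    have hstep1 : ∀ t ∈ P, t ^ p = 1 → t ∈ A := by
      intro t ht htp
      obtain ⟨B, hB, hxtB⟩ := h.cover (x₀ * t)
      have hpow : (x₀ * t) ^ p = x₀ ^ p := by
        rw [(show Commute x₀ t from hab P x₀ hx₀ t ht).mul_pow, htp, mul_one]
      have hBA : B = A := h.eq_of_common_pElement hZ hab hB hA hk hne
        (by rw [← hpow]; exact B.pow_mem hxtB p) (A.pow_mem hxA p)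
      rw [hBA] at hxtB
      have := A.mul_mem (A.inv_mem hxA) hxtB
      simpa using this
    intro u hu
    by_cases hu1 : u = 1
    · rw [hu1]; exact A.one_mem
    obtain ⟨j, hj⟩ := orderOf_of_mem_sylow P hu
    obtain ⟨i, rfl⟩ : ∃ i, j = i + 1 := by
      cases j with
      | zero => rw [pow_zero, orderOf_eq_one_iff] at hj; exact absurd hj hu1
      | succ i => exact ⟨i, rfl⟩
    set w := u ^ (p ^ i) with hw
    have hwp : w ^ p = 1 := by
      rw [hw, ← pow_mul, ← pow_succ, ← hj, pow_orderOf_eq_one]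
    have hw1 : w ≠ 1 := by
      intro h1
      have := orderOf_dvd_of_pow_eq_one h1
      rw [hj] at this
      have := Nat.le_of_dvd (pow_pos hp.out.pos i) this
      have h2 : p ^ i < p ^ (i + 1) := Nat.pow_lt_pow_right hp.out.one_lt (Nat.lt_succ_self i)
      omega
    have hwo : orderOf w = p ^ 1 := by
      rw [pow_one]
      exact orderOf_eq_prime hwp hw1
    have hwA : w ∈ A := hstep1 w (P.pow_mem hu _) hwp
    obtain ⟨B, hB, huB⟩ := h.cover u
    have hBA : B = A := h.eq_of_common_pElement hZ hab hB hA hwo hw1 (B.pow_mem huB _) hwA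
    rw [← hBA]
    exact huB

/-- **Step D.** A member containing a nontrivial Sylow `p`-subgroup equals its centralizer. -/
theorem NilpMinCover.eq_centralizer_of_sylow_le (h : NilpMinCover G 𝓐)
    (hZ : Subgroup.center G = ⊥)
    (hab : ∀ Q : Sylow p G, ∀ a ∈ Q, ∀ b ∈ Q, a * b = b * a) (P : Sylow p G)
    (hP1 : (P : Subgroup G) ≠ ⊥) {A : Subgroup G} (hA : A ∈ 𝓐) (hPA : (P : Subgroup G) ≤ A) :
    A = Subgroup.centralizer ((P : Subgroup G) : Set G) := by
  have := h.nilpotent A hA
  apply le_antisymm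
  · intro a ha
    rw [Subgroup.mem_centralizer_iff]
    intro y hy
    obtain ⟨j, hj⟩ := orderOf_of_mem_sylow P hy
    exact (pElement_central_of_nilpotent hab A (hPA hy) hj ha).eq
  · intro c hc
    obtain ⟨x₁, hx₁1⟩ := (Subgroup.ne_bot_iff_exists_ne_one).mp hP1
    have hx₁P : (x₁ : G) ∈ P := x₁.2
    have hx₁ne : (x₁ : G) ≠ 1 := fun h => hx₁1 (Subtype.ext h)
    obtain ⟨m, s, hms, h1, h2, hmp⟩ := exists_pPart_exponent p c
    obtain ⟨j, hj⟩ := orderOf_eq_prime_pow_of_pow_eq_one h1
    have hcmC : c ^ m ∈ Subgroup.centralizer ((P : Subgroup G) : Set G) :=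
      Subgroup.pow_mem _ hc m
    have hcmP : c ^ m ∈ P :=
      mem_sylow_of_mem_normalizer P hj (Subgroup.centralizer_le_normalizer _ hcmC)
    by_cases hcm1 : c ^ m = 1
    · -- `c` is a `p'`-element
      obtain ⟨B, hB, hB'⟩ := h.cover (c * x₁)
      have hcomm : Commute c (x₁ : G) := by
        rw [Subgroup.mem_centralizer_iff] at hc
        exact (hc _ hx₁P).symm
      have hpow : (c * x₁) ^ m = (x₁ : G) ^ m := by
        rw [hcomm.mul_pow, hcm1, one_mul]
      obtain ⟨i, hi⟩ := orderOf_of_mem_sylow P (P.pow_mem hx₁P m)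
      have hne : (x₁ : G) ^ m ≠ 1 := by
        intro h0
        obtain ⟨i', hi'⟩ := orderOf_of_mem_sylow P hx₁P
        have hdvd := orderOf_dvd_of_pow_eq_one h0
        rw [hi'] at hdvd
        have hco : (p ^ i').Coprime m := Nat.Coprime.pow_left _ hmp.symm
        have h3 := Nat.Coprime.eq_one_of_dvd hco hdvd
        rw [← hi', orderOf_eq_one_iff] at h3
        exact hx₁ne h3
      have hBA : B = A := h.eq_of_common_pElement hZ hab hB hA hi hne
        (by rw [← hpow]; exact B.pow_mem hB' m) (hPA (P.pow_mem hx₁P m))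
      rw [hBA] at hB'
      have := A.mul_mem hB' (A.inv_mem (hPA hx₁P))
      simpa using this
    · obtain ⟨B, hB, hB'⟩ := h.cover c
      have hBA : B = A := h.eq_of_common_pElement hZ hab hB hA hj hcm1
        (B.pow_mem hB' m) (hPA hcmP)
      rw [← hBA]
      exact hB'

/-- **Step E.** Sylow `p`-subgroups (abelian) with the same centralizer coincide. -/
theorem sylow_eq_of_centralizer_eq
    (hab : ∀ Q : Sylow p G, ∀ a ∈ Q, ∀ b ∈ Q, a * b = b * a) (P P' : Sylow p G)
    (hcent : Subgroup.centralizer ((P' : Subgroup G) : Set G) =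
      Subgroup.centralizer ((P : Subgroup G) : Set G)) : P' = P := by
  have h1 : (P' : Subgroup G) ≤ P := by
    intro y hy
    obtain ⟨j, hj⟩ := orderOf_of_mem_sylow P' hy
    apply mem_sylow_of_mem_normalizer P hj
    apply Subgroup.centralizer_le_normalizer _
    rw [← hcent, Subgroup.mem_centralizer_iff]
    intro z hz
    exact hab P' z hz y hy
  exact Sylow.ext (P'.3 P.2 h1).symm

/-- the centralizer of a conjugate Sylow subgroup -/
theorem mem_centralizer_smul_sylow_iff (P : Sylow p G) (g c : G) :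
    c ∈ Subgroup.centralizer (((g • P : Sylow p G) : Subgroup G) : Set G) ↔
      g⁻¹ * c * g ∈ Subgroup.centralizer ((P : Subgroup G) : Set G) := by
  rw [Subgroup.mem_centralizer_iff, Subgroup.mem_centralizer_iff]
  constructor
  · intro hc z hz
    have hz' : g * z * g⁻¹ ∈ g • P := by
      rw [mem_smul_sylow_iff]
      simpa [mul_assoc] using hz
    have := hc _ hz'
    have h2 := congrArg (fun t => g⁻¹ * t * g) this
    simpa [mul_assoc] using h2
  · intro hc y hy
    have hy' := (mem_smul_sylow_iff P g y).mp hy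
    have := hc _ hy'
    have h2 := congrArg (fun t => g * t * g⁻¹) this
    simpa [mul_assoc] using h2

/-- The package of consequences for a good, abelian, nontrivial Sylow subgroup. -/
theorem NilpMinCover.centralizer_mem (h : NilpMinCover G 𝓐) (hZ : Subgroup.center G = ⊥)
    (hab : ∀ Q : Sylow p G, ∀ a ∈ Q, ∀ b ∈ Q, a * b = b * a) (P : Sylow p G)
    (hP : GoodSylow P) (hP1 : (P : Subgroup G) ≠ ⊥) (g : G) :
    Subgroup.centralizer (((g • P : Sylow p G) : Subgroup G) : Set G) ∈ 𝓐 := by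
  obtain ⟨A, hA, hPA⟩ := h.exists_sylow_le hZ hab (g • P) (hP.smul g)
  have hne : ((g • P : Sylow p G) : Subgroup G) ≠ ⊥ := by
    intro hbot
    apply hP1
    rw [Subgroup.eq_bot_iff_forall]
    intro y hy
    have hy' : g * y * g⁻¹ ∈ ((g • P : Sylow p G) : Subgroup G) := by
      change g * y * g⁻¹ ∈ g • P
      rw [mem_smul_sylow_iff]
      have e : g⁻¹ * (g * y * g⁻¹) * g = y := by group
      rw [e]
      exact hy
    rw [hbot, Subgroup.mem_bot] at hy'
    have := congrArg (fun t => g⁻¹ * t * g) hy'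
    simpa [mul_assoc] using this
  rw [← h.eq_centralizer_of_sylow_le hZ hab (g • P) hne hA hPA]
  exact hA

/-- **Step F.** Any proper subgroup containing `C_G(P)` lies in `N_G(P)`. -/
theorem NilpMinCover.le_normalizer_of_centralizer_le (h : NilpMinCover G 𝓐)
    (hZ : Subgroup.center G = ⊥)
    (hab : ∀ Q : Sylow p G, ∀ a ∈ Q, ∀ b ∈ Q, a * b = b * a) (P : Sylow p G)
    (hP : GoodSylow P) (hP1 : (P : Subgroup G) ≠ ⊥) {M : Subgroup G} (hM : M ≠ ⊤)
    (hCM : Subgroup.centralizer ((P : Subgroup G) : Set G) ≤ M) :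
    M ≤ Subgroup.normalizer ((P : Subgroup G) : Set G) := by
  intro m hm
  have h0 := h.centralizer_mem hZ hab P hP hP1 1
  rw [one_smul] at h0
  have h1 := h.centralizer_mem hZ hab P hP hP1 m
  have hle : Subgroup.centralizer (((m • P : Sylow p G) : Subgroup G) : Set G) ≤ M := by
    intro c hc
    rw [mem_centralizer_smul_sylow_iff] at hc
    have := hCM hc
    have h2 := M.mul_mem (M.mul_mem hm this) (M.inv_mem hm)
    simpa [mul_assoc] using h2
  have heq := minCover_eq_of_le_proper 𝓐 h.proper h.cover h.minimal h1 h0 hM hle hCM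
  have := sylow_eq_of_centralizer_eq hab P (m • P) heq
  exact Sylow.smul_eq_iff_mem_normalizer.mp this

/-- **Step G.** A good abelian Sylow subgroup is a TI-subgroup: a nontrivial `p`-element lying
in `P` and in `g • P` forces `g ∈ N_G(P)`. -/
theorem NilpMinCover.mem_normalizer_of_common (h : NilpMinCover G 𝓐)
    (hZ : Subgroup.center G = ⊥)
    (hab : ∀ Q : Sylow p G, ∀ a ∈ Q, ∀ b ∈ Q, a * b = b * a) (P : Sylow p G)
    (hP : GoodSylow P) (hP1 : (P : Subgroup G) ≠ ⊥) {g x : G} (hx1 : x ≠ 1) (hxP : x ∈ P)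
    (hxgP : x ∈ g • P) : g ∈ Subgroup.normalizer ((P : Subgroup G) : Set G) := by
  have h0 := h.centralizer_mem hZ hab P hP hP1 1
  rw [one_smul] at h0
  have h1 := h.centralizer_mem hZ hab P hP hP1 g
  obtain ⟨j, hj⟩ := orderOf_of_mem_sylow P hxP
  have hx0 : x ∈ Subgroup.centralizer ((P : Subgroup G) : Set G) := by
    rw [Subgroup.mem_centralizer_iff]
    intro z hz
    exact hab P z hz x hxP
  have hx1' : x ∈ Subgroup.centralizer (((g • P : Sylow p G) : Subgroup G) : Set G) := by
    rw [Subgroup.mem_centralizer_iff]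
    intro z hz
    exact hab (g • P) z hz x hxgP
  have heq := h.eq_of_common_pElement hZ hab h1 h0 hj hx1 hx1' hx0
  have := sylow_eq_of_centralizer_eq hab P (g • P) heq
  exact Sylow.smul_eq_iff_mem_normalizer.mp this

/-- all Sylow `p`-subgroups are abelian as soon as one of them is -/
theorem sylow_comm_of_comm (P : Sylow p G) (hc : ∀ a ∈ P, ∀ b ∈ P, a * b = b * a) :
    ∀ Q : Sylow p G, ∀ a ∈ Q, ∀ b ∈ Q, a * b = b * a := by
  intro Q a ha b hb
  obtain ⟨g, rfl⟩ := MulAction.exists_smul_eq G P Q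
  rw [mem_smul_sylow_iff] at ha hb
  have := hc _ ha _ hb
  have h2 := congrArg (fun t => g * t * g⁻¹) this
  simpa [mul_assoc] using h2

theorem goodSylow_of_isCyclic (P : Sylow p G) (hc : IsCyclic ↥(P : Subgroup G)) : GoodSylow P := by
  left
  obtain ⟨x₀, hx₀⟩ := hc.exists_generator
  refine ⟨x₀, x₀.2, fun y hy => ?_⟩
  obtain ⟨i, hi⟩ := Subgroup.mem_zpowers_iff.mp (hx₀ ⟨y, hy⟩)
  rw [Subgroup.mem_zpowers_iff]
  refine ⟨i, ?_⟩
  have := congrArg Subtype.val hi
  simpa using this

theorem sylow_comm_of_isCyclic (P : Sylow p G) (hc : IsCyclic ↥(P : Subgroup G)) :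
    ∀ a ∈ P, ∀ b ∈ P, a * b = b * a := by
  intro a ha b hb
  obtain ⟨x₀, hx₀⟩ := hc.exists_generator
  obtain ⟨i, hi⟩ := Subgroup.mem_zpowers_iff.mp (hx₀ ⟨a, ha⟩)
  obtain ⟨j, hj⟩ := Subgroup.mem_zpowers_iff.mp (hx₀ ⟨b, hb⟩)
  have h1 : (⟨a, ha⟩ : (P : Subgroup G)) * ⟨b, hb⟩ = ⟨b, hb⟩ * ⟨a, ha⟩ := by
    rw [← hi, ← hj]
    exact (Commute.zpow_zpow_self x₀ i j).eq
  exact congrArg Subtype.val h1

theorem sylow_ne_bot_of_not_normal (P : Sylow p G) (hnn : ¬ (P : Subgroup G).Normal) :
    (P : Subgroup G) ≠ ⊥ := by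
  intro h
  apply hnn
  rw [h]
  infer_instance

/-- **The package.** -/
theorem NilpMinCover.sylow_package (h : NilpMinCover G 𝓐) (hZ : Subgroup.center G = ⊥)
    (P : Sylow p G) (hc : ∀ a ∈ P, ∀ b ∈ P, a * b = b * a) (hP : GoodSylow P)
    (hnn : ¬ (P : Subgroup G).Normal) :
    Subgroup.centralizer ((P : Subgroup G) : Set G) ∈ 𝓐 ∧
    (P : Subgroup G) ≤ Subgroup.centralizer ((P : Subgroup G) : Set G) ∧
    IsCoatom (Subgroup.normalizer ((P : Subgroup G) : Set G)) ∧
    (∀ M : Subgroup G, IsCoatom M → Subgroup.centralizer ((P : Subgroup G) : Set G) ≤ M →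
        M = Subgroup.normalizer ((P : Subgroup G) : Set G)) ∧
    (∀ g : G, g ∉ Subgroup.normalizer ((P : Subgroup G) : Set G) →
        ¬ p ∣ Nat.card ↥(Subgroup.normalizer ((P : Subgroup G) : Set G) ⊓
          (Subgroup.normalizer ((P : Subgroup G) : Set G)).map (MulAut.conj g).toMonoidHom)) := by
  have hab := sylow_comm_of_comm P hc
  have hP1 := sylow_ne_bot_of_not_normal P hnn
  have hNtop : Subgroup.normalizer ((P : Subgroup G) : Set G) ≠ ⊤ := by
    intro htop
    exact hnn (Subgroup.normalizer_eq_top_iff.mp htop)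
  have h0 := h.centralizer_mem hZ hab P hP hP1 1
  rw [one_smul] at h0
  have hCN : Subgroup.centralizer ((P : Subgroup G) : Set G) ≤
      Subgroup.normalizer ((P : Subgroup G) : Set G) := Subgroup.centralizer_le_normalizer _
  refine ⟨h0, ?_, ⟨hNtop, ?_⟩, ?_, ?_⟩
  · intro y hy
    rw [Subgroup.mem_centralizer_iff]
    intro z hz
    exact hc z hz y hy
  · intro K hK
    by_contra hKtop
    have := h.le_normalizer_of_centralizer_le hZ hab P hP hP1 hKtop (hCN.trans hK.le)
    exact absurd hK (not_lt_of_ge this)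
  · intro M hM hCM
    have hle := h.le_normalizer_of_centralizer_le hZ hab P hP hP1 hM.1 hCM
    by_contra hne
    exact hNtop (hM.2 _ (lt_of_le_of_ne hle hne))
  · intro g hg hdvd
    obtain ⟨x, hx⟩ := exists_prime_orderOf_dvd_card' p hdvd
    have hxo : orderOf (x : G) = p ^ 1 := by
      rw [pow_one]
      exact (Subgroup.orderOf_coe x).trans hx
    have hx1 : (x : G) ≠ 1 := by
      intro h1
      rw [h1, orderOf_one, pow_one] at hxo
      exact hp.out.one_lt.ne hxo
    have hxN := x.2.1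
    have hxM := x.2.2
    have hxP : (x : G) ∈ P := mem_sylow_of_mem_normalizer P hxo hxN
    obtain ⟨n, hnN, hnx⟩ := hxM
    have hnx' : g * n * g⁻¹ = (x : G) := hnx
    have hnp : n ^ (p ^ 1) = 1 := by
      have h2 : (g * n * g⁻¹) ^ (p ^ 1) = 1 := by rw [hnx', ← hxo, pow_orderOf_eq_one]
      rw [conj_pow] at h2
      have h3 := congrArg (fun t => g⁻¹ * t * g) h2
      simpa [mul_assoc] using h3
    obtain ⟨j, hj⟩ := orderOf_eq_prime_pow_of_pow_eq_one hnp
    have hnP : n ∈ P := mem_sylow_of_mem_normalizer P hj hnN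
    have hxgP : (x : G) ∈ g • P := by
      rw [mem_smul_sylow_iff, ← hnx']
      have e : g⁻¹ * (g * n * g⁻¹) * g = n := by group
      rw [e]
      exact hnP
    exact hg (h.mem_normalizer_of_common hZ hab P hP hP1 hx1 hxP hxgP)

end

end Cfsg.Agent.Helper90
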