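import Mathlib
import Cfsg.Prelude.Def_Sporadic
import Cfsg.Prelude.Def_Sporadic_a
import Cfsg.Agent.Lib.Helper7.M11UDefs

/-!
M11U lemma server (helper7, S0420), piece (L5): `|C(z)| = 18` for an element `z` of order 3 in a simple group
of order 7920.  Tools: conjugation action of a subgroup on a stable subset, orbit bound and class formula.
-/

set_option autoImplicit false

namespace Cfsg.Agent.Helper90.M11U

open Subgroup Cfsg.Agent.Helper7.M11U
open scoped Pointwise

section tools

variable {G : Type*} [Group G]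

/-- conjugation action of a subgroup `H` on an `H`-stable subset `X`. -/
@[reducible] def l5Act (H : Subgroup G) (X : Set G) (hX : ∀ h ∈ H, ∀ x ∈ X, h * x * h⁻¹ ∈ X) :
    MulAction ↥H ↥X where
  smul h x := ⟨(h : G) * (x : G) * (h : G)⁻¹, hX h h.2 x x.2⟩
  one_smul x := by
    apply Subtype.ext
    show ((1 : H) : G) * (x : G) * ((1 : H) : G)⁻¹ = x
    simp
  mul_smul g h x := by
    apply Subtype.ext
    show ((g * h : H) : G) * (x : G) * ((g * h : H) : G)⁻¹ =
      (g : G) * ((h : G) * (x : G) * (h : G)⁻¹) * (g : G)⁻¹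
    simp [mul_assoc]

/-- orbit bound: `|H| ≤ |X| * |Stab_H(x)|`. -/
theorem l5_orbit_bound [Finite G] (H : Subgroup G) (X : Set G)
    (hX : ∀ h ∈ H, ∀ x ∈ X, h * x * h⁻¹ ∈ X) (x : X) :
    Nat.card H ≤ Nat.card X * Nat.card {h : H // (h : G) * (x : G) * (h : G)⁻¹ = (x : G)} := by
  let _ := l5Act H X hX
  have hstab : Nat.card (MulAction.stabilizer ↥H x) =
      Nat.card {h : H // (h : G) * (x : G) * (h : G)⁻¹ = (x : G)} := by
    apply Nat.card_congr
    apply Equiv.subtypeEquivRight
    intro h
    rw [MulAction.mem_stabilizer_iff, Subtype.ext_iff]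
    rfl
  rw [← hstab, ← Subgroup.index_mul_card (MulAction.stabilizer ↥H x), MulAction.index_stabilizer]
  apply Nat.mul_le_mul_right
  exact Set.ncard_le_card _

/-- class formula with uniform stabilizers: `|H| ∣ m * |X|`. -/
theorem l5_class [Finite G] (H : Subgroup G) (X : Set G)
    (hX : ∀ h ∈ H, ∀ x ∈ X, h * x * h⁻¹ ∈ X) (m : ℕ)
    (hm : ∀ x : X, Nat.card {h : H // (h : G) * (x : G) * (h : G)⁻¹ = (x : G)} = m) :
    Nat.card H ∣ m * Nat.card X := by
  classical
  let _ := l5Act H X hX
  have hstab : ∀ x : X, Nat.card (MulAction.stabilizer ↥H x) = m := by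
    intro x
    rw [← hm x]
    apply Nat.card_congr
    apply Equiv.subtypeEquivRight
    intro h
    rw [MulAction.mem_stabilizer_iff, Subtype.ext_iff]
    rfl
  let _ : Fintype (MulAction.orbitRel.Quotient ↥H ↥X) := Fintype.ofFinite _
  have hcard : Nat.card X = ∑ ω : MulAction.orbitRel.Quotient ↥H ↥X,
      (MulAction.stabilizer ↥H ω.out).index := by
    rw [Nat.card_congr (MulAction.selfEquivSigmaOrbitsQuotientStabilizer ↥H ↥X), Nat.card_sigma]
    rfl
  rw [hcard, Finset.mul_sum]
  apply Finset.dvd_sum
  intro ω _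
  rw [← hstab ω.out, mul_comm, Subgroup.index_mul_card]

end tools

section L

variable {G : Type*} [Group G] [Finite G]

/-- (L5) `|C(z)| = 18` for `o(z) = 3`. -/
theorem loc_c18 (B : Base G)
    (hcard3 : ∀ R : Sylow 3 G, Nat.card (R : Subgroup G) = 9)
    (hcomm : ∀ R : Sylow 3 G, ∀ x ∈ (R : Subgroup G), ∀ y ∈ (R : Subgroup G), x * y = y * x)
    (hcent : ∀ R : Sylow 3 G, ∀ g : G, g ∈ centralizer ((R : Subgroup G) : Set G) → g ∈ (R : Subgroup G))
    (hti : ∀ R R' : Sylow 3 G, R ≠ R' → ∀ x : G, x ∈ (R : Subgroup G) → x ∈ (R' : Subgroup G) → x = 1) :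
    ∀ z : G, orderOf z = 3 → Nat.card (centralizer ({z} : Set G)) = 18 := by
  have : Fact (Nat.Prime 3) := ⟨Nat.prime_three⟩
  intro z hz3
  have hzcard : Nat.card (zpowers z) = 3 := by rw [Nat.card_zpowers, hz3]
  have hzp : IsPGroup 3 (zpowers z) := IsPGroup.of_card (n := 1) (by rw [hzcard]; norm_num)
  obtain ⟨R, hR⟩ := hzp.exists_le_sylow
  have hzR : z ∈ (R : Subgroup G) := hR (mem_zpowers z)
  have hz1 : z ≠ 1 := by
    intro h
    rw [h, orderOf_one] at hz3
    omega
  -- R ≤ C(z)
  have hRC : (R : Subgroup G) ≤ centralizer ({z} : Set G) := fun r hr =>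
    mem_centralizer_singleton_iff.mpr (hcomm R r hr z hzR)
  -- C(z) ≤ N(R)
  have hCN : centralizer ({z} : Set G) ≤ normalizer ((R : Subgroup G) : Set G) := by
    intro g hg
    have hgz : g * z = z * g := mem_centralizer_singleton_iff.mp hg
    have key : g • R = R := by
      by_contra hne
      have hzg : z ∈ ((g • R : Sylow 3 G) : Subgroup G) := by
        have e : ((g • R : Sylow 3 G) : Subgroup G) = MulAut.conj g • (R : Subgroup G) :=
          Sylow.coe_subgroup_smul
        rw [e, Subgroup.mem_smul_pointwise_iff_exists]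
        refine ⟨z, hzR, ?_⟩
        show g * z * g⁻¹ = z
        rw [hgz]; group
      exact hz1 (hti (g • R) R hne z hzg hzR)
    exact Sylow.smul_eq_iff_mem_normalizer.mp key
  set c := Nat.card (centralizer ({z} : Set G)) with hc
  have hc144 : c ∣ 144 := by
    rw [← B.h144 R]
    exact Subgroup.card_dvd_of_le hCN
  -- cardinalities of the two sets
  have hRn : ((R : Subgroup G) : Set G).ncard = 9 := by
    rw [← Nat.card_coe_set_eq]; exact hcard3 R
  have hY : Nat.card ↥(((R : Subgroup G) : Set G) \ {1}) = 8 := by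
    rw [Nat.card_coe_set_eq, Set.ncard_sdiff (by
      intro x hx
      rw [Set.mem_singleton_iff] at hx
      rw [hx]; exact (R : Subgroup G).one_mem), hRn, Set.ncard_singleton]
  have hX : Nat.card ↥(((R : Subgroup G) : Set G) \ ((zpowers z : Subgroup G) : Set G)) = 6 := by
    have hzn : ((zpowers z : Subgroup G) : Set G).ncard = 3 := by
      rw [← Nat.card_coe_set_eq]; exact hzcard
    rw [Nat.card_coe_set_eq, Set.ncard_sdiff (by
      intro x hx
      exact hR hx), hRn, hzn]
  -- lower bound
  have hlow : 144 ≤ 8 * c := by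
    have hstable : ∀ h ∈ normalizer ((R : Subgroup G) : Set G),
        ∀ x ∈ ((R : Subgroup G) : Set G) \ {1}, h * x * h⁻¹ ∈ ((R : Subgroup G) : Set G) \ {1} := by
      intro h hh x hx
      refine ⟨(mem_normalizer_iff.mp hh x).mp hx.1, ?_⟩
      intro h1
      rw [Set.mem_singleton_iff, conj_eq_one_iff] at h1
      exact hx.2 h1
    have hzY : z ∈ ((R : Subgroup G) : Set G) \ {1} := ⟨hzR, hz1⟩
    have := l5_orbit_bound (normalizer ((R : Subgroup G) : Set G)) _ hstable ⟨z, hzY⟩
    rw [B.h144 R, hY] at this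
    have hst : Nat.card {h : ↥(normalizer ((R : Subgroup G) : Set G)) // (h : G) * z * (h : G)⁻¹ = z} = c := by
      rw [hc]
      refine Nat.card_congr
        ⟨fun h => ⟨(h.1 : G), mem_centralizer_singleton_iff.mpr (by
            have := h.2
            calc (h.1 : G) * z = (h.1 : G) * z * (h.1 : G)⁻¹ * (h.1 : G) := by group
              _ = z * (h.1 : G) := by rw [this])⟩,
         fun g => ⟨⟨(g : G), hCN g.2⟩, by
            have := mem_centralizer_singleton_iff.mp g.2
            show (g : G) * z * (g : G)⁻¹ = z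
            rw [this]; group⟩, ?_, ?_⟩
      · intro h; rfl
      · intro g; rfl
    rw [hst] at this
    exact this
  -- upper bound
  have hup : c ∣ 9 * 6 := by
    have hstable : ∀ h ∈ centralizer ({z} : Set G),
        ∀ x ∈ ((R : Subgroup G) : Set G) \ ((zpowers z : Subgroup G) : Set G),
          h * x * h⁻¹ ∈ ((R : Subgroup G) : Set G) \ ((zpowers z : Subgroup G) : Set G) := by
      intro h hh x hx
      refine ⟨(mem_normalizer_iff.mp (hCN hh) x).mp hx.1, ?_⟩
      intro hmem
      apply hx.2
      obtain ⟨i, hi⟩ := mem_zpowers_iff.mp hmem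
      have hcm : Commute h z := mem_centralizer_singleton_iff.mp hh
      have hcmi : h * z ^ i = z ^ i * h := (hcm.zpow_right i)
      have : x = z ^ i := by
        have e : x = h⁻¹ * (h * x * h⁻¹) * h := by group
        rw [e, ← hi]
        calc h⁻¹ * z ^ i * h = h⁻¹ * (z ^ i * h) := by group
          _ = h⁻¹ * (h * z ^ i) := by rw [hcmi]
          _ = z ^ i := by group
      rw [SetLike.mem_coe, this]
      exact zpow_mem (mem_zpowers z) i
    have := l5_class (centralizer ({z} : Set G)) _ hstable 9 (by
      rintro ⟨x, hxR, hxz⟩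
      rw [← hcard3 R]
      refine Nat.card_congr
        ⟨fun h => ⟨(h.1 : G), ?_⟩, fun r => ⟨⟨(r : G), hRC r.2⟩, ?_⟩, ?_, ?_⟩
      · -- h ∈ R
        obtain ⟨⟨h, hh⟩, hfix⟩ := h
        change h * x * h⁻¹ = x at hfix
        show h ∈ (R : Subgroup G)
        have hhz : h * z = z * h := mem_centralizer_singleton_iff.mp hh
        have hhx : h * x = x * h := by
          calc h * x = h * x * h⁻¹ * h := by group
            _ = x * h := by rw [hfix]
        set K : Subgroup G := (R : Subgroup G) ⊓ centralizer ({h} : Set G) with hK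
        have hzK : z ∈ K := ⟨hzR, mem_centralizer_singleton_iff.mpr hhz.symm⟩
        have hxK : x ∈ K := ⟨hxR, mem_centralizer_singleton_iff.mpr hhx.symm⟩
        have hzle : zpowers z ≤ K := (zpowers_le).mpr hzK
        have hKdvd : Nat.card K ∣ 9 := by
          rw [← hcard3 R]; exact Subgroup.card_dvd_of_le inf_le_left
        have h3dvd : 3 ∣ Nat.card K := by
          rw [← hzcard]; exact Subgroup.card_dvd_of_le hzle
        have hK9 : Nat.card K = 9 := by
          obtain ⟨i, hi, hKi⟩ := (Nat.dvd_prime_pow Nat.prime_three (m := 2)).mp (by norm_num; exact hKdvd)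
          interval_cases i
          · rw [hKi] at h3dvd; norm_num at h3dvd
          · exfalso
            have : zpowers z = K := Subgroup.eq_of_le_of_card_ge hzle (by rw [hzcard, hKi]; norm_num)
            apply hxz
            rw [SetLike.mem_coe, this]; exact hxK
          · rw [hKi]; norm_num
        have hKR : K = (R : Subgroup G) :=
          Subgroup.eq_of_le_of_card_ge inf_le_left (by rw [hK9, hcard3 R])
        apply hcent R
        rw [mem_centralizer_iff]
        intro r hr
        have : r ∈ K := by rw [hKR]; exact hr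
        exact mem_centralizer_singleton_iff.mp this.2
      · show (r : G) * x * (r : G)⁻¹ = x
        rw [hcomm R r r.2 x hxR]; group
      · intro h; rfl
      · intro r; rfl)
    rw [hX] at this
    exact this
  have h18 : c ∣ 18 := by
    have := Nat.dvd_gcd hup hc144
    norm_num at this
    exact this
  have hle : c ≤ 18 := Nat.le_of_dvd (by norm_num) h18
  omega

end L

end Cfsg.Agent.Helper90.M11U
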