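import Mathlib
import Cfsg.Agent.Lib.Helper93.MD0

/-!
MD project (helper93 server, S2140), piece (A3): `SL(V)` fixing `u` is transitive on the nonzero
functionals vanishing at `u` (`n ≥ 3`).  Proof by transvections (no determinants).
-/

set_option autoImplicit false

namespace Cfsg.Agent.Helper90.MD

open Module Cfsg.Agent.Helper93.McL Cfsg.Agent.Helper93.MD

variable {F V : Type*} [Field F] [Fintype F] [AddCommGroup V] [Module F V] [FiniteDimensional F V]

omit [Fintype F] [FiniteDimensional F V] in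
/-- one transvection step: if `ker φ ⊄ ker φ'` then a transvection fixing `u` carries `φ'` to `φ`. -/
theorem a3_step {u : V} {φ φ' : Dual F V} (h : φ u = 0) (h' : φ' u = 0) {a k : V}
    (ha : φ a = 1) (hk : φ k = 0) (hk' : φ' k ≠ 0) :
    ∃ g : ↥(SLV F V), (g : V ≃ₗ[F] V) u = u ∧ ∀ x : V, φ' ((g : V ≃ₗ[F] V) x) = φ x := by
  set w : V := a + ((1 - φ' a) / φ' k) • k with hw
  have hφw : φ w = 1 := by simp [hw, ha, hk]
  have hφ'w : φ' w = 1 := by
    simp only [hw, map_add, map_smul, smul_eq_mul]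
    field_simp
    ring
  have hψ : (φ - φ') w = 0 := by simp [hφw, hφ'w]
  refine ⟨stv w (φ - φ'), ?_, ?_⟩
  · rw [coe_stv, tv_apply hψ]; simp [h, h']
  · intro x
    rw [coe_stv, tv_apply hψ]
    simp [hφ'w]

/-- (A3) dual version: `φ' (g x) = φ x`. -/
theorem exists_sl_fix_dual (hn : 3 ≤ finrank F V) {u : V} (hu : u ≠ 0) {φ φ' : Dual F V}
    (hφ : φ ≠ 0) (hφ' : φ' ≠ 0) (h : φ u = 0) (h' : φ' u = 0) :
    ∃ g : ↥(SLV F V), (g : V ≃ₗ[F] V) u = u ∧ ∀ x : V, φ' ((g : V ≃ₗ[F] V) x) = φ x := by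
  -- a vector with `φ a = 1`
  obtain ⟨a₀, ha₀⟩ : ∃ a₀, φ a₀ ≠ 0 := by
    by_contra hcon
    push Not at hcon
    exact hφ (LinearMap.ext hcon)
  set a : V := (φ a₀)⁻¹ • a₀ with ha_def
  have ha : φ a = 1 := by simp [ha_def, ha₀]
  by_cases hcase : ∃ k, φ k = 0 ∧ φ' k ≠ 0
  · obtain ⟨k, hk, hk'⟩ := hcase
    exact a3_step h h' ha hk hk'
  · push Not at hcase
    -- `φ' a ≠ 0`
    have hφ'a : φ' a ≠ 0 := by
      intro h0
      apply hφ'
      apply LinearMap.ext
      intro x
      have h1 : φ (x - φ x • a) = 0 := by simp [ha]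
      have h2 := hcase _ h1
      simp only [map_sub, map_smul, smul_eq_mul, h0, mul_zero, sub_zero] at h2
      simpa using h2
    -- a vector outside `span {u, a}`
    obtain ⟨z, hz⟩ : ∃ z : V, z ∉ Submodule.span F ({u, a} : Set V) := by
      by_contra hcon
      push Not at hcon
      have htop : Submodule.span F ({u, a} : Set V) = ⊤ := eq_top_iff.mpr (fun x _ => hcon x)
      classical
      have h1 := finrank_span_finset_le_card (R := F) ({u, a} : Finset V)
      have h2 : (({u, a} : Finset V) : Set V) = ({u, a} : Set V) := by simp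
      unfold Set.finrank at h1
      rw [h2, htop, finrank_top] at h1
      have h3 : ({u, a} : Finset V).card ≤ 2 := Finset.card_le_two
      omega
    obtain ⟨f, hfz, hfp⟩ := Submodule.exists_dual_map_eq_bot_of_notMem hz inferInstance
    have hfu : f u = 0 := by
      have : f u ∈ Submodule.map f (Submodule.span F ({u, a} : Set V)) :=
        Submodule.mem_map_of_mem (Submodule.subset_span (by simp))
      rw [hfp] at this
      simpa using this
    have hfa : f a = 0 := by
      have : f a ∈ Submodule.map f (Submodule.span F ({u, a} : Set V)) :=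
        Submodule.mem_map_of_mem (Submodule.subset_span (by simp))
      rw [hfp] at this
      simpa using this
    -- step 1: `φ → f`
    obtain ⟨g₁, hg₁u, hg₁⟩ := a3_step (u := u) (φ := φ) (φ' := f) h hfu ha
      (k := z - φ z • a) (by simp [ha]) (by simp [hfa, hfz])
    -- step 2: `f → φ'`
    obtain ⟨g₂, hg₂u, hg₂⟩ := a3_step (u := u) (φ := f) (φ' := φ') hfu h'
      (a := (f z)⁻¹ • z) (k := a) (by simp [hfz]) hfa hφ'a
    refine ⟨g₂ * g₁, ?_, ?_⟩
    · rw [Subgroup.coe_mul, LinearEquiv.mul_apply, hg₁u, hg₂u]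
    · intro x
      rw [Subgroup.coe_mul, LinearEquiv.mul_apply, hg₂, hg₁]

end Cfsg.Agent.Helper90.MD
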