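import Mathlib
import Cfsg.Agent.Lib.Helper93.MD0
import Cfsg.Agent.Lib.Helper90.MDA3

/-!
MD project (helper93 server, S2140), piece (A5): all nontrivial transvections of `SL(V)` (`n ≥ 3`) have the
same number of fixed points on any finite `SL(V)`-set, since they are conjugate in `SL(V)`.
Contains its own transvection proof of (A1) (`a5_exists_sl_map`).
-/

set_option autoImplicit false

namespace Cfsg.Agent.Helper90.MD

open Module Cfsg.Agent.Helper93.McL Cfsg.Agent.Helper93.MD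

variable {F V : Type*} [Field F] [Fintype F] [AddCommGroup V] [Module F V] [FiniteDimensional F V]

omit [Fintype F] [FiniteDimensional F V] in
/-- one transvection step for vectors. -/
theorem a5_step {u u' : V} (hu : u ≠ 0) (hu' : u' ∉ Submodule.span F ({u} : Set V)) :
    ∃ g : ↥(SLV F V), (g : V ≃ₗ[F] V) u = u' := by
  obtain ⟨α₀, hα₀⟩ : ∃ α₀ : Dual F V, α₀ u ≠ 0 := by
    by_contra hcon
    push Not at hcon
    exact hu ((forall_dual_apply_eq_zero_iff F u).mp hcon)
  obtain ⟨κ, hκu', hκp⟩ := Submodule.exists_dual_map_eq_bot_of_notMem hu' inferInstance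
  have hκu : κ u = 0 := by
    have : κ u ∈ Submodule.map κ (Submodule.span F ({u} : Set V)) :=
      Submodule.mem_map_of_mem (Submodule.subset_span (by simp))
    rw [hκp] at this
    simpa using this
  set α : Dual F V := (α₀ u)⁻¹ • α₀ with hα
  have hαu : α u = 1 := by simp [hα, hα₀]
  set ψ : Dual F V := α + ((1 - α u') / κ u') • κ with hψ
  have hψu : ψ u = 1 := by simp [hψ, hαu, hκu]
  have hψu' : ψ u' = 1 := by
    simp only [hψ, LinearMap.add_apply, LinearMap.smul_apply, smul_eq_mul]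
    field_simp
    ring
  have h0 : ψ (u' - u) = 0 := by simp [hψu, hψu']
  refine ⟨stv (u' - u) ψ, ?_⟩
  rw [coe_stv, tv_apply h0, hψu, one_smul]
  abel

omit [Fintype F] [FiniteDimensional F V] in
/-- (A1), proved with transvections: `SL(V)` is transitive on nonzero vectors (`n ≥ 2`). -/
theorem a5_exists_sl_map (hn : 2 ≤ finrank F V) {u u' : V} (hu : u ≠ 0) (hu' : u' ≠ 0) :
    ∃ g : ↥(SLV F V), (g : V ≃ₗ[F] V) u = u' := by
  by_cases hcase : u' ∈ Submodule.span F ({u} : Set V)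
  · -- go through a third vector
    obtain ⟨z, hz⟩ : ∃ z : V, z ∉ Submodule.span F ({u} : Set V) := by
      by_contra hcon
      push Not at hcon
      have htop : Submodule.span F ({u} : Set V) = ⊤ := eq_top_iff.mpr (fun x _ => hcon x)
      have h1 := finrank_span_singleton (K := F) hu
      rw [htop, finrank_top] at h1
      omega
    obtain ⟨c, rfl⟩ := Submodule.mem_span_singleton.mp hcase
    have hc : c ≠ 0 := by
      intro h0; apply hu'; rw [h0, zero_smul]
    have hz0 : z ≠ 0 := by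
      intro h0; apply hz; rw [h0]; exact Submodule.zero_mem _
    have hcu : c • u ∉ Submodule.span F ({z} : Set V) := by
      intro hmem
      obtain ⟨d, hd⟩ := Submodule.mem_span_singleton.mp hmem
      apply hz
      rw [Submodule.mem_span_singleton]
      have hd0 : d ≠ 0 := by
        intro h0
        rw [h0, zero_smul] at hd
        exact hu' hd.symm
      refine ⟨d⁻¹ * c, ?_⟩
      rw [mul_smul, ← hd, smul_smul, inv_mul_cancel₀ hd0, one_smul]
    obtain ⟨g₁, hg₁⟩ := a5_step hu hz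
    obtain ⟨g₂, hg₂⟩ := a5_step hz0 hcu
    refine ⟨g₂ * g₁, ?_⟩
    rw [Subgroup.coe_mul, LinearEquiv.mul_apply, hg₁, hg₂]
  · exact a5_step hu hcase

omit [Fintype F] [FiniteDimensional F V] in
/-- conjugate elements have the same number of fixed points. -/
theorem a5_fp_conj {Ω : Type*} [MulAction ↥(SLV F V) Ω] (g h : ↥(SLV F V)) :
    fp Ω (g * h * g⁻¹) = fp Ω h := by
  unfold fp
  refine Nat.card_congr ⟨fun ω => ⟨g⁻¹ • (ω : Ω), ?_⟩, fun ω => ⟨g • (ω : Ω), ?_⟩, ?_, ?_⟩
  · have := ω.2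
    rw [MulAction.mem_fixedBy] at this ⊢
    rw [smul_smul]
    have e : h * g⁻¹ = g⁻¹ * (g * h * g⁻¹) := by group
    rw [e, ← smul_smul, this]
  · have := ω.2
    rw [MulAction.mem_fixedBy] at this ⊢
    rw [smul_smul]
    have e : g * h * g⁻¹ * g = g * h := by group
    rw [e, ← smul_smul, this]
  · intro ω
    apply Subtype.ext
    simp
  · intro ω
    apply Subtype.ext
    simp

/-- (A5) all transvections have the same number of fixed points (`n ≥ 3`): conjugate them by (A1), (A3),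
`conj_tv`. -/
theorem fp_stv_eq {Ω : Type*} [Finite Ω] [MulAction ↥(SLV F V) Ω] (hn : 3 ≤ finrank F V)
    {u u' : V} {φ φ' : Dual F V} (hu : u ≠ 0) (hφ : φ ≠ 0) (h : φ u = 0)
    (hu' : u' ≠ 0) (hφ' : φ' ≠ 0) (h' : φ' u' = 0) :
    fp Ω (stv u φ) = fp Ω (stv u' φ') := by
  obtain ⟨g₁, hg₁⟩ := a5_exists_sl_map (F := F) (by omega) hu hu'
  set φ₁ : Dual F V := φ ∘ₗ (((g₁ : V ≃ₗ[F] V).symm : V ≃ₗ[F] V) : V →ₗ[F] V) with hφ₁
  have hφ₁u' : φ₁ u' = 0 := by
    rw [hφ₁, LinearMap.comp_apply, ← hg₁]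
    simp [h]
  have hφ₁0 : φ₁ ≠ 0 := by
    intro h0
    apply hφ
    apply LinearMap.ext
    intro x
    have := congrArg (fun ψ : Dual F V => ψ ((g₁ : V ≃ₗ[F] V) x)) h0
    simpa [hφ₁] using this
  obtain ⟨g₂, hg₂u, hg₂⟩ := exists_sl_fix_dual hn hu' hφ₁0 hφ' hφ₁u' h'
  have e1 : g₁ * stv u φ * g₁⁻¹ = stv u' φ₁ := by
    apply Subtype.ext
    simp only [Subgroup.coe_mul, Subgroup.coe_inv, coe_stv]
    rw [conj_tv, hg₁]
  have hφ' : φ₁ ∘ₗ (((g₂ : V ≃ₗ[F] V).symm : V ≃ₗ[F] V) : V →ₗ[F] V) = φ' := by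
    apply LinearMap.ext
    intro x
    rw [LinearMap.comp_apply, ← hg₂]
    simp
  have e2 : g₂ * stv u' φ₁ * g₂⁻¹ = stv u' φ' := by
    apply Subtype.ext
    simp only [Subgroup.coe_mul, Subgroup.coe_inv, coe_stv]
    rw [conj_tv, hg₂u, hφ']
  rw [← e2, a5_fp_conj, ← e1, a5_fp_conj]

end Cfsg.Agent.Helper90.MD
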