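import Mathlib
import Cfsg.Agent.Lib.Helper73.N4800Base
import Cfsg.Agent.Lib.Helper17.Burnside

/-!
# N4800 mini server (helper73, S0983), piece (BC): Burnside normal `p`-complement inside a subgroup
-/

set_option autoImplicit false

namespace Cfsg.Agent.Helper90.N4800

open Cfsg.Agent.Helper17 Cfsg.Agent.Helper73.N4800

universe u

variable {G : Type u} [Group G] [Finite G]

theorem exists_complement_in {p : ℕ} [Fact p.Prime] (P : Sylow p G) (H : Subgroup G)
    (hPH : (P : Subgroup G) ≤ H)
    (hab : (P : Subgroup G) ≤ Subgroup.centralizer ((P : Subgroup G) : Set G))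
    (hN : H ⊓ Subgroup.normalizer ((P : Subgroup G) : Set G) = (P : Subgroup G)) :
    ∃ L : Subgroup G, L ≤ H ∧ H ≤ Subgroup.normalizer (L : Set G) ∧
      Nat.card L * Nat.card (P : Subgroup G) = Nat.card H := by
  classical
  set P' : Sylow p H := P.subtype hPH with hP'
  have hcoe : (P' : Subgroup H) = (P : Subgroup G).subgroupOf H := Sylow.coe_subtype _ _
  have hmemP' : ∀ y : H, y ∈ (P' : Subgroup H) ↔ (y : G) ∈ (P : Subgroup G) := by
    intro y
    rw [hcoe, Subgroup.mem_subgroupOf]
  have hnc : Subgroup.normalizer ((P' : Subgroup H) : Set H) ≤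
      Subgroup.centralizer ((P' : Subgroup H) : Set H) := by
    intro g hg
    rw [Subgroup.mem_normalizer_iff] at hg
    -- `g.val` normalizes `P`
    have hgN : (g : G) ∈ Subgroup.normalizer ((P : Subgroup G) : Set G) := by
      rw [Subgroup.mem_normalizer_iff]
      intro n
      constructor
      · intro hn
        have h1 := (hg ⟨n, hPH hn⟩).1 ((hmemP' _).2 hn)
        exact (hmemP' _).1 h1
      · intro hn
        have hnH : n ∈ H := by
          have h1 : (g : G) * n * (g : G)⁻¹ ∈ H := hPH hn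
          have h2 : n = (g : G)⁻¹ * ((g : G) * n * (g : G)⁻¹) * (g : G) := by group
          rw [h2]
          exact H.mul_mem (H.mul_mem (H.inv_mem g.2) h1) g.2
        have h1 := (hg ⟨n, hnH⟩).2 ((hmemP' _).2 hn)
        exact (hmemP' _).1 h1
    have hgP : (g : G) ∈ (P : Subgroup G) := by
      rw [← hN]
      exact ⟨g.2, hgN⟩
    rw [Subgroup.mem_centralizer_iff]
    intro y hy
    have hy' : (y : G) ∈ (P : Subgroup G) := (hmemP' y).1 hy
    have h1 := (Subgroup.mem_centralizer_iff.1 (hab hgP)) (y : G) hy'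
    apply Subtype.ext
    exact h1
  obtain ⟨K, hKn, hKc, -⟩ := exists_normal_pcomplement P' hnc
  refine ⟨K.map H.subtype, Subgroup.map_subtype_le K, ?_, ?_⟩
  · intro h hh
    rw [Subgroup.mem_normalizer_iff]
    intro n
    constructor
    · rintro ⟨k, hk, rfl⟩
      exact ⟨⟨h, hh⟩ * k * ⟨h, hh⟩⁻¹, hKn.conj_mem k hk _, rfl⟩
    · rintro ⟨k, hk, hk'⟩
      refine ⟨(⟨h, hh⟩ : H)⁻¹ * k * (⟨h, hh⟩ : H)⁻¹⁻¹, hKn.conj_mem k hk _, ?_⟩
      have h1 : (k : G) = h * n * h⁻¹ := hk'
      show h⁻¹ * (k : G) * h⁻¹⁻¹ = n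
      rw [h1]
      group
  · have h1 : Nat.card (K.map H.subtype) = Nat.card K :=
      Subgroup.card_map_of_injective H.subtype_injective
    have h2 : Nat.card (P' : Subgroup H) = Nat.card (P : Subgroup G) := by
      rw [hcoe]
      exact Nat.card_congr (Subgroup.subgroupOfEquivOfLe hPH).toEquiv
    rw [h1, ← h2]
    exact hKc

end Cfsg.Agent.Helper90.N4800
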