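import Mathlib
import Cfsg.Agent.Lib.Helper73.N4800Base

/-!
# N4800 mini server (helper73, S0983), piece (F6): `false_of_six`
-/

set_option autoImplicit false

namespace Cfsg.Agent.Helper90.N4800

open Cfsg.Agent.Helper17 Cfsg.Agent.Helper73.N4800

universe u

variable {G : Type u} [Group G] [Finite G]

theorem false_of_six (P : Sylow 5 G) (hP : Nat.card (P : Subgroup G) = 25)
    (hC : Subgroup.centralizer ((P : Subgroup G) : Set G) = (P : Subgroup G))
    (L : Subgroup G) (hL : Nat.card L = 6)
    (hPL : (P : Subgroup G) ≤ Subgroup.normalizer (L : Set G)) : False := by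
  classical
  have hp3 : Fact (Nat.Prime 3) := ⟨Nat.prime_three⟩
  have hp2 : Fact (Nat.Prime 2) := ⟨Nat.prime_two⟩
  obtain ⟨x', hx'⟩ := exists_prime_orderOf_dvd_card' (G := L) 3 (by rw [hL]; norm_num)
  obtain ⟨t', ht'⟩ := exists_prime_orderOf_dvd_card' (G := L) 2 (by rw [hL]; norm_num)
  obtain ⟨x, hx⟩ : ∃ x : G, x = (x' : G) := ⟨_, rfl⟩
  obtain ⟨t, ht⟩ : ∃ t : G, t = (t' : G) := ⟨_, rfl⟩
  have hxL : x ∈ L := by rw [hx]; exact x'.2
  have htL : t ∈ L := by rw [ht]; exact t'.2
  have hx3 : orderOf x = 3 := by rw [hx, Subgroup.orderOf_coe]; exact hx'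
  have ht2 : orderOf t = 2 := by rw [ht, Subgroup.orderOf_coe]; exact ht'
  have h1t : (1 : G) ≠ t := by
    intro h
    rw [← h, orderOf_one] at ht2
    omega
  -- the conjugation action of `P`
  set S : Subgroup (ConjAct G) :=
    (P : Subgroup G).map (ConjAct.toConjAct (G := G)).toMonoidHom with hS
  have hScard : Nat.card S = 25 := by
    rw [hS, Subgroup.card_map_of_injective (ConjAct.toConjAct (G := G)).injective, hP]
  have hdvd : (MulAction.orbit S x).ncard ∣ 25 := by
    rw [← MulAction.index_stabilizer, ← hScard]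
    exact Subgroup.index_dvd_card _
  -- description of the orbit
  have horb : ∀ y ∈ MulAction.orbit S x, ∃ g ∈ (P : Subgroup G), y = g * x * g⁻¹ := by
    rintro y ⟨⟨s, g, hg, rfl⟩, rfl⟩
    exact ⟨g, hg, rfl⟩
  have horb' : ∀ g ∈ (P : Subgroup G), g * x * g⁻¹ ∈ MulAction.orbit S x := by
    intro g hg
    exact ⟨⟨ConjAct.toConjAct g, g, hg, rfl⟩, rfl⟩
  have hsub : MulAction.orbit S x ⊆ (L : Set G) \ {1, t} := by
    intro y hy
    obtain ⟨g, hg, rfl⟩ := horb y hy
    have ho : orderOf (g * x * g⁻¹) = 3 := by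
      have := orderOf_injective (MulAut.conj g).toMonoidHom (MulAut.conj g).injective x
      rw [← hx3, ← this]
      rfl
    refine ⟨?_, ?_⟩
    · exact ((Subgroup.mem_normalizer_iff.1 (hPL hg)) x).1 hxL
    · intro h
      rcases h with h | h
      · rw [h, orderOf_one] at ho
        omega
      · rw [Set.mem_singleton_iff] at h
        rw [h, ht2] at ho
        omega
  have hcard4 : ((L : Set G) \ {1, t}).ncard = 4 := by
    have hpair : ({1, t} : Set G) ⊆ (L : Set G) := by
      intro y hy
      rcases hy with h | h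
      · rw [h]; exact L.one_mem
      · rw [Set.mem_singleton_iff] at h
        rw [h]; exact htL
    have hLn : (L : Set G).ncard = 6 := by
      rw [← Nat.card_coe_set_eq]
      exact hL
    rw [Set.ncard_sdiff hpair, Set.ncard_pair h1t, hLn]
  have hle : (MulAction.orbit S x).ncard ≤ 4 := by
    rw [← hcard4]
    exact Set.ncard_le_ncard hsub (Set.toFinite _)
  have hone : (MulAction.orbit S x).ncard = 1 := by
    obtain ⟨n, hn⟩ : ∃ n, n = (MulAction.orbit S x).ncard := ⟨_, rfl⟩
    rw [← hn] at hle hdvd ⊢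
    interval_cases n <;> first | rfl | (exfalso; norm_num at hdvd)
  obtain ⟨a, ha⟩ := Set.ncard_eq_one.1 hone
  have hxa : x = a := by
    have : x ∈ MulAction.orbit S x := MulAction.mem_orbit_self x
    rw [ha] at this
    exact this
  have hxC : x ∈ Subgroup.centralizer ((P : Subgroup G) : Set G) := by
    rw [Subgroup.mem_centralizer_iff]
    intro g hg
    have h1 := horb' g hg
    rw [ha, Set.mem_singleton_iff, ← hxa] at h1
    calc g * x = g * x * g⁻¹ * g := by group
      _ = x * g := by rw [h1]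
  rw [hC] at hxC
  have h3 := Subgroup.orderOf_dvd_natCard (P : Subgroup G) hxC
  rw [hx3, hP] at h3
  norm_num at h3

end Cfsg.Agent.Helper90.N4800
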