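import Mathlib
import Cfsg.Agent.Lib.Helper87.SVKit

/-!
# O175560 (N11704): no simple group of order 11704 = 2^3 * 7 * 11 * 19
(helper24's lemma server for S4274; name + statement verbatim from `tools/o175560_sigs_helper24.lean.txt`)

`n_7 = 22` forces `|C(P7)| = 266`, so `19 ∣ |C(P7)|` and the link gives `7 ∣ |N(P19)| = 152`.
-/

set_option autoImplicit false

namespace Cfsg.Agent.Helper90.O175560

open Nat MulAction Cfsg.Agent.Helper17 Cfsg.Agent.Helper17.Sieve Cfsg.Agent.Helper75.FixKill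
  Cfsg.Agent.Helper87.SV

universe u

set_option maxRecDepth 100000 in
theorem h90_11704_adm19 : ∀ d ∈ List.range (616 + 1), d ∣ 616 → d % 19 = 1 →
    ¬ Bad (19 ^ 1 * 616) 19 1 616 d → d = 77 := by
  decide +kernel

set_option maxRecDepth 100000 in
theorem h90_11704_adm7 : ∀ d ∈ List.range (1672 + 1), d ∣ 1672 → d % 7 = 1 →
    ¬ Bad (7 ^ 1 * 1672) 7 1 1672 d → d = 22 := by
  decide +kernel

/-- no nonabelian simple group of order 11704 -/
theorem noSimple_11704 : NoSimple.{u} 11704 := by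
  intro G _ _ _ hna hn0
  have h19 : Fact (Nat.Prime 19) := ⟨by norm_num⟩
  have h7 : Fact (Nat.Prime 7) := ⟨by norm_num⟩
  have hn19 : Nat.card G = 19 ^ 1 * 616 := by rw [hn0]; norm_num
  have hn7 : Nat.card G = 7 ^ 1 * 1672 := by rw [hn0]; norm_num
  obtain ⟨hP19, hr19, hd19, hm19, hb19, -, -⟩ :=
    h87_data hna 19 616 (by norm_num) hn19 (by norm_num)
  obtain ⟨hP7, hr7, hd7, hm7, hb7, -, he7⟩ :=
    h87_data hna 7 1672 (by norm_num) hn7 (by norm_num)
  have hc19 : Nat.card (Sylow 19 G) = 77 := h90_11704_adm19 _ hr19 hd19 hm19 hb19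
  have hc7 : Nat.card (Sylow 7 G) = 22 := h90_11704_adm7 _ hr7 hd7 hm7 hb7
  obtain ⟨P7⟩ : Nonempty (Sylow 7 G) := inferInstance
  obtain ⟨e7, he7a, he7b, he7c⟩ := he7 P7
  have he7le : e7 ≤ 6 := Nat.le_of_dvd (by norm_num) he7a
  rw [hc7] at he7c
  have h19c : 19 ∣ Nat.card (Subgroup.centralizer ((P7 : Subgroup G) : Set G)) := by
    generalize Nat.card (Subgroup.centralizer ((P7 : Subgroup G) : Set G)) = c at he7c
    interval_cases e7 <;> omega
  have := h87_link hP7 hP19 P7 h19c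
  rw [hn0, hc19] at this
  omega

/-- (N11704) `11704 = 2^3 * 7 * 11 * 19`. -/
theorem no_11704 {G : Type u} [Group G] [Finite G] [IsSimpleGroup G] : Nat.card G ≠ 11704 := by
  intro h
  have hna : ¬ IsMulCommutative G :=
    Cfsg.Agent.Helper17.not_comm_of_not_prime (by rw [h]; norm_num)
  exact noSimple_11704.{u} G hna h

end Cfsg.Agent.Helper90.O175560
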