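import Mathlib
import Cfsg.Prelude.Def_Blocks
import Cfsg.Agent.Lib.Helper55.O2520Defs
import Cfsg.Agent.Lib.Helper17.PrimeTIApp3
import Cfsg.Agent.Lib.Helper17.RationalTI

/-!
# O2520 (DEG6): a simple group of order 2520 with the local data at 7 and 5 and no irreducible
character of degree 4 has an irreducible character of degree 6.
-/

set_option autoImplicit false
set_option linter.style.haveILetI false
set_option linter.unusedSectionVars false

namespace Cfsg.Agent.Helper90.O2520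

open Cfsg Cfsg.Agent.Helper55.O2520
open scoped Classical

universe u

/-- divisors of 2520 congruent to 1 mod 7 with small square -/
theorem h90_plus_case (x : ℕ) (h1 : 1 < x) (hd : x ∣ 2520) (hle : x * x ≤ 2520)
    (h7 : (7 : ℤ) ∣ (x : ℤ) - 1) : x = 8 ∨ x = 15 ∨ x = 36 := by
  have hx50 : x ≤ 50 := by nlinarith
  interval_cases x <;> omega

/-- divisors of 2520 congruent to -1 mod 7 with small square -/
theorem h90_minus_case (x : ℕ) (hd : x ∣ 2520) (hle : x * x ≤ 2520)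
    (h7 : (7 : ℤ) ∣ (x : ℤ) - (-1)) : x = 6 ∨ x = 20 := by
  have hx50 : x ≤ 50 := by nlinarith
  interval_cases x <;> omega

/-- small divisors of 2520 -/
theorem h90_small_div (d : ℕ) (hd : d ∣ 2520) (hle : 2 * (d * d) ≤ 2520) :
    d = 0 ∨ d = 1 ∨ d = 2 ∨ d = 3 ∨ d = 4 ∨ d = 5 ∨ d = 6 ∨ d = 7 ∨ d = 8 ∨ d = 9 ∨ d = 10 ∨ d = 12 ∨
      d = 14 ∨ d = 15 ∨ d = 18 ∨ d = 20 ∨ d = 21 ∨ d = 24 ∨ d = 28 ∨ d = 30 ∨ d = 35 := by
  have hx50 : d ≤ 35 := by nlinarith
  interval_cases d <;> omega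

/-- the arithmetic of the degree equation at `7` -/
theorem h90_arith7 (x y d : ℕ) (ax ay w : ℤ) (hax : ax = 1 ∨ ax = -1) (hay : ay = 1 ∨ ay = -1)
    (hw : w = 1 ∨ w = -1) (hx1 : 1 < x) (hy1 : 1 < y) (hd0 : 0 < d)
    (hxd : x ∣ 2520) (hyd : y ∣ 2520) (hdd : d ∣ 2520)
    (h7x : (7 : ℤ) ∣ (x : ℤ) - ax) (h7y : (7 : ℤ) ∣ (y : ℤ) - ay)
    (heq : 1 + ax * (x : ℤ) + ay * (y : ℤ) + (d : ℤ) * w = 0)
    (hsq : 1 + x ^ 2 + y ^ 2 + 2 * d ^ 2 ≤ 2520) :
    (x = 6 ∨ y = 6) ∨ d = 4 ∨ ((x = 8 ∧ y = 15 ∨ x = 15 ∧ y = 8) ∧ d = 24) := by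
  have hxx : x * x ≤ 2520 := by nlinarith
  have hyy : y * y ≤ 2520 := by nlinarith
  have hdl := h90_small_div d hdd (by nlinarith)
  rcases hax with rfl | rfl <;> rcases hay with rfl | rfl
  · have hX := h90_plus_case x hx1 hxd hxx h7x
    have hY := h90_plus_case y hy1 hyd hyy h7y
    rcases hw with rfl | rfl <;> rcases hX with rfl | rfl | rfl <;> rcases hY with rfl | rfl | rfl <;>
      omega
  · have hX := h90_plus_case x hx1 hxd hxx h7x
    have hY := h90_minus_case y hyd hyy h7y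
    rcases hw with rfl | rfl <;> rcases hX with rfl | rfl | rfl <;> rcases hY with rfl | rfl <;>
      omega
  · have hX := h90_minus_case x hxd hxx h7x
    have hY := h90_plus_case y hy1 hyd hyy h7y
    rcases hw with rfl | rfl <;> rcases hX with rfl | rfl <;> rcases hY with rfl | rfl | rfl <;>
      omega
  · have hX := h90_minus_case x hxd hxx h7x
    have hY := h90_minus_case y hyd hyy h7y
    rcases hw with rfl | rfl <;> rcases hX with rfl | rfl <;> rcases hY with rfl | rfl <;>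
      omega

open Cfsg.Agent.Helper17.PrimeTI in
set_option maxHeartbeats 1000000 in
/-- the structure of the degree equation for a self-centralizing subgroup of order `7` with
normalizer of order `21` in a perfect group -/
theorem h90_struct7 {G : Type u} [Group G] [Fintype G]
    (hperf : commutator G = ⊤) (P : Subgroup G)
    (hP : Nat.card P = 7) (hC : Subgroup.centralizer (P : Set G) = P)
    (hN : Nat.card (Subgroup.normalizer (P : Set G)) = 7 * 3) :
    ∃ (X Y Z : IrrCharacter G) (ax ay w : ℤ),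
      (ax = 1 ∨ ax = -1) ∧ (ay = 1 ∨ ay = -1) ∧ (w = 1 ∨ w = -1) ∧
      1 < charDegree (X : G → ℂ) ∧ 1 < charDegree (Y : G → ℂ) ∧ 0 < charDegree (Z : G → ℂ) ∧
      (7 : ℤ) ∣ (charDegree (X : G → ℂ) : ℤ) - ax ∧ (7 : ℤ) ∣ (charDegree (Y : G → ℂ) : ℤ) - ay ∧
      1 + ax * (charDegree (X : G → ℂ) : ℤ) + ay * (charDegree (Y : G → ℂ) : ℤ) +
        (charDegree (Z : G → ℂ) : ℤ) * w = 0 ∧
      1 + charDegree (X : G → ℂ) ^ 2 + charDegree (Y : G → ℂ) ^ 2 +
        2 * charDegree (Z : G → ℂ) ^ 2 ≤ Nat.card G := by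
  classical
  haveI : Fact (Nat.Prime 7) := ⟨by norm_num⟩
  obtain ⟨w, d, E, a, hEcard, hEdeg, hEne, haE, haK, hcong, hnorm, hdegeq⟩ :=
    prime_degree_equation P 7 3 2 hP hC hN (by norm_num) (by norm_num) (by norm_num)
  set ψ1 : IrrCharacter G := ⟨fun _ => 1, Cfsg.Agent.Helper81.isIrrCharacter_one⟩ with hψ1
  have hψ1E : ψ1 ∉ E := fun h => hEne ψ1 h rfl
  obtain ⟨k, hk, hk1⟩ := exists_ne_one_of_prime_card P hP
  have ha1 : a ψ1 = 1 := by
    have h := haK ψ1 hψ1E k hk hk1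
    have h' : ((1 : ℤ) : ℂ) = ((a ψ1 : ℤ) : ℂ) := by
      rw [← h]; simp [hψ1]
    exact_mod_cast h'.symm
  have hdeg1 : charDegree (ψ1 : G → ℂ) = 1 := charDegree_one
  obtain ⟨Z, hZ⟩ := Finset.card_pos.1 (by omega : 0 < E.card)
  have hdZ : charDegree (Z : G → ℂ) = d := hEdeg Z hZ
  have hdpos : 0 < d := by
    rw [← hdZ]
    exact (Cfsg.Agent.Helper79.irr_one_eq Z).2
  have hsplit1 := Finset.add_sum_erase Finset.univ (fun ψ => (a ψ) ^ 2) (Finset.mem_univ ψ1)
  have hsplit2 := Finset.add_sum_erase Finset.univ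
    (fun ψ => a ψ * (charDegree (ψ : G → ℂ) : ℤ)) (Finset.mem_univ ψ1)
  simp only [ha1, hdeg1] at hsplit1 hsplit2
  have hrest : 0 ≤ ∑ ψ ∈ Finset.univ.erase ψ1, (a ψ) ^ 2 :=
    Finset.sum_nonneg (fun i _ => sq_nonneg _)
  rw [← hsplit1] at hnorm
  rw [← hsplit2] at hdegeq
  push_cast at hnorm hdegeq
  have hw2 : w ^ 2 ≤ 5 := by nlinarith
  have hwle : w ≤ 2 := by nlinarith
  have hwge : -2 ≤ w := by nlinarith
  have hrw : ∑ ψ ∈ Finset.univ.erase ψ1, (a ψ) ^ 2 = 2 ∧ (w = 1 ∨ w = -1) := by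
    interval_cases w <;> norm_num at hnorm ⊢ <;> omega
  obtain ⟨h2, hw⟩ := hrw
  obtain ⟨X, hX, haX, hrestX⟩ := peel (Finset.univ.erase ψ1) a 1 (by norm_num)
    (by rw [h2]; norm_num)
  obtain ⟨Y, hY, haY, hrestY⟩ := peel ((Finset.univ.erase ψ1).erase X) a 0 (by norm_num)
    (by rw [hrestX]; norm_num)
  have hXne : X ≠ ψ1 := (Finset.mem_erase.1 hX).1
  have hYne : Y ≠ ψ1 := (Finset.mem_erase.1 (Finset.mem_erase.1 hY).2).1
  have hYX : Y ≠ X := (Finset.mem_erase.1 hY).1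
  have hz := all_zero _ a (by exact_mod_cast hrestY)
  have hsplit3 := Finset.add_sum_erase (Finset.univ.erase ψ1)
    (fun ψ => a ψ * (charDegree (ψ : G → ℂ) : ℤ)) hX
  have hsplit4 := Finset.add_sum_erase ((Finset.univ.erase ψ1).erase X)
    (fun ψ => a ψ * (charDegree (ψ : G → ℂ) : ℤ)) hY
  have hs0 : ∑ ψ ∈ ((Finset.univ.erase ψ1).erase X).erase Y,
      a ψ * (charDegree (ψ : G → ℂ) : ℤ) = 0 :=
    Finset.sum_eq_zero (fun ψ hψ => by rw [hz ψ hψ, zero_mul])
  rw [hs0, add_zero] at hsplit4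
  rw [← hsplit4] at hsplit3
  rw [← hsplit3] at hdegeq
  have hnotE : ∀ V : IrrCharacter G, (a V = 1 ∨ a V = -1) → V ∉ E := by
    intro V haV h
    have := haE V h
    rcases haV with h' | h' <;> rw [h'] at this <;> norm_num at this
  have hXE := hnotE X haX
  have hYE := hnotE Y haY
  have hdeg_gt : ∀ V : IrrCharacter G, V ≠ ψ1 → 1 < charDegree (V : G → ℂ) := by
    intro V hV
    have hpos : 0 < charDegree (V : G → ℂ) := (Cfsg.Agent.Helper79.irr_one_eq V).2
    have hne1 : charDegree (V : G → ℂ) ≠ 1 := by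
      intro h
      apply hV
      apply Subtype.ext
      exact linear_trivial_of_perfect hperf V h
    omega
  have hcX := hcong X hXE
  have hcY := hcong Y hYE
  refine ⟨X, Y, Z, a X, a Y, w, haX, haY, hw, hdeg_gt X hXne, hdeg_gt Y hYne, by rw [hdZ]; exact hdpos,
    by exact_mod_cast hcX, by exact_mod_cast hcY, ?_, ?_⟩
  · rw [hdZ]; linarith
  · -- sum of squares
    have hsum := Cfsg.Agent.Helper79.sum_sq_degree_nat (G := G)
    rw [← hsum]
    have hsub : ∑ ψ ∈ insert ψ1 (insert X (insert Y E)), (charDegree (ψ : G → ℂ)) ^ 2 ≤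
        ∑ ψ : IrrCharacter G, (charDegree (ψ : G → ℂ)) ^ 2 :=
      Finset.sum_le_sum_of_subset (Finset.subset_univ _)
    have hE : ∑ ψ ∈ E, (charDegree (ψ : G → ℂ)) ^ 2 = 2 * d ^ 2 := by
      rw [Finset.sum_congr rfl (fun ψ h => by rw [hEdeg ψ h]), Finset.sum_const, hEcard, smul_eq_mul]
    rw [Finset.sum_insert, Finset.sum_insert, Finset.sum_insert hYE, hE, hdeg1] at hsub
    · rw [hdZ]; linarith
    · simp only [Finset.mem_insert, not_or]
      exact ⟨fun h => hYX h.symm, hXE⟩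
    · simp only [Finset.mem_insert, not_or]
      exact ⟨fun h => hXne h.symm, fun h => hYne h.symm, hψ1E⟩

/-- a square of an integer that is not divisible by `5` is at least `1`; if it is `3` mod `5`,
at least `4` -/
theorem h90_sq_ge_one (m : ℤ) (c : ℤ) (hc : ¬ (5 : ℤ) ∣ c) (h : (5 : ℤ) ∣ c - m) : 1 ≤ m ^ 2 := by
  have hm : m ≠ 0 := by
    rintro rfl
    apply hc
    simpa using h
  have : 0 < m ^ 2 := by positivity
  omega

theorem h90_sq_ge_four (m : ℤ) (h : (5 : ℤ) ∣ 8 - m) : 4 ≤ m ^ 2 := by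
  have hm : m ≤ -2 ∨ 2 ≤ m := by omega
  rcases hm with hm | hm <;> nlinarith

open Cfsg.Agent.Helper17.PrimeTI in
set_option maxHeartbeats 1000000 in
/-- (DEG6) -/
theorem exists_deg6 {G : Type u} [Group G] [Fintype G] [IsSimpleGroup G] (hG : Nat.card G = 2520)
    (Q7 : Sylow 7 G) (hN7 : Nat.card (Subgroup.normalizer ((Q7 : Subgroup G) : Set G)) = 21)
    (hC7 : Subgroup.centralizer ((Q7 : Subgroup G) : Set G) = (Q7 : Subgroup G))
    (Q5 : Sylow 5 G) (hN5 : Nat.card (Subgroup.normalizer ((Q5 : Subgroup G) : Set G)) = 20)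
    (hC5 : Subgroup.centralizer ((Q5 : Subgroup G) : Set G) = (Q5 : Subgroup G))
    (hno4 : ∀ ψ : IrrCharacter G, charDegree (ψ : G → ℂ) ≠ 4) :
    ∃ ψ : IrrCharacter G, charDegree (ψ : G → ℂ) = 6 := by
  haveI h7 : Fact (Nat.Prime 7) := ⟨by norm_num⟩
  haveI h5 : Fact (Nat.Prime 5) := ⟨by norm_num⟩
  have hperf : commutator G = ⊤ := perfect_of_simple (by rw [hG]; norm_num)
  have hP7 : Nat.card (Q7 : Subgroup G) = 7 := by
    have := Cfsg.Agent.Helper17.sylow_card_eq Q7 (k := 1) (m := 360) (by rw [hG]; norm_num) (by norm_num)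
    simpa using this
  obtain ⟨X, Y, Z, ax, ay, w, hax, hay, hw, hx1, hy1, hd0, h7x, h7y, heq, hsq⟩ :=
    h90_struct7 hperf (Q7 : Subgroup G) hP7 hC7 (by rw [hN7])
  rw [hG] at hsq
  have hxd : charDegree (X : G → ℂ) ∣ 2520 := hG ▸ Cfsg.Agent.Helper79.irr_degree_dvd_card X
  have hyd : charDegree (Y : G → ℂ) ∣ 2520 := hG ▸ Cfsg.Agent.Helper79.irr_degree_dvd_card Y
  have hdd : charDegree (Z : G → ℂ) ∣ 2520 := hG ▸ Cfsg.Agent.Helper79.irr_degree_dvd_card Z
  have key := h90_arith7 _ _ _ ax ay w hax hay hw hx1 hy1 hd0 hxd hyd hdd h7x h7y heq hsq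
  rcases key with (hx | hy) | hd4 | ⟨hxy, hd24⟩
  · exact ⟨X, hx⟩
  · exact ⟨Y, hy⟩
  · exact absurd hd4 (hno4 Z)
  · exfalso
    have hP5 : Nat.card (Q5 : Subgroup G) = 5 := by
      have := Cfsg.Agent.Helper17.sylow_card_eq Q5 (k := 1) (m := 504) (by rw [hG]; norm_num) (by norm_num)
      simpa using this
    obtain ⟨a', _, hcong', hsum, _⟩ :=
      Cfsg.Agent.Helper17.RationalTI.rational_degree_equation hperf Q5 hP5 hC5 (by rw [hN5])
    obtain ⟨W, hW⟩ : ∃ W : IrrCharacter G, charDegree (W : G → ℂ) = 8 := by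
      rcases hxy with ⟨h, _⟩ | ⟨_, h⟩
      · exact ⟨X, h⟩
      · exact ⟨Y, h⟩
    set ψ1 : IrrCharacter G := ⟨fun _ => 1, Cfsg.Agent.Helper81.isIrrCharacter_one⟩ with hψ1
    have hdeg1 : charDegree (ψ1 : G → ℂ) = 1 := charDegree_one
    have h1 : 1 ≤ (a' ψ1) ^ 2 := by
      have := hcong' ψ1
      rw [hdeg1] at this
      exact h90_sq_ge_one _ _ (by norm_num) this
    have h2 : 4 ≤ (a' W) ^ 2 := by
      have := hcong' W
      rw [hW] at this
      exact h90_sq_ge_four _ this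
    have h3 : 1 ≤ (a' Z) ^ 2 := by
      have := hcong' Z
      rw [hd24] at this
      exact h90_sq_ge_one _ _ (by norm_num) this
    have hne1 : ψ1 ≠ W := by
      intro h
      rw [← h, hdeg1] at hW
      omega
    have hne2 : ψ1 ≠ Z := by
      intro h
      rw [← h, hdeg1] at hd24
      omega
    have hne3 : W ≠ Z := by
      intro h
      rw [← h, hW] at hd24
      omega
    have hsub : ∑ ψ ∈ ({ψ1, W, Z} : Finset (IrrCharacter G)), (a' ψ) ^ 2 ≤
        ∑ ψ : IrrCharacter G, (a' ψ) ^ 2 :=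
      Finset.sum_le_univ_sum_of_nonneg (fun _ => sq_nonneg _)
    rw [Finset.sum_insert, Finset.sum_insert, Finset.sum_singleton, hsum] at hsub
    · push_cast at hsub
      linarith
    · simpa using hne3
    · simp only [Finset.mem_insert, Finset.mem_singleton, not_or]
      exact ⟨hne1, hne2⟩

end Cfsg.Agent.Helper90.O2520
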