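import Mathlib

/-!
# O5760X server (helper50, S0980), piece (A5): `a_conj`
-/

set_option autoImplicit false

namespace Cfsg.Agent.Helper90.O5760X

universe u

open scoped Classical in
theorem a_conj {G : Type u} [Group G] [Fintype G] (y t : G)
    (hy : orderOf y = 5) (hCy : Nat.card (Subgroup.centralizer ({y} : Set G)) = 5)
    (ht : orderOf t = 2) (hty : t * y * t⁻¹ = y⁻¹) (u : G) (hu : orderOf u = 2)
    (hpos : 0 < (Finset.univ.filter (fun ab : G × G =>
        ab.1 * u * ab.1⁻¹ * (ab.2 * u * ab.2⁻¹) * y⁻¹ = 1)).card) : IsConj t u := by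
  obtain ⟨⟨a, b⟩, hab⟩ := Finset.card_pos.1 hpos
  have hab' : a * u * a⁻¹ * (b * u * b⁻¹) * y⁻¹ = 1 := (Finset.mem_filter.1 hab).2
  have hu2 : u * u = 1 := by
    have := pow_orderOf_eq_one u
    rwa [hu, pow_two] at this
  have ht2 : t * t = 1 := by
    have := pow_orderOf_eq_one t
    rwa [ht, pow_two] at this
  have hy5 : y ^ 5 = 1 := by
    have := pow_orderOf_eq_one y
    rwa [hy] at this
  have htinv : t⁻¹ = t := inv_eq_of_mul_eq_one_left ht2
  obtain ⟨u₁, hu₁⟩ : ∃ u₁, u₁ = a * u * a⁻¹ := ⟨_, rfl⟩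
  obtain ⟨u₂, hu₂⟩ : ∃ u₂, u₂ = b * u * b⁻¹ := ⟨_, rfl⟩
  rw [← hu₁, ← hu₂] at hab'
  have h11 : u₁ * u₁ = 1 := by
    rw [hu₁]
    calc a * u * a⁻¹ * (a * u * a⁻¹) = a * (u * u) * a⁻¹ := by group
      _ = 1 := by rw [hu2]; group
  have h22 : u₂ * u₂ = 1 := by
    rw [hu₂]
    calc b * u * b⁻¹ * (b * u * b⁻¹) = b * (u * u) * b⁻¹ := by group
      _ = 1 := by rw [hu2]; group
  have h12 : u₁ * u₂ = y := mul_inv_eq_one.1 hab'
  have hu1inv : u₁⁻¹ = u₁ := inv_eq_of_mul_eq_one_left h11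
  have hu2inv : u₂⁻¹ = u₂ := inv_eq_of_mul_eq_one_left h22
  have hinvy : u₁ * y * u₁⁻¹ = y⁻¹ := by
    rw [← h12, mul_inv_rev, hu1inv, hu2inv]
    calc u₁ * (u₁ * u₂) * u₁ = (u₁ * u₁) * u₂ * u₁ := by group
      _ = u₂ * u₁ := by rw [h11, one_mul]
  -- `c = t⁻¹ u₁` centralises `y`
  have hc : (t⁻¹ * u₁) * y = y * (t⁻¹ * u₁) := by
    have h1 : u₁ * y = y⁻¹ * u₁ := by
      have := hinvy
      rw [mul_inv_eq_iff_eq_mul] at this
      exact this
    have h2 : t * y = y⁻¹ * t := by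
      have := hty
      rw [mul_inv_eq_iff_eq_mul] at this
      exact this
    have h3 : t * y⁻¹ = y * t := by
      have : y * (t * y) * y⁻¹ = y * (y⁻¹ * t) * y⁻¹ := by rw [h2]
      have e1 : y * (t * y) * y⁻¹ = y * t := by group
      have e2 : y * (y⁻¹ * t) * y⁻¹ = t * y⁻¹ := by group
      rw [e1, e2] at this
      exact this.symm
    rw [htinv]
    calc t * u₁ * y = t * (u₁ * y) := by group
      _ = t * (y⁻¹ * u₁) := by rw [h1]
      _ = (t * y⁻¹) * u₁ := by group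
      _ = (y * t) * u₁ := by rw [h3]
      _ = y * (t * u₁) := by group
  have hcmem : t⁻¹ * u₁ ∈ Subgroup.centralizer ({y} : Set G) := by
    rw [Subgroup.mem_centralizer_iff]
    intro h hh
    rw [Set.mem_singleton_iff] at hh
    subst hh
    exact hc.symm
  have hzle : Subgroup.zpowers y ≤ Subgroup.centralizer ({y} : Set G) := by
    rw [Subgroup.zpowers_le, Subgroup.mem_centralizer_iff]
    intro h hh
    rw [Set.mem_singleton_iff] at hh
    subst hh
    rfl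
  have hzeq : Subgroup.zpowers y = Subgroup.centralizer ({y} : Set G) := by
    apply Subgroup.eq_of_le_of_card_ge hzle
    rw [hCy, Nat.card_zpowers, hy]
  rw [← hzeq] at hcmem
  obtain ⟨i, hi⟩ := Subgroup.mem_zpowers_iff.1 hcmem
  have hu1 : u₁ = t * y ^ i := by
    rw [hi, htinv, ← mul_assoc, ht2, one_mul]
  -- conjugation of powers of `y` by `t`
  have hconj : ∀ k : ℤ, t * y ^ k * t⁻¹ = y ^ (-k) := by
    intro k
    rw [← conj_zpow, hty, inv_zpow, zpow_neg]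
  have hyt : ∀ k : ℤ, y ^ k * t = t * y ^ (-k) := by
    intro k
    have := hconj (-k)
    rw [neg_neg, mul_inv_eq_iff_eq_mul] at this
    exact this.symm
  have hy5z : ∀ k : ℤ, y ^ (5 * k) = 1 := by
    intro k
    rw [zpow_mul]
    have : y ^ (5 : ℤ) = 1 := by
      have := hy5
      rw [← zpow_natCast] at this
      exact_mod_cast this
    rw [this, one_zpow]
  have hkey : y ^ (2 * i) * t * (y ^ (2 * i))⁻¹ = u₁ := by
    rw [hu1, hyt, mul_assoc, ← zpow_neg, ← zpow_add]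
    have : -(2 * i) + -(2 * i) = i + 5 * (-i) := by ring
    rw [this, zpow_add, hy5z, mul_one]
  rw [isConj_iff]
  refine ⟨a⁻¹ * y ^ (2 * i), ?_⟩
  have : a⁻¹ * y ^ (2 * i) * t * (a⁻¹ * y ^ (2 * i))⁻¹ =
      a⁻¹ * (y ^ (2 * i) * t * (y ^ (2 * i))⁻¹) * a := by group
  rw [this, hkey, hu₁]
  group

end Cfsg.Agent.Helper90.O5760X
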