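import Mathlib
import Cfsg.Prelude.Def_Spor_Fi22
import Cfsg.Prelude.Def_Classical
import Cfsg.Agent.Lib.Helper84.O7Defs
import Cfsg.Agent.Lib.Lead.OmegaCenter
import Cfsg.Agent.Lib.Helper43.OrthOdd

/-!
# O7F (CEN) for helper84 (S1686): the centre of `Ω(7,3)` is trivial.

Extracted from the proof of `Cfsg.Agent.Lead.POmegaCard.card_POmega_odd` (the two auxiliary lemmas
are restated here so that the heavy closure of `POmegaCard` is not imported).
-/

set_option autoImplicit false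
set_option linter.unusedSectionVars false
set_option linter.unusedSimpArgs false

namespace Cfsg.Agent.Helper90.O7F

open Cfsg.Agent.Helper84.O7
open Cfsg.Spor.Fi22 (Gen)
open Matrix QuadraticMap Cfsg.Agent.Helper43 Cfsg.Agent.Lead.OmegaCenter

section aux

variable {F : Type*} [Field F] [Fintype F]

theorem cen_hspan_odd (m : ℕ) : ∀ x : Unit ⊕ (Fin m ⊕ Fin m),
    (∃ i, (Pi.single x 1 : Unit ⊕ (Fin m ⊕ Fin m) → F) =
      (fun i => (Pi.single (Sum.inr (Sum.inl i)) 1 : Unit ⊕ (Fin m ⊕ Fin m) → F)) i) ∨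
    (∃ i, (Pi.single x 1 : Unit ⊕ (Fin m ⊕ Fin m) → F) =
      (fun i => (Pi.single (Sum.inr (Sum.inr i)) 1 : Unit ⊕ (Fin m ⊕ Fin m) → F)) i) ∨
    ((∀ i, polar (⇑(stdOdd F m))
        ((fun i => (Pi.single (Sum.inr (Sum.inl i)) 1 : Unit ⊕ (Fin m ⊕ Fin m) → F)) i)
        (Pi.single x 1) = 0) ∧
      (∀ i, polar (⇑(stdOdd F m))
        ((fun i => (Pi.single (Sum.inr (Sum.inr i)) 1 : Unit ⊕ (Fin m ⊕ Fin m) → F)) i)
        (Pi.single x 1) = 0)) := by
  intro x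
  rcases x with u | i | i
  · refine Or.inr (Or.inr ⟨fun i => ?_, fun i => ?_⟩)
    · rw [polar_comm]; exact stdOdd_polar_zero_e F m i
    · rw [polar_comm]; exact stdOdd_polar_zero_f F m i
  · exact Or.inl ⟨i, rfl⟩
  · exact Or.inr (Or.inl ⟨i, rfl⟩)

/-- `-1` is not in `Ω` in odd dimension and odd characteristic (determinant). -/
theorem cen_neg_one_not_mem_omega_odd (h2 : (2 : F) ≠ 0) (m : ℕ) :
    ¬ ∃ g : ↥(Cfsg.isometryGroup F ⇑(stdOdd F m)), g ∈ Cfsg.Omega F ⇑(stdOdd F m) ∧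
      ((g : Matrix.GeneralLinearGroup (Unit ⊕ (Fin m ⊕ Fin m)) F) :
        Matrix (Unit ⊕ (Fin m ⊕ Fin m)) (Unit ⊕ (Fin m ⊕ Fin m)) F) = -1 := by
  rintro ⟨g, hg, hgm⟩
  let dh : ↥(Cfsg.isometryGroup F ⇑(stdOdd F m)) →* Fˣ :=
    Matrix.GeneralLinearGroup.det.comp (Subgroup.subtype _)
  have hker : g ∈ dh.ker := Abelianization.commutator_subset_ker dh hg
  have h1 : dh g = 1 := MonoidHom.mem_ker.1 hker
  have h3 : ((dh g : Fˣ) : F) = ((g : Matrix.GeneralLinearGroup (Unit ⊕ (Fin m ⊕ Fin m)) F) :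
        Matrix (Unit ⊕ (Fin m ⊕ Fin m)) (Unit ⊕ (Fin m ⊕ Fin m)) F).det := rfl
  rw [h1, hgm, Matrix.det_neg, Matrix.det_one] at h3
  have hcard : Fintype.card (Unit ⊕ (Fin m ⊕ Fin m)) = 2 * m + 1 := by
    simp; ring
  rw [hcard, pow_succ, pow_mul] at h3
  simp at h3
  apply h2
  linear_combination h3

end aux

/-- (CEN) [S-M] the centre of `Ω(7,3)` is trivial. -/
theorem card_center_omega7 : Nat.card (Subgroup.center (Cfsg.Omega (ZMod 3) Q)) = 1 := by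
  have h2 : (2 : ZMod 3) ≠ 0 := by decide
  have hcen := (card_center_omega (stdOdd (ZMod 3) 3) h2 (stdOdd_isHypFamily (ZMod 3) 3)
    (le_refl 3) (cen_hspan_odd 3)).2 (cen_neg_one_not_mem_omega_odd h2 3)
  rw [coe_stdOdd] at hcen
  exact hcen

end Cfsg.Agent.Helper90.O7F
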