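import Mathlib
import Cfsg.Prelude.Def_FusionSystem
import Cfsg.Prelude.Def_KGroupFacts
import Cfsg.Agent.Lib.Helper87.Psu3Defs
import Cfsg.Agent.Lib.Helper8.Psl3N5

/-!
# PSU3F lemma server (helper87, S5319): piece (N5G) `conj_M0_of_mem_Eu`
A conjugate of `M0` inside the torus `Eu` is `M0^{±1}` (any field with `2 ≠ 0`).
Same computation as helper8's PSL3F (N5), with the weaker hypothesis.
-/

set_option autoImplicit false

namespace Cfsg.Agent.Helper90.Psu3

open Matrix Cfsg Cfsg.Agent.Helper87.Psl3 Cfsg.Agent.Helper87.Psu3 Cfsg.Agent.Helper8.Psl3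

variable {K : Type*} [Field K] {q : ℕ}

local notation "SL3" => Matrix.SpecialLinearGroup (Fin 3) K
local notation "GL2" => GL (Fin 2) K

theorem conj_M0_of_mem_Eu (h2 : (2 : K) ≠ 0) (X : GL2) (h : X * M0 * X⁻¹ ∈ (Eu : Subgroup GL2)) :
    X * M0 * X⁻¹ = M0 ∨ X * M0 * X⁻¹ = M0⁻¹ := by
  obtain ⟨a, b, hab⟩ := (mem_Eu_iff _).1 h
  have hsqc : (M0 * M0 : GL2) * X⁻¹ = X⁻¹ * (M0 * M0) :=
    h8_central_of_rot_zero h8_M0_sq_val X⁻¹
  have hsq : (X * M0 * X⁻¹) * (X * M0 * X⁻¹) = M0 * M0 := by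
    have : (X * M0 * X⁻¹) * (X * M0 * X⁻¹) = X * ((M0 * M0) * X⁻¹) := by group
    rw [this, hsqc]; group
  have hv : (((X * M0 * X⁻¹) * (X * M0 * X⁻¹) : GL2) : Matrix (Fin 2) (Fin 2) K) =
      ((M0 * M0 : GL2) : Matrix (Fin 2) (Fin 2) K) := by rw [hsq]
  rw [Units.val_mul, hab, h8_M0_sq_val, rot_mul] at hv
  obtain ⟨e1, e2⟩ := h8_rot_inj hv
  have hab0 : a * b = 0 := by
    have : (2 : K) * (a * b) = 0 := by linear_combination e2
    rcases mul_eq_zero.1 this with h' | h'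
    · exact absurd h' h2
    · exact h'
  rcases mul_eq_zero.1 hab0 with ha | hb
  · subst ha
    have hb2 : (b - 1) * (b + 1) = 0 := by linear_combination -e1
    rcases mul_eq_zero.1 hb2 with h' | h'
    · left
      apply Units.ext
      rw [hab, M0_val]
      have : b = 1 := by linear_combination h'
      rw [this]
    · right
      apply Units.ext
      rw [hab, h8_M0_inv_val]
      have : b = -1 := by linear_combination h'
      rw [this]
  · exfalso
    subst hb
    have hc : (X * M0 * X⁻¹) * X = X * (X * M0 * X⁻¹) := h8_central_of_rot_zero hab X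
    have hM : (M0 : GL2) = X * M0 * X⁻¹ := by
      have h1 : (X * M0 * X⁻¹) * X = X * M0 := by group
      rw [h1] at hc
      exact mul_left_cancel hc
    have hv2 : ((M0 : GL2) : Matrix (Fin 2) (Fin 2) K) =
        ((X * M0 * X⁻¹ : GL2) : Matrix (Fin 2) (Fin 2) K) := by rw [← hM]
    rw [hab, M0_val] at hv2
    obtain ⟨_, e4⟩ := h8_rot_inj hv2
    exact one_ne_zero e4

end Cfsg.Agent.Helper90.Psu3
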