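import Mathlib

/-!
# REE server (helper36; S1069, S1091, S1073), piece (CNT): `card_rank_one`
-/

set_option autoImplicit false

namespace Cfsg.Agent.Helper90.REE

universe u

theorem card_rank_one {M : Type u} [Group M] (T B U : Subgroup M) [Finite ↥T] (hBT : B ≤ T) (hUT : U ≤ T)
    (n0 : M) (hn0T : n0 ∈ T)
    (hG : ∀ g ∈ T, g ∈ B ∨ ∃ b ∈ B, ∃ u ∈ U, g = b * n0 * u)
    (hdisj : ∀ b ∈ B, ∀ u ∈ U, b * n0 * u ∉ B)
    (hinj : ∀ u ∈ U, n0 * u * n0⁻¹ ∈ B → u = 1) :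
    Nat.card ↥T = Nat.card ↥B * (1 + Nat.card ↥U) := by
  have : Finite ↥B :=
    Finite.of_injective (Subgroup.inclusion hBT) (Subgroup.inclusion_injective hBT)
  have : Finite ↥U :=
    Finite.of_injective (Subgroup.inclusion hUT) (Subgroup.inclusion_injective hUT)
  let f : ↥B ⊕ (↥B × ↥U) → ↥T := Sum.elim (fun b => ⟨b.1, hBT b.2⟩)
    (fun p => ⟨p.1.1 * n0 * p.2.1, T.mul_mem (T.mul_mem (hBT p.1.2) hn0T) (hUT p.2.2)⟩)
  have hf : Function.Bijective f := by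
    constructor
    · rintro (b | ⟨b, u⟩) (b' | ⟨b', u'⟩) heq
      · have h1 : b.1 = b'.1 := congrArg (fun x : ↥T => x.1) heq
        exact congrArg Sum.inl (Subtype.ext h1)
      · exfalso
        have h1 : b.1 = b'.1 * n0 * u'.1 := congrArg (fun x : ↥T => x.1) heq
        exact hdisj b'.1 b'.2 u'.1 u'.2 (h1 ▸ b.2)
      · exfalso
        have h1 : b.1 * n0 * u.1 = b'.1 := congrArg (fun x : ↥T => x.1) heq
        exact hdisj b.1 b.2 u.1 u.2 (h1 ▸ b'.2)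
      · have e : b.1 * n0 * u.1 = b'.1 * n0 * u'.1 := congrArg (fun x : ↥T => x.1) heq
        have h1 : n0 * (u.1 * u'.1⁻¹) * n0⁻¹ = b.1⁻¹ * b'.1 := by
          have h0 : n0 * u.1 = b.1⁻¹ * (b'.1 * n0 * u'.1) := by rw [← e]; group
          calc n0 * (u.1 * u'.1⁻¹) * n0⁻¹ = (n0 * u.1) * u'.1⁻¹ * n0⁻¹ := by group
            _ = b.1⁻¹ * (b'.1 * n0 * u'.1) * u'.1⁻¹ * n0⁻¹ := by rw [h0]
            _ = b.1⁻¹ * b'.1 := by group
        have h2 : u.1 * u'.1⁻¹ = 1 :=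
          hinj _ (U.mul_mem u.2 (U.inv_mem u'.2)) (h1 ▸ B.mul_mem (B.inv_mem b.2) b'.2)
        have hu : u = u' := Subtype.ext (mul_inv_eq_one.1 h2)
        subst hu
        have hb : b = b' := Subtype.ext (mul_right_cancel (mul_right_cancel e))
        subst hb
        rfl
    · rintro ⟨g, hg⟩
      rcases hG g hg with hb | ⟨b, hb, u, hu, rfl⟩
      · exact ⟨Sum.inl ⟨g, hb⟩, rfl⟩
      · exact ⟨Sum.inr (⟨b, hb⟩, ⟨u, hu⟩), rfl⟩
  rw [← Nat.card_congr (Equiv.ofBijective f hf), Nat.card_sum, Nat.card_prod]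
  ring

end Cfsg.Agent.Helper90.REE
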