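import Mathlib

/-!
# REE server (helper36; S1069, S1091, S1073), piece (SEMI): `card_semidirect`
-/

set_option autoImplicit false

namespace Cfsg.Agent.Helper90.REE

universe u

theorem card_semidirect {M : Type u} [Group M] (B U H : Subgroup M) [Finite ↥B] (hUB : U ≤ B) (hHB : H ≤ B)
    (hdec : ∀ b ∈ B, ∃ u ∈ U, ∃ h ∈ H, b = u * h) (hUH : ∀ x ∈ U, x ∈ H → x = 1) :
    Nat.card ↥B = Nat.card ↥U * Nat.card ↥H := by
  rw [← Nat.card_prod]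
  symm
  apply Nat.card_congr
  refine Equiv.ofBijective
    (fun p : ↥U × ↥H => (⟨p.1.1 * p.2.1, B.mul_mem (hUB p.1.2) (hHB p.2.2)⟩ : ↥B)) ⟨?_, ?_⟩
  · rintro ⟨⟨u, hu⟩, ⟨h, hh⟩⟩ ⟨⟨u', hu'⟩, ⟨h', hh'⟩⟩ heq
    have e : u * h = u' * h' := congrArg Subtype.val heq
    have h1 : u'⁻¹ * u = h' * h⁻¹ := by
      have : u = u' * h' * h⁻¹ := by rw [← e]; group
      rw [this]; group
    have h2 : u'⁻¹ * u = 1 :=
      hUH _ (U.mul_mem (U.inv_mem hu') hu) (h1 ▸ H.mul_mem hh' (H.inv_mem hh))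
    have hu_eq : u' = u := inv_mul_eq_one.1 h2
    subst hu_eq
    have hh_eq : h = h' := mul_left_cancel e
    subst hh_eq
    rfl
  · rintro ⟨b, hb⟩
    obtain ⟨u, hu, h, hh, rfl⟩ := hdec b hb
    exact ⟨(⟨u, hu⟩, ⟨h, hh⟩), rfl⟩

end Cfsg.Agent.Helper90.REE
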