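import Mathlib
import Cfsg.Agent.Lib.Helper93.RU0
import Cfsg.Agent.Lib.Helper35.RJ0
import Cfsg.Agent.Lib.Helper12.RUD1
import Cfsg.Agent.Lib.Helper44.RUD2
import Cfsg.Agent.Lib.Helper79.RUB1

/-!
# RJ server (helper35, S2279), piece (W3): `all_mem_W`
-/

set_option autoImplicit false

namespace Cfsg.Agent.Helper90.RJ

open Matrix Cfsg.Agent.Helper93.RU Cfsg.Agent.Helper35.RJ

variable {F : Type*} [Field F] {m : ℕ}

/-- `J e_k = e_k + e_{k-1}` for `k ≥ 1` -/
theorem h90_uEl_mulVec_eV (k : ℕ) (hk : k + 1 < m + 3) :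
    (uEl m F).1 *ᵥ (eV (⟨k + 1, hk⟩ : Fin (m + 3)) : Fin (m + 3) → F) =
      eV (⟨k + 1, hk⟩ : Fin (m + 3)) + eV (⟨k, by omega⟩ : Fin (m + 3)) := by
  rw [Cfsg.Agent.Helper79.RU.uEl_val, Matrix.add_mulVec, Matrix.one_mulVec]
  congr 1
  unfold eV
  rw [Matrix.mulVec_single_one]
  ext i
  simp only [Nmat, Matrix.col_apply, Matrix.of_apply, Pi.single_apply, Fin.ext_iff]
  by_cases h : i.val + 1 = k + 1
  · rw [if_pos h, if_pos (by omega)]
  · rw [if_neg h, if_neg (by omega)]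

/-- (W3) -/
theorem all_mem_W (H : Subgroup (SLm m F)) (hu : uEl m F ∈ H) (h : eV (lastI m) ∈ Wset H)
    (k : Fin (m + 3)) : eV k ∈ Wset H := by
  have key : ∀ i : ℕ, ∀ hi : i ≤ m + 2, (eV (⟨m + 2 - i, by omega⟩ : Fin (m + 3)) : Fin (m + 3) → F) ∈ Wset H := by
    intro i
    induction i with
    | zero =>
      intro _
      exact h
    | succ i ih =>
      intro hi
      have h1 := ih (by omega)
      obtain ⟨k', hk'⟩ : ∃ k', m + 2 - i = k' + 1 := ⟨m + 2 - i - 1, by omega⟩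
      have hk'' : k' + 1 < m + 3 := by omega
      have e1 : (⟨m + 2 - i, by omega⟩ : Fin (m + 3)) = ⟨k' + 1, hk''⟩ := Fin.ext hk'
      have e2 : (⟨m + 2 - (i + 1), by omega⟩ : Fin (m + 3)) = ⟨k', by omega⟩ := Fin.ext (by
        show m + 2 - (i + 1) = k'
        omega)
      rw [e1] at h1
      rw [e2]
      have h2 := Cfsg.Agent.Helper44.RU.W_conj H (uEl m F) hu _ h1
      rw [h90_uEl_mulVec_eV k' hk''] at h2
      have h3 := Cfsg.Agent.Helper44.RU.W_smul H (-1) _ h1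
      have h4 := Cfsg.Agent.Helper12.RU.W_add H _ _ h2 h3
      have h5 : (eV (⟨k' + 1, hk''⟩ : Fin (m + 3)) + eV (⟨k', by omega⟩ : Fin (m + 3)) +
          (-1 : F) • eV (⟨k' + 1, hk''⟩ : Fin (m + 3)) : Fin (m + 3) → F) =
          eV (⟨k', by omega⟩ : Fin (m + 3)) := by
        rw [neg_one_smul]
        abel
      rw [h5] at h4
      exact h4
  have := key (m + 2 - k.val) (by omega)
  have e : (⟨m + 2 - (m + 2 - k.val), by omega⟩ : Fin (m + 3)) = k := Fin.ext (by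
    show m + 2 - (m + 2 - k.val) = k.val
    have := k.2
    omega)
  rw [e] at this
  exact this

end Cfsg.Agent.Helper90.RJ
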