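import Mathlib
import Cfsg.Agent.Lib.Helper64.SL3Defs

/-!
# SL3 server (helper64, S2278), piece (FG): `field_gen`
-/

set_option autoImplicit false

namespace Cfsg.Agent.Helper90.SL3

open Matrix Cfsg.Agent.Helper93.RU Cfsg.Agent.Helper64.SL3

variable {F : Type*} [Field F]

/-- the stabiliser subfield of an additive subgroup of a finite field -/
def stabField [Fintype F] (M : AddSubgroup F) : Subfield F where
  carrier := {a | ∀ μ ∈ M, a * μ ∈ M}
  mul_mem' := by
    intro a b ha hb μ hμ
    rw [mul_assoc]
    exact ha _ (hb μ hμ)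
  one_mem' := by
    intro μ hμ
    rwa [one_mul]
  add_mem' := by
    intro a b ha hb μ hμ
    rw [add_mul]
    exact M.add_mem (ha μ hμ) (hb μ hμ)
  zero_mem' := by
    intro μ _
    rw [zero_mul]
    exact M.zero_mem
  neg_mem' := by
    intro a ha μ hμ
    rw [neg_mul]
    exact M.neg_mem (ha μ hμ)
  inv_mem' := by
    intro a ha
    by_cases h0 : a = 0
    · rw [h0, _root_.inv_zero]
      intro μ _
      rw [zero_mul]
      exact M.zero_mem
    · have hpow : ∀ n : ℕ, ∀ μ ∈ M, a ^ n * μ ∈ M := by
        intro n
        induction n with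
        | zero => intro μ hμ; rwa [pow_zero, one_mul]
        | succ n ih =>
          intro μ hμ
          rw [pow_succ, mul_assoc]
          exact ih _ (ha μ hμ)
      have h1 : a ^ (Fintype.card F - 1) = 1 := FiniteField.pow_card_sub_one_eq_one a h0
      have hq : 2 ≤ Fintype.card F := Fintype.one_lt_card
      have h2 : a * a ^ (Fintype.card F - 2) = 1 := by
        rw [← pow_succ']
        have : Fintype.card F - 2 + 1 = Fintype.card F - 1 := by omega
        rw [this, h1]
      have h3 : a⁻¹ = a ^ (Fintype.card F - 2) := (eq_inv_of_mul_eq_one_right h2).symm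
      rw [h3]
      exact hpow _

theorem mem_stabField [Fintype F] (M : AddSubgroup F) (a : F) :
    a ∈ stabField M ↔ ∀ μ ∈ M, a * μ ∈ M := Iff.rfl

/-- an element of a finite subfield `K` satisfies `x ^ (|K| - 1) = 1` unless it is `0` -/
theorem pow_card_sub_one_of_mem [Fintype F] (K : Subfield F) (x : F) (hx : x ∈ K) (h0 : x ≠ 0) :
    x ^ (Nat.card K - 1) = 1 := by
  classical
  have := Fintype.ofFinite K
  have hne : (⟨x, hx⟩ : K) ≠ 0 := by
    intro h
    exact h0 (congrArg Subtype.val h)
  have h1 := FiniteField.pow_card_sub_one_eq_one (⟨x, hx⟩ : K) hne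
  have h2 : x ^ (Fintype.card K - 1) = 1 := by
    have := congrArg Subtype.val h1
    simpa using this
  rw [Nat.card_eq_fintype_card]
  exact h2

theorem field_gen [Fintype F] (h4 : Fintype.card F ≠ 4) (lam : F)
    (hgen : ∀ a : F, a ≠ 0 → ∃ k : ℕ, a = lam ^ k) (μ : F) (hμ : μ = lam ^ 3 ∨ μ = lam⁻¹ ^ 3)
    (A : AddSubgroup F) (ρ : F) (hρ : ρ ∈ A) (hρ0 : ρ ≠ 0) (hA : ∀ a ∈ A, μ * a ∈ A) : A = ⊤ := by
  classical
  set K := stabField A with hK
  have hμK : μ ∈ K := hA
  have hcard : Nat.card F = Nat.card K ^ Module.finrank K F :=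
    Module.natCard_eq_pow_finrank (K := K) (V := F)
  rw [Nat.card_eq_fintype_card] at hcard
  have hr2 : 2 ≤ Nat.card K := Finite.one_lt_card
  have hq : 2 ≤ Fintype.card F := Fintype.one_lt_card
  -- every nonzero element satisfies `a ^ (3 * (r - 1)) = 1`
  have hall : ∀ a : F, a ≠ 0 → a ^ (3 * (Nat.card K - 1)) = 1 := by
    intro a ha
    obtain ⟨k, hk⟩ := hgen a ha
    by_cases hlam : lam = 0
    · -- then `k = 0`
      rcases Nat.eq_zero_or_pos k with h | h
      · rw [hk, h, pow_zero, one_pow]
      · exfalso
        apply ha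
        rw [hk, hlam, zero_pow (by omega)]
    · have hlam3 : lam ^ (3 * (Nat.card K - 1)) = 1 := by
        rcases hμ with h | h
        · have h1 := pow_card_sub_one_of_mem K μ hμK (by rw [h]; exact pow_ne_zero 3 hlam)
          rw [h, ← pow_mul] at h1
          exact h1
        · have h1 := pow_card_sub_one_of_mem K μ hμK
            (by rw [h]; exact pow_ne_zero 3 (inv_ne_zero hlam))
          rw [h, ← pow_mul, inv_pow] at h1
          exact inv_eq_one.1 h1
      rw [hk, ← pow_mul, mul_comm, pow_mul, hlam3, one_pow]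
  -- divisibility from a generator of the unit group
  obtain ⟨g, hg⟩ := IsCyclic.exists_generator (α := Fˣ)
  have hog : orderOf g = Fintype.card F - 1 := by
    rw [orderOf_eq_card_of_forall_mem_zpowers hg, Nat.card_eq_fintype_card, Fintype.card_units]
  have hdvd : Fintype.card F - 1 ∣ 3 * (Nat.card K - 1) := by
    rw [← hog]
    apply orderOf_dvd_of_pow_eq_one
    apply Units.ext
    rw [Units.val_pow_eq_pow_val, hall _ g.ne_zero, Units.val_one]
  -- `K = ⊤`
  have hKtop : ∀ x : F, x ∈ K := by
    have hcases : Module.finrank K F = 1 := by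
      rcases Nat.lt_or_ge (Module.finrank K F) 2 with h | h
      · interval_cases hfr : Module.finrank K F
        · rw [pow_zero] at hcard
          omega
        · rfl
      · exfalso
        have h1 : Nat.card K ^ 2 ≤ Fintype.card F := by
          rw [hcard]
          exact Nat.pow_le_pow_right (by omega) h
        have h3 : Fintype.card F - 1 ≤ 3 * (Nat.card K - 1) := Nat.le_of_dvd (by omega) hdvd
        have h4' : Nat.card K ≤ 2 := by
          by_contra hcon
          push Not at hcon
          have : Nat.card K * 3 ≤ Nat.card K ^ 2 := by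
            rw [pow_two]
            exact Nat.mul_le_mul_left _ hcon
          omega
        have h5 : Nat.card K = 2 := le_antisymm h4' hr2
        rw [h5] at hdvd h1
        have h6 : Fintype.card F - 1 ∣ 3 := by simpa using hdvd
        rcases (Nat.dvd_prime Nat.prime_three).1 h6 with h | h
        · omega
        · apply h4; omega
    rw [hcases, pow_one] at hcard
    have hbij : Function.Bijective (Subtype.val : K → F) :=
      Function.Injective.bijective_of_nat_card_le Subtype.val_injective
        (by rw [Nat.card_eq_fintype_card, hcard])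
    intro x
    obtain ⟨k, hk⟩ := hbij.2 x
    rw [← hk]
    exact k.2
  rw [AddSubgroup.eq_top_iff']
  intro x
  have h1 : x * ρ⁻¹ ∈ K := hKtop _
  have h2 := h1 ρ hρ
  rwa [mul_assoc, inv_mul_cancel₀ hρ0, mul_one] at h2

end Cfsg.Agent.Helper90.SL3
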