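import Mathlib
import Cfsg.Agent.Lib.Helper62.SLN0
import Cfsg.Agent.Lib.Helper20.U2Rd

/-!
# SLN server (helper62, S2332), piece ORB: generic part
-/

set_option autoImplicit false

namespace Cfsg.Agent.Helper90.SLN

open Matrix Module Cfsg.Agent.Helper93.U2 Cfsg.Agent.Helper62.SLN

section Generic

variable {G : Type*} [Group G] {𝓐 : Type*} [AddCommGroup 𝓐] [Fintype 𝓐]
  {V : Type*} [AddCommGroup V] [Module ℂ V] [FiniteDimensional ℂ V]
  (pr : Pairing 𝓐) (el : 𝓐 → G) (ρ : Representation ℂ G V)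

/-- If `M` contains vectors `y i` whose components in pairwise different non-zero weight spaces
`W i` are non-zero vectors `x i` (and `y i` has no component of weight `W i'`, `i' ≠ i`), then
`dim (M ∩ V_0) + |ι| ≤ dim M`. -/
theorem h90_fix_bound (M : Submodule ℂ V) {ι : Type*} [Fintype ι] [DecidableEq ι]
    (W : ι → 𝓐) (hW0 : ∀ i, W i ≠ 0) (x y : ι → V) (hx : ∀ i, x i ≠ 0) (hy : ∀ i, y i ∈ M)
    (hself : ∀ i, eOp pr el ρ (W i) (y i) = x i)
    (hother : ∀ i i', i ≠ i' → eOp pr el ρ (W i') (y i) = 0) :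
    finrank ℂ (M ⊓ wsp pr el ρ 0 : Submodule ℂ V) + Fintype.card ι ≤ finrank ℂ M := by
  classical
  obtain ⟨A, hA⟩ : ∃ A : Submodule ℂ V, A = M ⊓ wsp pr el ρ 0 := ⟨_, rfl⟩
  rw [← hA]
  have hAM : A ≤ M := hA ▸ inf_le_left
  have hA0 : A ≤ wsp pr el ρ 0 := hA ▸ inf_le_right
  let L : ((ι → ℂ) × A) →ₗ[ℂ] V := (Fintype.linearCombination ℂ y).coprod A.subtype
  have hL : ∀ p : (ι → ℂ) × A, L p = ∑ i, p.1 i • y i + (p.2 : V) := by
    intro p
    simp [L, LinearMap.coprod_apply, Fintype.linearCombination_apply]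
  have hcoord : ∀ (p : (ι → ℂ) × A) (i0 : ι), eOp pr el ρ (W i0) (L p) = p.1 i0 • x i0 := by
    intro p i0
    rw [hL, map_add, map_sum]
    have h1 : eOp pr el ρ (W i0) (p.2 : V) = 0 :=
      Cfsg.Agent.Helper20.U2.eOp_other pr el ρ (W i0) 0 (hW0 i0) _ (hA0 p.2.2)
    rw [h1, add_zero]
    rw [Finset.sum_eq_single i0]
    · rw [map_smul, hself]
    · intro i _ hne
      rw [map_smul, hother i i0 hne, smul_zero]
    · intro h
      exact absurd (Finset.mem_univ _) h
  have hinj : Function.Injective L := by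
    rw [← LinearMap.ker_eq_bot, LinearMap.ker_eq_bot']
    intro p hp
    have hg : p.1 = 0 := by
      funext i0
      have := hcoord p i0
      rw [hp, map_zero] at this
      rcases smul_eq_zero.1 this.symm with h | h
      · exact h
      · exact absurd h (hx i0)
    have ha : (p.2 : V) = 0 := by
      have := hL p
      rw [hp, hg] at this
      simpa using this.symm
    exact Prod.ext hg (Subtype.ext ha)
  have hrange : LinearMap.range L ≤ M := by
    rintro _ ⟨p, rfl⟩
    rw [hL]
    exact M.add_mem (M.sum_mem fun i _ => M.smul_mem _ (hy i)) (hAM p.2.2)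
  have h1 : finrank ℂ (LinearMap.range L) = finrank ℂ ((ι → ℂ) × A) :=
    LinearMap.finrank_range_of_inj hinj
  have h2 : finrank ℂ ((ι → ℂ) × A) = Fintype.card ι + finrank ℂ A := by
    rw [Module.finrank_prod, Module.finrank_fintype_fun_eq_card]
  have h3 := Submodule.finrank_mono hrange
  omega

end Generic

end Cfsg.Agent.Helper90.SLN
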