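import Mathlib
import Cfsg.Agent.Lib.Helper62.SLN0
import Cfsg.Agent.Lib.Helper20.U2Rd
import Cfsg.Agent.Lib.Helper90.SLN_ORB0

/-!
# SLN server (helper62, S2332), piece ORB: the core (S1, S8, G8 as hypotheses)
-/

set_option autoImplicit false

namespace Cfsg.Agent.Helper90.SLN

open Matrix Module Cfsg.Agent.Helper93.U2 Cfsg.Agent.Helper62.SLN

section Core

variable {F : Type*} [Field F] [Fintype F] {κ : Type} [Fintype κ] [DecidableEq κ]
  {V : Type*} [AddCommGroup V] [Module ℂ V] [FiniteDimensional ℂ V]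
  (pr : Pairing (κ → F))
  (ρ : Representation ℂ (SpecialLinearGroup (Unit ⊕ κ) F) V)

omit [Fintype F] in
/-- `(1 + e_j t̃ᵀ) w = w + (t·w) e_j` when `w j = 0` -/
theorem h90_tvEl_mulVec (j : κ) (t w : κ → F) (hwj : w j = 0) :
    (tvEl j t).1 *ᵥ w = w + (t ⬝ᵥ w) • Pi.single j 1 := by
  have hdot : Function.update t j 0 ⬝ᵥ w = t ⬝ᵥ w := by
    unfold dotProduct
    apply Finset.sum_congr rfl
    intro i _
    by_cases hij : i = j
    · rw [hij, Function.update_self, hwj, mul_zero, mul_zero]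
    · rw [Function.update_of_ne hij]
  rw [tvEl_val, Matrix.add_mulVec, Matrix.one_mulVec]
  congr 1
  ext i
  rw [Matrix.mulVec, dotProduct]
  simp only [vecMulVec_apply, Pi.smul_apply, smul_eq_mul]
  rw [← hdot]
  unfold dotProduct
  rw [Finset.sum_mul]
  apply Finset.sum_congr rfl
  intro k _
  ring

omit [Fintype F] [Fintype κ] in
theorem h90_single_ne (j : κ) (a : F) (ha : a ≠ 0) : a • (Pi.single j 1 : κ → F) ≠ 0 := by
  intro h
  have := congrFun h j
  simp at this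
  exact ha this

/-- the core of ORB, with S1, S8 and G8 as hypotheses -/
theorem h90_orb_core (j : κ)
    (hS1 : ∀ (A : SpecialLinearGroup κ F) (w : κ → F) (v : V), v ∈ wt pr ρ w →
      ρ (lEl A) v ∈ wt pr ρ (A.1 *ᵥ w))
    (hS8 : finrank ℂ (fixSp ρ (Qset (F := F) j)) =
      finrank ℂ (wt pr ρ 0) + (Fintype.card F - 1) * 1)
    (hG8 : ∀ t t' : κ → F, qEl j (t + t') = qEl j t * qEl j t')
    (hd1 : ∀ w : κ → F, w ≠ 0 → finrank ℂ (wt pr ρ w) = 1)
    (h1a : ∀ a : F, a ≠ 0 → ∀ t : κ → F, ∀ v ∈ wt pr ρ (a • Pi.single j 1), ρ (qEl j t) v = v)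
    (𝒲 : Finset (κ → F)) (h𝒲0 : ∀ w ∈ 𝒲, w j = 0 ∧ w ≠ 0)
    (h𝒲 : ∀ w ∈ 𝒲, ∀ t : κ → F, t ⬝ᵥ w = 0 → ∀ v ∈ wt pr ρ w, ρ (qEl j t) v = v) :
    finrank ℂ (fixSp ρ (Qset (F := F) j) ⊓ wt pr ρ 0 : Submodule ℂ V) + 𝒲.card ≤
      finrank ℂ (wt pr ρ 0) := by
  classical
  -- `qEl j 0 = 1`
  have hq0 : qEl (F := F) j 0 = 1 := by
    have h := hG8 0 0
    rw [add_zero] at h
    have h2 : qEl (F := F) j 0 * 1 = qEl j 0 * qEl j 0 := by rw [mul_one]; exact h
    exact (mul_left_cancel h2).symm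
  -- nonzero vectors in the weight lines
  have hex : ∀ w : κ → F, w ≠ 0 → ∃ x : V, x ∈ wt pr ρ w ∧ x ≠ 0 := by
    intro w hw
    have h1 : wt pr ρ w ≠ ⊥ := by
      intro h
      have := hd1 w hw
      rw [h, finrank_bot] at this
      omega
    obtain ⟨x, hx, hx0⟩ := Submodule.exists_mem_ne_zero_of_ne_bot h1
    exact ⟨x, hx, hx0⟩
  choose xx hxx using hex
  -- dual vectors
  have hext : ∀ w : κ → F, w ≠ 0 → ∃ t : κ → F, t ⬝ᵥ w = 1 := by
    intro w hw
    obtain ⟨i, hi⟩ : ∃ i, w i ≠ 0 := by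
      by_contra hcon
      push Not at hcon
      exact hw (funext hcon)
    refine ⟨Pi.single i (w i)⁻¹, ?_⟩
    rw [single_dotProduct, inv_mul_cancel₀ hi]
  choose tt htt using hext
  -- the orbit-sum terms
  have hz : ∀ (w : κ → F) (hw : w ∈ 𝒲) (s : F),
      ρ (qEl j (s • tt w (h𝒲0 w hw).2)) (xx w (h𝒲0 w hw).2) ∈
        wt pr ρ (w + s • Pi.single j 1) := by
    intro w hw s
    have h1 := hS1 (tvEl j (s • tt w (h𝒲0 w hw).2)) w _ (hxx w (h𝒲0 w hw).2).1
    rw [h90_tvEl_mulVec j _ w (h𝒲0 w hw).1, smul_dotProduct, htt, smul_eq_mul, mul_one] at h1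
    exact h1
  have hz0 : ∀ (w : κ → F) (hw : w ∈ 𝒲),
      ρ (qEl j ((0 : F) • tt w (h𝒲0 w hw).2)) (xx w (h𝒲0 w hw).2) = xx w (h𝒲0 w hw).2 := by
    intro w hw
    rw [zero_smul, hq0, map_one]
    rfl
  -- the index type and the data
  let ι := {a : F // a ≠ 0} ⊕ {w : κ → F // w ∈ 𝒲}
  let W : ι → (κ → F) := Sum.elim (fun a => a.1 • Pi.single j 1) (fun w => w.1)
  let x : ι → V := Sum.elim (fun a => xx (a.1 • Pi.single j 1) (h90_single_ne j a.1 a.2))
    (fun w => xx w.1 (h𝒲0 w.1 w.2).2)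
  let y : ι → V := Sum.elim (fun a => xx (a.1 • Pi.single j 1) (h90_single_ne j a.1 a.2))
    (fun w => ∑ s : F, ρ (qEl j (s • tt w.1 (h𝒲0 w.1 w.2).2)) (xx w.1 (h𝒲0 w.1 w.2).2))
  have hW0 : ∀ i, W i ≠ 0 := by
    rintro (a | w)
    · exact h90_single_ne j a.1 a.2
    · exact (h𝒲0 w.1 w.2).2
  have hx : ∀ i, x i ≠ 0 := by
    rintro (a | w)
    · exact (hxx _ _).2
    · exact (hxx _ _).2
  have hy : ∀ i, y i ∈ fixSp ρ (Qset (F := F) j) := by
    rintro (a | w)
    · rw [mem_fixSp]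
      rintro g ⟨t, rfl⟩
      exact h1a a.1 a.2 t _ (hxx _ _).1
    · rw [mem_fixSp]
      rintro g ⟨t, rfl⟩
      show ρ (qEl j t) (∑ s : F, ρ (qEl j (s • tt w.1 (h𝒲0 w.1 w.2).2))
        (xx w.1 (h𝒲0 w.1 w.2).2)) = ∑ s : F, ρ (qEl j (s • tt w.1 (h𝒲0 w.1 w.2).2))
        (xx w.1 (h𝒲0 w.1 w.2).2)
      obtain ⟨w, hw⟩ := w
      obtain ⟨tw, htw⟩ : ∃ tw, tw = tt w (h𝒲0 w hw).2 := ⟨_, rfl⟩
      obtain ⟨xw, hxw⟩ : ∃ xw, xw = xx w (h𝒲0 w hw).2 := ⟨_, rfl⟩
      simp only [← htw, ← hxw]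
      have htw1 : tw ⬝ᵥ w = 1 := by rw [htw]; exact htt _ _
      have hxwm : xw ∈ wt pr ρ w := by rw [hxw]; exact (hxx _ _).1
      obtain ⟨c, hc⟩ : ∃ c, c = t ⬝ᵥ w := ⟨_, rfl⟩
      have ht' : (t - c • tw) ⬝ᵥ w = 0 := by
        rw [sub_dotProduct, smul_dotProduct, htw1, ← hc, smul_eq_mul, mul_one, sub_self]
      have hfix := h𝒲 w hw (t - c • tw) ht' xw hxwm
      rw [map_sum]
      have hterm : ∀ s : F, ρ (qEl j t) (ρ (qEl j (s • tw)) xw) = ρ (qEl j ((c + s) • tw)) xw := by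
        intro s
        have h1 : qEl j t * qEl j (s • tw) = qEl j ((c + s) • tw) * qEl j (t - c • tw) := by
          rw [← hG8, ← hG8]
          congr 1
          rw [add_smul]
          abel
        calc ρ (qEl j t) (ρ (qEl j (s • tw)) xw)
            = ρ (qEl j t * qEl j (s • tw)) xw := by rw [map_mul]; rfl
          _ = ρ (qEl j ((c + s) • tw)) (ρ (qEl j (t - c • tw)) xw) := by
              rw [h1, map_mul]; rfl
          _ = ρ (qEl j ((c + s) • tw)) xw := by rw [hfix]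
      simp_rw [hterm]
      exact Fintype.sum_equiv (Equiv.addLeft c) _ _ (fun s => rfl)
  have hself : ∀ i, eOp pr uEl ρ (W i) (y i) = x i := by
    rintro (a | w)
    · exact Cfsg.Agent.Helper20.U2.eOp_self pr uEl ρ _ _ (hxx _ _).1
    · obtain ⟨w, hw⟩ := w
      show eOp pr uEl ρ w (∑ s : F, ρ (qEl j (s • tt w (h𝒲0 w hw).2))
        (xx w (h𝒲0 w hw).2)) = xx w (h𝒲0 w hw).2
      rw [map_sum, Finset.sum_eq_single (0 : F)]
      · rw [hz0 w hw]
        exact Cfsg.Agent.Helper20.U2.eOp_self pr uEl ρ _ _ (hxx _ _).1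
      · intro s _ hs
        apply Cfsg.Agent.Helper20.U2.eOp_other pr uEl ρ w (w + s • Pi.single j 1) _ _ (hz w hw s)
        intro h
        have h2 : s • (Pi.single j 1 : κ → F) = 0 := by
          have := congrArg (fun v => v - w) h
          simpa using this.symm
        exact h90_single_ne j s hs h2
      · intro h
        exact absurd (Finset.mem_univ _) h
  have hother : ∀ i i', i ≠ i' → eOp pr uEl ρ (W i') (y i) = 0 := by
    rintro (a | w) (a' | w') hne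
    · apply Cfsg.Agent.Helper20.U2.eOp_other pr uEl ρ _ (a.1 • Pi.single j 1) _ _ (hxx _ _).1
      intro h
      apply hne
      have h' : a'.1 • (Pi.single j 1 : κ → F) = a.1 • Pi.single j 1 := h
      have := congrFun h' j
      simp only [Pi.smul_apply, Pi.single_eq_same, smul_eq_mul, mul_one] at this
      exact congrArg Sum.inl (Subtype.ext this.symm)
    · apply Cfsg.Agent.Helper20.U2.eOp_other pr uEl ρ _ (a.1 • Pi.single j 1) _ _ (hxx _ _).1
      intro h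
      have h' : w'.1 = a.1 • (Pi.single j 1 : κ → F) := h
      have := congrFun h' j
      simp only [Pi.smul_apply, Pi.single_eq_same, smul_eq_mul, mul_one] at this
      rw [(h𝒲0 w'.1 w'.2).1] at this
      exact a.2 this.symm
    · obtain ⟨w, hw⟩ := w
      show eOp pr uEl ρ (a'.1 • Pi.single j 1) (∑ s : F, ρ (qEl j (s • tt w (h𝒲0 w hw).2))
        (xx w (h𝒲0 w hw).2)) = 0
      rw [map_sum]
      apply Finset.sum_eq_zero
      intro s _
      apply Cfsg.Agent.Helper20.U2.eOp_other pr uEl ρ _ (w + s • Pi.single j 1) _ _ (hz w hw s)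
      intro h
      -- `w = (a' - s) e_j`, so `w = 0`
      have hj := congrFun h j
      simp only [Pi.smul_apply, Pi.add_apply, Pi.single_eq_same, smul_eq_mul, mul_one,
        (h𝒲0 w hw).1, zero_add] at hj
      apply (h𝒲0 w hw).2
      have h3 : w = a'.1 • Pi.single j 1 - s • Pi.single j 1 := by
        rw [h]; abel
      rw [h3, hj, sub_self]
    · obtain ⟨w, hw⟩ := w
      obtain ⟨w', hw'⟩ := w'
      show eOp pr uEl ρ w' (∑ s : F, ρ (qEl j (s • tt w (h𝒲0 w hw).2))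
        (xx w (h𝒲0 w hw).2)) = 0
      rw [map_sum]
      apply Finset.sum_eq_zero
      intro s _
      apply Cfsg.Agent.Helper20.U2.eOp_other pr uEl ρ _ (w + s • Pi.single j 1) _ _ (hz w hw s)
      intro h
      have hj := congrFun h j
      simp only [Pi.smul_apply, Pi.add_apply, Pi.single_eq_same, smul_eq_mul, mul_one,
        (h𝒲0 w hw).1, (h𝒲0 w' hw').1, zero_add] at hj
      apply hne
      have h3 : w' = w := by
        rw [h, ← hj, zero_smul, add_zero]
      subst h3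
      rfl
  have hmain := h90_fix_bound pr uEl ρ (fixSp ρ (Qset (F := F) j)) W hW0 x y hx hy hself hother
  have hcard : Fintype.card ι = (Fintype.card F - 1) + 𝒲.card := by
    show Fintype.card ({a : F // a ≠ 0} ⊕ {w : κ → F // w ∈ 𝒲}) = _
    rw [Fintype.card_sum, Fintype.card_coe]
    congr 1
    rw [Fintype.card_subtype_compl (fun a : F => a = 0), Fintype.card_subtype_eq]
  rw [hcard, hS8] at hmain
  have : finrank ℂ (fixSp ρ (Qset (F := F) j) ⊓ wt pr ρ 0 : Submodule ℂ V) =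
      finrank ℂ (fixSp ρ (Qset (F := F) j) ⊓ wsp pr uEl ρ 0 : Submodule ℂ V) := rfl
  omega

end Core

end Cfsg.Agent.Helper90.SLN
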