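import Mathlib
import Cfsg.Agent.Lib.Helper62.SLN0
import Cfsg.Agent.Lib.Helper26.SLN_R
import Cfsg.Agent.Lib.Helper66.SLN_G1

/-!
# SLN server (helper62, S2332), piece S7: `dim C_V(U_0) = c + (q - 1) d`  (R2' + G1)
-/

set_option autoImplicit false

namespace Cfsg.Agent.Helper90.SLN

open Matrix Module Cfsg.Agent.Helper93.U2 Cfsg.Agent.Helper62.SLN

section SLN

variable {F : Type*} [Field F] [Fintype F] [DecidableEq F] {κ : Type} [Fintype κ] [DecidableEq κ]
  {V : Type*} [AddCommGroup V] [Module ℂ V] [FiniteDimensional ℂ V]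
  (ψ : AddChar F ℂ) (pr : Pairing (κ → F)) (hpr : ∀ w u, pr.β w u = ψ (w ⬝ᵥ u))
  (ρ : Representation ℂ (SpecialLinearGroup (Unit ⊕ κ) F) V)

/-- the additive group `{u : u j = 0}` -/
def h90_B0 (j : κ) : AddSubgroup (κ → F) where
  carrier := {u | u j = 0}
  zero_mem' := rfl
  add_mem' := by
    intro a b ha hb
    show (a + b) j = 0
    rw [Pi.add_apply, ha, hb, add_zero]
  neg_mem' := by
    intro a ha
    show (-a) j = 0
    rw [Pi.neg_apply, ha, neg_zero]

omit [Fintype F] [DecidableEq F] [Fintype κ] [DecidableEq κ] in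
theorem h90_mem_B0 (j : κ) (u : κ → F) : u ∈ h90_B0 (F := F) j ↔ u j = 0 := Iff.rfl

include hpr

omit [Fintype F] [DecidableEq F] in
/-- the weights trivial on `U_0` are the multiples of `e_j` -/
theorem h90_weights_U0 (j : κ) (a : κ → F) :
    (∀ b ∈ h90_B0 (F := F) j, pr.β a b = 1) ↔ ∃ c : F, a = c • (Pi.single j 1 : κ → F) := by
  constructor
  · intro h
    refine ⟨a j, ?_⟩
    have h0 : a - a j • (Pi.single j 1 : κ → F) = 0 := by
      apply pr.nondeg
      intro b
      have hb' : Function.update b j 0 ∈ h90_B0 (F := F) j := Function.update_self j 0 b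
      rw [← h _ hb', hpr, hpr]
      congr 1
      unfold dotProduct
      apply Finset.sum_congr rfl
      intro k _
      by_cases hk : k = j
      · subst hk
        simp
      · rw [Function.update_of_ne hk]
        simp [Pi.single_eq_of_ne hk]
    exact sub_eq_zero.1 h0
  · rintro ⟨c, rfl⟩ b hb
    rw [hpr, smul_dotProduct, single_dotProduct, one_mul, (h90_mem_B0 j b).1 hb, smul_zero]
    exact AddChar.map_zero_eq_one ψ

omit [DecidableEq F] in
/-- piece S7 (R2' + G1) : `dim C_V(U_0) = c + (q - 1) d` -/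
theorem finrank_fix_U0 (j : κ) (d : ℕ) (hd : ∀ w : κ → F, w ≠ 0 → finrank ℂ (wt pr ρ w) = d) :
    finrank ℂ (fixSp ρ (U0set (F := F) j)) =
      finrank ℂ (wt pr ρ 0) + (Fintype.card F - 1) * d := by
  classical
  have hset : U0set (F := F) j = uEl '' ((h90_B0 (F := F) j : AddSubgroup (κ → F)) : Set (κ → F)) := by
    ext g
    constructor
    · rintro ⟨u, hu, rfl⟩
      exact ⟨u, hu, rfl⟩
    · rintro ⟨u, hu, rfl⟩
      exact ⟨u, hu, rfl⟩
  rw [hset, Cfsg.Agent.Helper26.SLN.finrank_fixSp_eq_sum_wsp pr uEl ρ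
    (fun a b => Cfsg.Agent.Helper66.SLN.uEl_add a b) (h90_B0 (F := F) j)]
  have hfilter : Finset.univ.filter (fun a : κ → F => ∀ b ∈ h90_B0 (F := F) j, pr.β a b = 1) =
      Finset.univ.image (fun c : F => c • (Pi.single j 1 : κ → F)) := by
    ext a
    rw [Finset.mem_filter, Finset.mem_image]
    constructor
    · rintro ⟨-, h⟩
      obtain ⟨c, hc⟩ := (h90_weights_U0 ψ pr hpr j a).1 h
      exact ⟨c, Finset.mem_univ _, hc.symm⟩
    · rintro ⟨c, -, hc⟩
      exact ⟨Finset.mem_univ _, (h90_weights_U0 ψ pr hpr j a).2 ⟨c, hc.symm⟩⟩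
  have hinj : Function.Injective (fun c : F => c • (Pi.single j 1 : κ → F)) := by
    intro c c' h
    have := congrFun h j
    simpa using this
  rw [hfilter, Finset.sum_image (fun c _ c' _ h => hinj h),
    ← Finset.add_sum_erase Finset.univ _ (Finset.mem_univ (0 : F)), zero_smul]
  congr 1
  have hterm : ∀ c ∈ (Finset.univ : Finset F).erase 0,
      finrank ℂ (wsp pr uEl ρ (c • (Pi.single j 1 : κ → F))) = d := by
    intro c hc
    apply hd
    intro h
    have := congrFun h j
    simp only [Pi.smul_apply, Pi.single_eq_same, smul_eq_mul, mul_one, Pi.zero_apply] at this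
    exact (Finset.ne_of_mem_erase hc) this
  rw [Finset.sum_congr rfl hterm, Finset.sum_const, Finset.card_erase_of_mem (Finset.mem_univ _),
    Finset.card_univ, smul_eq_mul]

end SLN

end Cfsg.Agent.Helper90.SLN
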