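import Mathlib
import Cfsg.Agent.Lib.Helper62.SLN0
import Cfsg.Agent.Lib.Helper49.SLN_G7
import Cfsg.Agent.Lib.Helper26.SLN_R

/-!
# SLN server (helper62, S2332), piece S8 core: `dim C_V(Q) = dim C_V(U_0)` (G7 + R6)
-/

set_option autoImplicit false

namespace Cfsg.Agent.Helper90.SLN

open Matrix Module Cfsg.Agent.Helper93.U2 Cfsg.Agent.Helper62.SLN

section S8

variable {F : Type*} [Field F] {κ : Type} [Fintype κ] [DecidableEq κ]
  {V : Type*} [AddCommGroup V] [Module ℂ V] [FiniteDimensional ℂ V]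
  (ρ : Representation ℂ (SpecialLinearGroup (Unit ⊕ κ) F) V)

theorem h90_qEl_update (j : κ) (t : κ → F) : qEl j (Function.update t j 0) = qEl j t := by
  unfold qEl
  congr 1
  apply Subtype.ext
  rw [tvEl_val, tvEl_val, Function.update_idem]

/-- `Q` is the conjugate of `U_0` by the Weyl element of G7 -/
theorem h90_finrank_fix_Q_eq (j : κ) :
    finrank ℂ (fixSp ρ (Qset (F := F) j)) = finrank ℂ (fixSp ρ (U0set (F := F) j)) := by
  obtain ⟨s, hs⟩ := Cfsg.Agent.Helper49.SLN.exists_swap (F := F) j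
  have hset : Qset (F := F) j = (fun g => s * g * s⁻¹) '' (U0set (F := F) j) := by
    ext g
    constructor
    · rintro ⟨t, rfl⟩
      refine ⟨uEl (Function.update t j 0), ⟨Function.update t j 0, Function.update_self j 0 t, rfl⟩, ?_⟩
      show s * uEl (Function.update t j 0) * s⁻¹ = qEl j t
      rw [hs _ (Function.update_self j 0 t), h90_qEl_update]
    · rintro ⟨g', ⟨u, huj, rfl⟩, rfl⟩
      exact ⟨u, (hs u huj).symm⟩
  rw [hset]
  exact Cfsg.Agent.Helper26.SLN.finrank_fixSp_conj ρ s _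

end S8

end Cfsg.Agent.Helper90.SLN
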