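import Mathlib
import Cfsg.Agent.Lib.Helper62.SLN0
import Cfsg.Agent.Lib.Helper90.SLN_S7
import Cfsg.Agent.Lib.Helper90.SLN_S8core

/-!
# SLN server (helper62, S2332), piece S8: `dim C_V(Q) = c + (q - 1) d`  (S7 + G7 + R6)
-/

set_option autoImplicit false

namespace Cfsg.Agent.Helper90.SLN

open Matrix Module Cfsg.Agent.Helper93.U2 Cfsg.Agent.Helper62.SLN

section SLN

variable {F : Type*} [Field F] [Fintype F] [DecidableEq F] {κ : Type} [Fintype κ] [DecidableEq κ]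
  {V : Type*} [AddCommGroup V] [Module ℂ V] [FiniteDimensional ℂ V]
  (ψ : AddChar F ℂ) (pr : Pairing (κ → F)) (hpr : ∀ w u, pr.β w u = ψ (w ⬝ᵥ u))
  (ρ : Representation ℂ (SpecialLinearGroup (Unit ⊕ κ) F) V)

include hpr

omit [DecidableEq F] in
/-- piece S8 (S7 + G7 + R6) : `dim C_V(Q) = c + (q - 1) d` -/
theorem finrank_fix_Q (j : κ) (d : ℕ) (hd : ∀ w : κ → F, w ≠ 0 → finrank ℂ (wt pr ρ w) = d) :
    finrank ℂ (fixSp ρ (Qset (F := F) j)) =
      finrank ℂ (wt pr ρ 0) + (Fintype.card F - 1) * d := by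
  rw [h90_finrank_fix_Q_eq ρ j]
  exact finrank_fix_U0 ψ pr hpr ρ j d hd

end SLN

end Cfsg.Agent.Helper90.SLN
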