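import Mathlib
import Cfsg.Agent.Lib.Helper62.SLN0
import Cfsg.Agent.Lib.Helper60.SLN_S1
import Cfsg.Agent.Lib.Helper66.SLN_G1
import Cfsg.Agent.Lib.Helper90.SLN_S8
import Cfsg.Agent.Lib.Helper90.SLN_ORB1

/-!
# SLN server (helper62, S2332), piece ORB (the heart): `c ≥ dim C_{V_0}(Q) + |𝒲|`  (S8 + S1 + G8)
-/

set_option autoImplicit false

namespace Cfsg.Agent.Helper90.SLN

open Matrix Module Cfsg.Agent.Helper93.U2 Cfsg.Agent.Helper62.SLN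

section SLN

variable {F : Type*} [Field F] [Fintype F] [DecidableEq F] {κ : Type} [Fintype κ] [DecidableEq κ]
  {V : Type*} [AddCommGroup V] [Module ℂ V] [FiniteDimensional ℂ V]
  (ψ : AddChar F ℂ) (pr : Pairing (κ → F)) (hpr : ∀ w u, pr.β w u = ψ (w ⬝ᵥ u))
  (ρ : Representation ℂ (SpecialLinearGroup (Unit ⊕ κ) F) V)

include hpr

omit [DecidableEq F] in
/-- piece ORB (S8 + S1 + G8; the heart): `c ≥ dim C_{V_0}(Q) + |𝒲|`. -/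
theorem orb (j : κ) (hd1 : ∀ w : κ → F, w ≠ 0 → finrank ℂ (wt pr ρ w) = 1)
    (h1a : ∀ a : F, a ≠ 0 → ∀ t : κ → F, ∀ v ∈ wt pr ρ (a • Pi.single j 1), ρ (qEl j t) v = v)
    (𝒲 : Finset (κ → F)) (h𝒲0 : ∀ w ∈ 𝒲, w j = 0 ∧ w ≠ 0)
    (h𝒲 : ∀ w ∈ 𝒲, ∀ t : κ → F, t ⬝ᵥ w = 0 → ∀ v ∈ wt pr ρ w, ρ (qEl j t) v = v) :
    finrank ℂ (fixSp ρ (Qset (F := F) j) ⊓ wt pr ρ 0 : Submodule ℂ V) + 𝒲.card ≤
      finrank ℂ (wt pr ρ 0) :=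
  h90_orb_core pr ρ j
    (fun A w v hv => Cfsg.Agent.Helper60.SLN.map_wt_lEl ψ pr hpr ρ A w v hv)
    (finrank_fix_Q ψ pr hpr ρ j 1 hd1)
    (fun t t' => Cfsg.Agent.Helper66.SLN.qEl_add j t t')
    hd1 h1a 𝒲 h𝒲0 h𝒲

end SLN

end Cfsg.Agent.Helper90.SLN
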