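import Mathlib
import Cfsg.Prelude.Def_Local
import Cfsg.Agent.Lib.Helper89.TH1Defs
import Cfsg.Agent.Lib.Helper54.PSolv

/-!
TH1 lemma server (helper89, statement S3797), piece (R0): the hypotheses `TwoInv`, `OneClass`
pass from `G` to `G ⧸ O(G)`, where `O(G) = pPrimeCore 2 G` has odd order.
-/

set_option autoImplicit false

namespace Cfsg.Agent.Helper90.TH1

open Cfsg Subgroup Cfsg.Agent.Helper89.TH1
open scoped commutatorElement

universe u

variable {G : Type u} [Group G] [Finite G]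

omit [Finite G] in
/-- An element of a subgroup of odd order whose square is `1` is trivial. -/
theorem r0_eq_one_of_sq_of_odd {H : Subgroup G} (hH : (Nat.card H).Coprime 2) {x : G}
    (hx : x ∈ H) (hx2 : x ^ 2 = 1) : x = 1 := by
  have h1 : orderOf x ∣ 2 := orderOf_dvd_of_pow_eq_one hx2
  have h2 : orderOf x ∣ Nat.card H := by
    have := orderOf_dvd_natCard (⟨x, hx⟩ : H)
    rwa [Subgroup.orderOf_mk] at this
  have h3 : orderOf x ∣ Nat.gcd (Nat.card H) 2 := Nat.dvd_gcd h2 h1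
  rw [Nat.Coprime] at hH
  rw [hH] at h3
  exact orderOf_eq_one_iff.mp (Nat.dvd_one.mp h3)

omit [Finite G] in
/-- An involution of `G ⧸ N` (`N` normal of odd order) lifts to an involution of `G`. -/
theorem r0_lift_involution (N : Subgroup G) [N.Normal] (hN : (Nat.card N).Coprime 2)
    (u : G ⧸ N) (hu1 : u ≠ 1) (hu2 : u ^ 2 = 1) :
    ∃ x : G, (x : G ⧸ N) = u ∧ x ≠ 1 ∧ x ^ 2 = 1 := by
  obtain ⟨g, rfl⟩ := QuotientGroup.mk_surjective u
  have hodd : Odd (Nat.card N) := by
    rcases Nat.even_or_odd (Nat.card N) with he | ho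
    · exfalso
      have : 2 ∣ Nat.gcd (Nat.card N) 2 := Nat.dvd_gcd he.two_dvd dvd_rfl
      rw [Nat.Coprime] at hN
      rw [hN] at this
      omega
    · exact ho
  obtain ⟨k, hk⟩ := hodd
  have hg2 : g ^ 2 ∈ N := by
    have : ((g ^ 2 : G) : G ⧸ N) = 1 := by
      rw [QuotientGroup.mk_pow]; exact hu2
    exact (QuotientGroup.eq_one_iff _).mp this
  have hpow : (g ^ 2) ^ Nat.card N = 1 := by
    have h : (⟨g ^ 2, hg2⟩ : N) ^ Nat.card N = 1 := pow_card_eq_one'
    have h' := congrArg (fun z : N => (z : G)) h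
    simp only [Subgroup.coe_pow, Subgroup.coe_one] at h'
    exact h'
  refine ⟨g ^ Nat.card N, ?_, ?_, ?_⟩
  · rw [QuotientGroup.mk_pow, hk, pow_succ, pow_mul, hu2, one_pow, one_mul]
  · intro h
    apply hu1
    have : ((g ^ Nat.card N : G) : G ⧸ N) = (g : G ⧸ N) := by
      rw [QuotientGroup.mk_pow, hk, pow_succ, pow_mul, hu2, one_pow, one_mul]
    rw [← this, h]; rfl
  · rw [← pow_mul, mul_comm, pow_mul]; exact hpow

/-- (R0) hypotheses pass to `G / O(G)`. -/
theorem quot_hyps (h2 : TwoInv G) (h1 : OneClass G) :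
    TwoInv (G ⧸ pPrimeCore 2 G) ∧ OneClass (G ⧸ pPrimeCore 2 G) := by
  have hO : (Nat.card (pPrimeCore 2 G)).Coprime 2 := Cfsg.Agent.Helper54.pPrimeCore_coprime 2
  constructor
  · obtain ⟨x, y, hxy, hx1, hx2, hy1, hy2, hc⟩ := h2
    refine ⟨(x : G ⧸ pPrimeCore 2 G), (y : G ⧸ pPrimeCore 2 G), ?_, ?_, ?_, ?_, ?_, ?_⟩
    · intro h
      have hmem : x⁻¹ * y ∈ pPrimeCore 2 G := QuotientGroup.eq.mp h
      have hxinv : x⁻¹ = x := by
        rw [inv_eq_iff_mul_eq_one, ← pow_two]; exact hx2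
      have hsq : (x⁻¹ * y) ^ 2 = 1 := by
        rw [hxinv, pow_two]
        calc x * y * (x * y) = x * (y * x) * y := by group
          _ = x * (x * y) * y := by rw [hc]
          _ = (x * x) * (y * y) := by group
          _ = 1 := by rw [← pow_two, ← pow_two, hx2, hy2, one_mul]
      have := r0_eq_one_of_sq_of_odd hO hmem hsq
      apply hxy
      rw [hxinv] at this
      have h3 : x * y = x * x := by rw [this, ← pow_two, hx2]
      exact (mul_left_cancel h3).symm
    · intro h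
      have hmem : x ∈ pPrimeCore 2 G := (QuotientGroup.eq_one_iff _).mp h
      exact hx1 (r0_eq_one_of_sq_of_odd hO hmem hx2)
    · rw [← QuotientGroup.mk_pow, hx2]; rfl
    · intro h
      have hmem : y ∈ pPrimeCore 2 G := (QuotientGroup.eq_one_iff _).mp h
      exact hy1 (r0_eq_one_of_sq_of_odd hO hmem hy2)
    · rw [← QuotientGroup.mk_pow, hy2]; rfl
    · rw [← QuotientGroup.mk_mul, ← QuotientGroup.mk_mul, hc]
  · intro u v hu1 hu2 hv1 hv2
    obtain ⟨x, rfl, hx1, hx2⟩ := r0_lift_involution (pPrimeCore 2 G) hO u hu1 hu2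
    obtain ⟨y, rfl, hy1, hy2⟩ := r0_lift_involution (pPrimeCore 2 G) hO v hv1 hv2
    have hconj : IsConj x y := h1 x y hx1 hx2 hy1 hy2
    exact (QuotientGroup.mk' (pPrimeCore 2 G)).map_isConj hconj

end Cfsg.Agent.Helper90.TH1
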