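import Mathlib
import Cfsg.Prelude.Def_Local
import Cfsg.Agent.Lib.Helper89.TH1Defs
import Cfsg.Agent.Lib.Helper54.PSolv
import Cfsg.Agent.Lib.Helper76.SolvPSolv

/-!
TH1 lemma server (helper89, statement S3797), piece (S1): in a finite solvable group with
`O(G) = 1`, two commuting involutions and one class of involutions, `W = Ω₁(Z(O₂(G)))` is a
`Base`.
-/

set_option autoImplicit false

namespace Cfsg.Agent.Helper90.TH1

open Cfsg Subgroup Cfsg.Agent.Helper89.TH1
open scoped commutatorElement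

universe u

variable {G : Type u} [Group G] [Finite G]

omit [Finite G] in
/-- `Ω₁(Z(Q))` as a subgroup of `G`: elements of `Q` commuting with all of `Q`, of square `1`. -/
def s1W (Q : Subgroup G) : Subgroup G where
  carrier := {z | z ∈ Q ∧ (∀ q ∈ Q, z * q = q * z) ∧ z ^ 2 = 1}
  one_mem' := ⟨Q.one_mem, fun q _ => by rw [one_mul, mul_one], one_pow 2⟩
  mul_mem' := by
    rintro a b ⟨ha, hac, ha2⟩ ⟨hb, hbc, hb2⟩
    refine ⟨Q.mul_mem ha hb, fun q hq => ?_, ?_⟩
    · calc a * b * q = a * (b * q) := by group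
        _ = a * (q * b) := by rw [hbc q hq]
        _ = (a * q) * b := by group
        _ = (q * a) * b := by rw [hac q hq]
        _ = q * (a * b) := by group
    · have hab : a * b = b * a := hac b hb
      calc (a * b) ^ 2 = a * b * (a * b) := pow_two _
        _ = a * (b * a) * b := by group
        _ = a * (a * b) * b := by rw [hab]
        _ = a ^ 2 * b ^ 2 := by rw [pow_two, pow_two]; group
        _ = 1 := by rw [ha2, hb2, one_mul]
  inv_mem' := by
    rintro a ⟨ha, hac, ha2⟩
    refine ⟨Q.inv_mem ha, fun q hq => ?_, ?_⟩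
    · have := hac q hq
      calc a⁻¹ * q = a⁻¹ * (q * a) * a⁻¹ := by group
        _ = a⁻¹ * (a * q) * a⁻¹ := by rw [this]
        _ = q * a⁻¹ := by group
    · rw [inv_pow, ha2, inv_one]

omit [Finite G] in
theorem s1W_mem {Q : Subgroup G} {z : G} :
    z ∈ s1W Q ↔ z ∈ Q ∧ (∀ q ∈ Q, z * q = q * z) ∧ z ^ 2 = 1 := Iff.rfl

omit [Finite G] in
theorem s1W_normal (Q : Subgroup G) [hQ : Q.Normal] : (s1W Q).Normal := by
  constructor
  rintro z ⟨hz, hzc, hz2⟩ g
  refine ⟨hQ.conj_mem z hz g, fun q hq => ?_, ?_⟩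
  · have hq' : g⁻¹ * q * g ∈ Q := by
      have := hQ.conj_mem q hq g⁻¹
      simpa using this
    have := hzc _ hq'
    calc g * z * g⁻¹ * q = g * (z * (g⁻¹ * q * g)) * g⁻¹ := by group
      _ = g * ((g⁻¹ * q * g) * z) * g⁻¹ := by rw [this]
      _ = q * (g * z * g⁻¹) := by group
  · calc (g * z * g⁻¹) ^ 2 = g * z ^ 2 * g⁻¹ := by rw [pow_two, pow_two]; group
      _ = 1 := by rw [hz2]; group

/-- (S1) existence of the base configuration. -/
theorem exists_base (hG : Group.IsSolvable G) (hO : pPrimeCore 2 G = ⊥) (h2 : TwoInv G)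
    (h1 : OneClass G) : ∃ W : Subgroup G, Base G W := by
  have : Fact (Nat.Prime 2) := ⟨Nat.prime_two⟩
  have hps : IsPSolvable 2 G := Cfsg.Agent.Helper76.isPSolvable_of_isSolvable' 2
  have hcent : centralizer (pCore 2 G : Set G) ≤ pCore 2 G :=
    Cfsg.Agent.Helper54.centralizer_pCore_le_of_isPSolvable hps hO
  have hQp : IsPGroup 2 (pCore 2 G) := Cfsg.Agent.Helper54.isPGroup_pCore
  obtain ⟨x, y, hxy, hx1, hx2, hy1, hy2, hc⟩ := h2
  -- Q ≠ ⊥
  have hQne : pCore 2 G ≠ ⊥ := by
    intro h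
    have hx : x ∈ centralizer (pCore 2 G : Set G) := by
      rw [h]
      intro q hq
      have : q = 1 := by simpa using hq
      rw [this, one_mul, mul_one]
    have := hcent hx
    rw [h, Subgroup.mem_bot] at this
    exact hx1 this
  -- a central involution of Q
  have : Nontrivial (pCore 2 G) := (Subgroup.nontrivial_iff_ne_bot _).mpr hQne
  have : Nontrivial (center (pCore 2 G)) := hQp.center_nontrivial
  have h2dvd : 2 ∣ Nat.card (center (pCore 2 G)) := by
    have hZp : IsPGroup 2 (center (pCore 2 G)) := hQp.to_subgroup _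
    obtain ⟨n, hn⟩ := hZp.exists_card_eq
    have hn0 : n ≠ 0 := by
      intro h0
      rw [h0, pow_zero] at hn
      have : Subsingleton (center (pCore 2 G)) := (Nat.card_eq_one_iff_unique.mp hn).1
      exact not_subsingleton _ this
    rw [hn]
    exact dvd_pow_self 2 hn0
  obtain ⟨z0, hz0⟩ := exists_prime_orderOf_dvd_card' 2 h2dvd
  set z : G := ((z0 : pCore 2 G) : G) with hz
  have hzQ : z ∈ pCore 2 G := (z0 : pCore 2 G).2
  have hzord : orderOf z = 2 := by
    rw [hz, Subgroup.orderOf_coe, Subgroup.orderOf_coe, hz0]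
  have hz2 : z ^ 2 = 1 := by rw [← hzord]; exact pow_orderOf_eq_one z
  have hz1 : z ≠ 1 := by
    intro h
    rw [h, orderOf_one] at hzord
    omega
  have hzc : ∀ q ∈ pCore 2 G, z * q = q * z := by
    intro q hq
    have := Subgroup.mem_center_iff.mp z0.2 ⟨q, hq⟩
    have h' := congrArg (fun t : pCore 2 G => (t : G)) this
    simp only [Subgroup.coe_mul] at h'
    exact h'.symm
  have hzW : z ∈ s1W (pCore 2 G) := ⟨hzQ, hzc, hz2⟩
  have hWn : (s1W (pCore 2 G)).Normal := s1W_normal (pCore 2 G)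
  -- every involution lies in W
  have hinv : ∀ t : G, t ^ 2 = 1 → t ∈ s1W (pCore 2 G) := by
    intro t ht2
    by_cases ht1 : t = 1
    · rw [ht1]; exact Subgroup.one_mem _
    · obtain ⟨g, hg⟩ := isConj_iff.mp (h1 z t hz1 hz2 ht1 ht2)
      rw [← hg]
      exact hWn.conj_mem z hzW g
  have hxW := hinv x hx2
  have hyW := hinv y hy2
  refine ⟨s1W (pCore 2 G), ⟨hG, hO, hcent, fun w hw => hw.1, hWn, fun w hw q hq => hw.2.1 q hq,
    fun w hw => hw.2.2, hinv, ?_, ?_⟩⟩
  · intro w hw w' hw' hw1 hw'1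
    exact isConj_iff.mp (h1 w w' hw1 hw.2.2 hw'1 hw'.2.2)
  · -- card W ≥ 4
    have hWp : IsPGroup 2 (s1W (pCore 2 G)) := hQp.to_le (fun w hw => hw.1)
    obtain ⟨n, hn⟩ := hWp.exists_card_eq
    have h3 : 3 ≤ Nat.card (s1W (pCore 2 G)) := by
      let f : Fin 3 → s1W (pCore 2 G) := ![1, ⟨x, hxW⟩, ⟨y, hyW⟩]
      have hf : Function.Injective f := by
        intro i j hij
        fin_cases i <;> fin_cases j <;> simp [f, Subtype.ext_iff] at hij ⊢
        · exact hx1 hij.symm
        · exact hy1 hij.symm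
        · exact hx1 hij
        · exact hxy hij
        · exact hy1 hij
        · exact hxy hij.symm
      have := Nat.card_le_card_of_injective f hf
      simpa using this
    rw [hn] at h3 ⊢
    rcases n with _ | _ | n
    · norm_num at h3
    · norm_num at h3
    · calc 4 = 2 ^ 2 := by norm_num
        _ ≤ 2 ^ (n + 1 + 1) := Nat.pow_le_pow_right (by norm_num) (by omega)

end Cfsg.Agent.Helper90.TH1
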