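import Mathlib
import Cfsg.Prelude.Def_Solvable
import Cfsg.Agent.Lib.Helper22.Radical

/-!
# Thompson–Wielandt: the p-group normalizer trick (Lemma Z)

`G` finite, `M ≠ N` core-free coatoms, `K` the `M`-core of `M ⊓ N`, `Q ≤ K` normalized by `N`,
`A = O_p(M) ≠ 1`, `B = O_p(N)` of the same order.  Then `Q` is a `p`-group.
-/

set_option autoImplicit false

namespace Cfsg.Agent.Helper90.TWZ

open Subgroup

variable {G : Type*} [Group G]

/-- In a core-free coatom `M`, a nontrivial subgroup normalized by `M` has normalizer `M`. -/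
theorem normalizer_eq {M : Subgroup G} (hM : IsCoatom M) (hc : M.normalCore = ⊥)
    {X : Subgroup G} (hXM : X ≤ M) (hX1 : X ≠ ⊥) (hn : M ≤ normalizer (X : Set G)) :
    normalizer (X : Set G) = M := by
  rcases hM.le_iff.mp hn with h | h
  · exfalso
    have hXn : X.Normal := normalizer_eq_top_iff.mp h
    apply hX1
    have h2 : X ≤ M.normalCore := (normal_le_normalCore).mpr hXM
    rw [hc] at h2
    exact le_bot_iff.mp h2
  · exact h

theorem mul_pow_mem {Q : Subgroup G} {v : G} (hv : v ∈ normalizer (Q : Set G)) {q : G}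
    (hq : q ∈ Q) (m : ℕ) : ∃ q' ∈ Q, (v * q) ^ m = v ^ m * q' := by
  induction m with
  | zero => exact ⟨1, one_mem _, by simp⟩
  | succ m ih =>
    obtain ⟨q', hq', h⟩ := ih
    refine ⟨(v⁻¹ * q' * v) * q, mul_mem ((mem_normalizer_iff''.mp hv q').mp hq') hq, ?_⟩
    rw [pow_succ, h, pow_succ]
    group

/-- A `p'`-element of `Q ⊔ V`, `V` a `p`-group normalizing `Q`, lies in `Q`. -/
theorem mem_of_coprime {p : ℕ} {Q V : Subgroup G} (hV : IsPGroup p V)
    (hVQ : V ≤ normalizer (Q : Set G)) {y : G} (hy : y ∈ Q ⊔ V)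
    (hcop : (orderOf y).Coprime p) : y ∈ Q := by
  have hy' : y ∈ ((V ⊔ Q : Subgroup G) : Set G) := by rw [sup_comm]; exact hy
  rw [coe_mul_of_left_le_normalizer_right V Q hVQ] at hy'
  obtain ⟨v, hv, q, hq, rfl⟩ := hy'
  obtain ⟨k, hk⟩ := hV ⟨v, hv⟩
  have hvk : v ^ (p ^ k) = 1 := by
    have := congrArg Subtype.val hk
    simpa using this
  obtain ⟨q', hq', h⟩ := mul_pow_mem (hVQ hv) hq (p ^ k)
  have h1 : (v * q) ^ (p ^ k) ∈ Q := by rw [h, hvk, one_mul]; exact hq'
  have hc : (p ^ k).Coprime (orderOf (v * q)) := (hcop.pow_right k).symm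
  obtain ⟨s, hs⟩ := exists_pow_eq_self_of_coprime hc
  show v * q ∈ Q
  rw [← hs]; exact pow_mem h1 s

/-- If conjugation by `g` and by `g⁻¹` preserve `S`, then `g` normalizes `closure S`. -/
theorem mem_normalizer_closure {S : Set G} {g : G} (h1 : ∀ y ∈ S, g * y * g⁻¹ ∈ S)
    (h2 : ∀ y ∈ S, g⁻¹ * y * g ∈ S) : g ∈ normalizer ((closure S : Subgroup G) : Set G) := by
  have key : ∀ (g : G), (∀ y ∈ S, g * y * g⁻¹ ∈ S) → ∀ h ∈ closure S, g * h * g⁻¹ ∈ closure S := by
    intro g hg h hh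
    induction hh using closure_induction with
    | mem x hx => exact subset_closure (hg x hx)
    | one => simp
    | mul x y _ _ hx hy =>
      have : g * (x * y) * g⁻¹ = (g * x * g⁻¹) * (g * y * g⁻¹) := by group
      rw [this]; exact mul_mem hx hy
    | inv x _ hx =>
      have : g * x⁻¹ * g⁻¹ = (g * x * g⁻¹)⁻¹ := by group
      rw [this]; exact inv_mem hx
  rw [mem_normalizer_iff]
  intro h
  constructor
  · exact key g h1 h
  · intro hh
    have := key g⁻¹ (by simpa using h2) _ hh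
    have e : g⁻¹ * (g * h * g⁻¹) * g⁻¹⁻¹ = h := by group
    rwa [e] at this


section Main

variable [Finite G] {p : ℕ} [hp : Fact p.Prime]

omit [Finite G] hp in
/-- A subgroup generated by elements of `p`-subgroups of `K` normalized by `K` is a `p`-group. -/
theorem isPGroup_closure (K : Subgroup G) (T : Set G)
    (hT : ∀ x ∈ T, ∃ V : Subgroup G, V ≤ K ∧ IsPGroup p V ∧ K ≤ normalizer (V : Set G) ∧ x ∈ V) :
    IsPGroup p (closure T) := by
  obtain ⟨P⟩ : Nonempty (Sylow p K) := inferInstance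
  have hle : closure T ≤ (P : Subgroup K).map K.subtype := by
    rw [closure_le]
    intro x hx
    obtain ⟨V, hVK, hVp, hVn, hxV⟩ := hT x hx
    have hn : (V.subgroupOf K).Normal := (normal_subgroupOf_iff_le_normalizer hVK).mpr hVn
    have hp' : IsPGroup p (V.subgroupOf K) := hVp.comap_subtype
    have h3 := hp'.le_sylow_of_normal P
    exact ⟨⟨x, hVK hxV⟩, h3 (mem_subgroupOf.mpr hxV), rfl⟩
  exact (P.isPGroup'.map K.subtype).to_le hle

/-- **Lemma Z.** -/
theorem isPGroup_of_le_core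
    {M N : Subgroup G} (hM : IsCoatom M) (hcM : M.normalCore = ⊥) (hN : IsCoatom N)
    (hcN : N.normalCore = ⊥) (hne : M ≠ N)
    {K : Subgroup G} (hKD : K ≤ M ⊓ N) (hKM : M ≤ normalizer (K : Set G))
    (hKmax : ∀ X : Subgroup G, X ≤ M ⊓ N → M ≤ normalizer (X : Set G) → X ≤ K)
    {Q : Subgroup G} (hQK : Q ≤ K) (hQN : N ≤ normalizer (Q : Set G))
    {A B : Subgroup G} (hAM : A ≤ M) (hAn : M ≤ normalizer (A : Set G)) (hAp : IsPGroup p A)
    (hAmax : ∀ X : Subgroup G, X ≤ M → IsPGroup p X → M ≤ normalizer (X : Set G) → X ≤ A)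
    (hBn : N ≤ normalizer (B : Set G)) (hBp : IsPGroup p B)
    (hcard : Nat.card A = Nat.card B) (hA1 : A ≠ ⊥) : IsPGroup p Q := by
  by_contra hQ
  have hKM' : K ≤ M := hKD.trans inf_le_left
  have hKN' : K ≤ N := hKD.trans inf_le_right
  -- a nontrivial `p'`-element of `Q`
  obtain ⟨y, hyQ, hycop, hy1⟩ : ∃ y ∈ Q, (orderOf y).Coprime p ∧ y ≠ 1 := by
    by_contra hcon
    push Not at hcon
    apply hQ
    rintro ⟨g, hg⟩
    have hn0 : orderOf g ≠ 0 := (orderOf_pos g).ne'
    obtain ⟨a, m, hm, hn⟩ := Nat.exists_eq_pow_mul_and_not_dvd hn0 p hp.out.ne_one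
    refine ⟨a, ?_⟩
    have hy : (g ^ p ^ a) ∈ Q := pow_mem hg _
    have hord : orderOf (g ^ p ^ a) ∣ m := by
      apply orderOf_dvd_of_pow_eq_one
      rw [← pow_mul, ← hn, pow_orderOf_eq_one]
    have hcop : (orderOf (g ^ p ^ a)).Coprime p :=
      Nat.Coprime.coprime_dvd_left hord ((Nat.Prime.coprime_iff_not_dvd hp.out).mpr hm).symm
    have h1 := hcon _ hy hcop
    ext
    simpa using h1
  set S : Set G := {y | y ∈ Q ∧ (orderOf y).Coprime p} with hS
  set R : Subgroup G := closure S with hR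
  have hRQ : R ≤ Q := (closure_le _).mpr (fun y hy => hy.1)
  have hR1 : R ≠ ⊥ := by
    intro h
    have h2 : y ∈ R := Subgroup.subset_closure ⟨hyQ, hycop⟩
    rw [h, mem_bot] at h2
    exact hy1 h2
  have hordconj : ∀ x y : G, orderOf (x * y * x⁻¹) = orderOf y := by
    intro x y
    have := (MulAut.conj x).orderOf_eq y
    simpa using this
  have hconjS : ∀ n ∈ N, ∀ y ∈ S, n * y * n⁻¹ ∈ S := by
    intro n hn y hy
    refine ⟨(mem_normalizer_iff.mp (hQN hn) y).mp hy.1, ?_⟩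
    rw [hordconj]
    exact hy.2
  have hRN : N ≤ normalizer (R : Set G) := by
    intro n hn
    apply mem_normalizer_closure (hconjS n hn)
    intro y hy
    have := hconjS n⁻¹ (N.inv_mem hn) y hy
    simpa using this
  have hRleN : R ≤ N := hRQ.trans (hQK.trans hKN')
  have hNR : normalizer (R : Set G) = N := normalizer_eq hN hcN hRleN hR1 hRN
  -- (z1)
  have z1 : ∀ x ∈ M, ∀ B' : Subgroup G, IsPGroup p B' → K ≤ normalizer (B' : Set G) →
      x ∈ B' → x ∈ N := by
    intro x hxM B' hB'p hKB' hxB'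
    rw [← hNR]
    have sub : ∀ x ∈ M, x ∈ B' → ∀ y ∈ S, x * y * x⁻¹ ∈ S := by
      intro x hxM hxB' y hy
      have hyK : y ∈ K := hQK hy.1
      have hV : IsPGroup p ((B' ⊓ K : Subgroup G)) := hB'p.to_le inf_le_left
      have hVQ : (B' ⊓ K : Subgroup G) ≤ normalizer (Q : Set G) :=
        inf_le_right.trans (hKN'.trans hQN)
      have hv : y⁻¹ * x * y * x⁻¹ ∈ B' ⊓ K := by
        refine ⟨mul_mem ((mem_normalizer_iff''.mp (hKB' hyK) x).mp hxB') (B'.inv_mem hxB'), ?_⟩
        have h1 : x * y * x⁻¹ ∈ K := (mem_normalizer_iff.mp (hKM hxM) y).mp hyK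
        have e : y⁻¹ * x * y * x⁻¹ = y⁻¹ * (x * y * x⁻¹) := by group
        rw [e]; exact mul_mem (K.inv_mem hyK) h1
      have hmem : x * y * x⁻¹ ∈ Q ⊔ (B' ⊓ K) := by
        have e : x * y * x⁻¹ = y * (y⁻¹ * x * y * x⁻¹) := by group
        rw [e]; exact mul_mem (mem_sup_left hy.1) (mem_sup_right hv)
      have hc : (orderOf (x * y * x⁻¹)).Coprime p := by rw [hordconj]; exact hy.2
      exact ⟨mem_of_coprime hV hVQ hmem hc, hc⟩
    apply mem_normalizer_closure (sub x hxM hxB')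
    intro y hy
    have := sub x⁻¹ (M.inv_mem hxM) (B'.inv_mem hxB') y hy
    simpa using this
  -- (z2)
  have hAN : A ≤ N := fun a ha => z1 a (hAM ha) A hAp (hKM'.trans hAn) ha
  have hAK : A ≤ K := hKmax A (le_inf hAM hAN) hAn
  -- (z3)
  set T : Set G := {x | ∃ m ∈ M, ∃ b ∈ B ⊓ M, x = m * b * m⁻¹} with hT
  have hTM : ∀ x ∈ T, x ∈ M := by
    rintro x ⟨m, hm, b, hb, rfl⟩
    exact mul_mem (mul_mem hm hb.2) (M.inv_mem hm)
  have hTB : ∀ x ∈ T, ∃ B' : Subgroup G, IsPGroup p B' ∧ K ≤ normalizer (B' : Set G) ∧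
      x ∈ B' := by
    rintro x ⟨m, hm, b, hb, rfl⟩
    refine ⟨B.map (MulAut.conj m).toMonoidHom, hBp.map _, ?_, ⟨b, hb.1, rfl⟩⟩
    intro k hk
    rw [mem_normalizer_iff]
    intro z
    simp only [mem_map_equiv, MulAut.conj_symm_apply]
    have hk' : m⁻¹ * k * m ∈ N := hKN' ((mem_normalizer_iff''.mp (hKM hm) k).mp hk)
    have h3 := mem_normalizer_iff.mp (hBn hk') (m⁻¹ * z * m)
    rw [h3]
    have e : m⁻¹ * k * m * (m⁻¹ * z * m) * (m⁻¹ * k * m)⁻¹ = m⁻¹ * (k * z * k⁻¹) * m := by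
      group
    rw [e]
  have hTN : ∀ x ∈ T, x ∈ N := by
    intro x hx
    obtain ⟨B', hB'p, hKB', hxB'⟩ := hTB x hx
    exact z1 x (hTM x hx) B' hB'p hKB' hxB'
  set W : Subgroup G := closure T with hW
  have hWD : W ≤ M ⊓ N := (closure_le _).mpr (fun x hx => ⟨hTM x hx, hTN x hx⟩)
  have hWn : M ≤ normalizer (W : Set G) := by
    have c : ∀ m' ∈ M, ∀ x ∈ T, m' * x * m'⁻¹ ∈ T := by
      rintro m' hm' x ⟨m, hm, b, hb, rfl⟩
      exact ⟨m' * m, mul_mem hm' hm, b, hb, by group⟩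
    intro m' hm'
    apply mem_normalizer_closure (c m' hm')
    intro x hx
    have := c m'⁻¹ (M.inv_mem hm') x hx
    simpa using this
  have hWK : W ≤ K := hKmax W hWD hWn
  have hWp : IsPGroup p W := by
    apply isPGroup_closure K T
    intro x hx
    obtain ⟨B', hB'p, hKB', hxB'⟩ := hTB x hx
    refine ⟨B' ⊓ K, inf_le_right, hB'p.to_le inf_le_left, ?_, ⟨hxB', hWK (Subgroup.subset_closure hx)⟩⟩
    intro k hk
    rw [mem_normalizer_iff]
    intro z
    constructor
    · rintro ⟨h1, h2⟩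
      exact ⟨(mem_normalizer_iff.mp (hKB' hk) z).mp h1, mul_mem (mul_mem hk h2) (K.inv_mem hk)⟩
    · rintro ⟨h1, h2⟩
      refine ⟨(mem_normalizer_iff.mp (hKB' hk) z).mpr h1, ?_⟩
      have e : z = k⁻¹ * (k * z * k⁻¹) * k := by group
      rw [e]; exact mul_mem (mul_mem (K.inv_mem hk) h2) hk
  have hWA : W ≤ A := hAmax W (hWD.trans inf_le_left) hWp hWn
  have hBMA : B ⊓ M ≤ A := by
    intro b hb
    apply hWA
    apply Subgroup.subset_closure
    exact ⟨1, one_mem _, b, hb, by simp⟩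
  -- (z4)
  have hABn : A ≤ normalizer (B : Set G) := hAN.trans hBn
  have hNA : normalizer (A : Set G) = M := normalizer_eq hM hcM hAM hA1 hAn
  by_cases hAB : B ≤ A
  · have hAeqB : B = A := by
      have hfin : Finite A := inferInstance
      exact eq_of_le_of_card_ge hAB (le_of_eq hcard)
    have htop : M ⊔ N = ⊤ := by
      rcases hM.le_iff.mp (le_sup_left : M ≤ M ⊔ N) with h | h
      · exact h
      · exfalso
        have hNM : N ≤ M := by rw [← h]; exact le_sup_right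
        rcases hN.le_iff.mp hNM with h' | h'
        · exact hM.1 h'
        · exact hne h'
    have h1 : normalizer (A : Set G) = ⊤ := by
      apply top_le_iff.mp
      rw [← htop]
      exact sup_le hAn (by rw [← hAeqB]; exact hBn)
    rw [hNA] at h1
    exact hM.1 h1
  · -- normalizer condition in the `p`-group `A ⊔ B`
    have hSp : IsPGroup p (A ⊔ B : Subgroup G) := hAp.to_sup_of_normal_right' hBp hABn
    have : Group.IsNilpotent (A ⊔ B : Subgroup G) := hSp.isNilpotent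
    have hnc := Group.normalizerCondition_of_isNilpotent (G := (A ⊔ B : Subgroup G))
    have hlt : A.subgroupOf (A ⊔ B) < ⊤ := by
      rw [lt_top_iff_ne_top]
      intro h
      apply hAB
      intro b hb
      have hb' : (⟨b, mem_sup_right hb⟩ : (A ⊔ B : Subgroup G)) ∈ A.subgroupOf (A ⊔ B) := by
        rw [h]; exact mem_top _
      exact mem_subgroupOf.mp hb'
    obtain ⟨x, hxn, hxA⟩ := SetLike.exists_of_lt (hnc _ hlt)
    have hxG : (x : G) ∈ normalizer (A : Set G) := by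
      rw [mem_normalizer_iff]
      intro h
      constructor
      · intro hh
        have h2 := (mem_normalizer_iff.mp hxn ⟨h, mem_sup_left hh⟩).mp (mem_subgroupOf.mpr hh)
        exact mem_subgroupOf.mp h2
      · intro hh
        have hx' : x⁻¹ ∈ normalizer ((A.subgroupOf (A ⊔ B) : Subgroup _) : Set _) := inv_mem hxn
        have h2 := (mem_normalizer_iff.mp hx' ⟨(x : G) * h * (x : G)⁻¹, mem_sup_left hh⟩).mp
          (mem_subgroupOf.mpr hh)
        have h3 := mem_subgroupOf.mp h2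
        have e : ((x⁻¹ * ⟨(x : G) * h * (x : G)⁻¹, mem_sup_left hh⟩ * x⁻¹⁻¹ :
            (A ⊔ B : Subgroup G)) : G) = h := by
          simp only [Subgroup.coe_mul, Subgroup.coe_inv, inv_inv]
          group
        rwa [e] at h3
    rw [hNA] at hxG
    have hxS : (x : G) ∈ ((A ⊔ B : Subgroup G) : Set G) := x.2
    rw [coe_mul_of_left_le_normalizer_right A B hABn] at hxS
    obtain ⟨a, ha, b, hb, hab⟩ := hxS
    have hbM : b ∈ M := by
      have e : b = a⁻¹ * (x : G) := by rw [← hab]; group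
      rw [e]; exact mul_mem (M.inv_mem (hAM ha)) hxG
    have hbA : b ∈ A := hBMA ⟨hb, hbM⟩
    apply hxA
    rw [mem_subgroupOf, ← hab]
    exact mul_mem ha hbA

/-- **Lemma Z**, with `A = O_p(M)`, `B = O_p(N)` (images in `G`). -/
theorem isPGroup_of_le_core_pCore
    {M N : Subgroup G} (hM : IsCoatom M) (hcM : M.normalCore = ⊥) (hN : IsCoatom N)
    (hcN : N.normalCore = ⊥) (hne : M ≠ N)
    {K : Subgroup G} (hKD : K ≤ M ⊓ N) (hKM : M ≤ normalizer (K : Set G))
    (hKmax : ∀ X : Subgroup G, X ≤ M ⊓ N → M ≤ normalizer (X : Set G) → X ≤ K)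
    {Q : Subgroup G} (hQK : Q ≤ K) (hQN : N ≤ normalizer (Q : Set G))
    (hcard : Nat.card (Cfsg.pCore p ↥M) = Nat.card (Cfsg.pCore p ↥N))
    (hA1 : Cfsg.pCore p ↥M ≠ ⊥) : IsPGroup p Q := by
  have hnorm : ∀ Y : Subgroup G,
      Y ≤ normalizer (((Cfsg.pCore p ↥Y).map Y.subtype : Subgroup G) : Set G) := by
    intro Y
    have h1 : (Cfsg.pCore p ↥Y).Normal := by
      rw [Cfsg.Agent.Helper22.pCore_eq_sSup]
      exact Subgroup.sSup_normal _ (fun _ hN => hN.1)
    have h2 := le_normalizer_map (H := Cfsg.pCore p ↥Y) Y.subtype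
    rw [normalizer_eq_top_iff.mpr h1, ← MonoidHom.range_eq_map, range_subtype] at h2
    exact h2
  refine isPGroup_of_le_core (p := p) hM hcM hN hcN hne hKD hKM hKmax hQK hQN
    (A := (Cfsg.pCore p ↥M).map M.subtype) (B := (Cfsg.pCore p ↥N).map N.subtype)
    (map_subtype_le _) (hnorm M) ((Cfsg.Agent.Helper22.isPGroup_pCore p).map _) ?_
    (hnorm N) ((Cfsg.Agent.Helper22.isPGroup_pCore p).map _) ?_ ?_
  · intro X hXM hXp hXn
    have h1 : (X.subgroupOf M).Normal := (normal_subgroupOf_iff_le_normalizer hXM).mpr hXn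
    have h2 : IsPGroup p (X.subgroupOf M) := hXp.comap_subtype
    have h3 : X.subgroupOf M ≤ Cfsg.pCore p ↥M := Cfsg.Agent.Helper22.le_pCore h1 h2
    have h4 := Subgroup.map_mono (f := M.subtype) h3
    rwa [map_subgroupOf_eq_of_le hXM] at h4
  · rw [Nat.card_congr ((Cfsg.pCore p ↥M).equivMapOfInjective _ M.subtype_injective).symm.toEquiv,
      Nat.card_congr ((Cfsg.pCore p ↥N).equivMapOfInjective _ N.subtype_injective).symm.toEquiv]
    exact hcard
  · intro h
    apply hA1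
    exact (map_eq_bot_iff_of_injective _ M.subtype_injective).mp h

end Main

end Cfsg.Agent.Helper90.TWZ
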