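import Mathlib

/-!
# U6 server (helper92, S1684), piece (PERF): `perfect_of_relations`
-/

set_option autoImplicit false

namespace Cfsg.Agent.Helper90.U6

/-- in a commutative group two involutions whose product has order dividing 3 coincide -/
theorem eq_of_braid {Q : Type*} [CommGroup Q] (x y : Q) (hx : x * x = 1) (hy : y * y = 1)
    (hxy : (x * y) ^ 3 = 1) : x = y := by
  have hx3 : x ^ 3 = x := by rw [pow_succ, pow_two, hx, one_mul]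
  have hy3 : y ^ 3 = y := by rw [pow_succ, pow_two, hy, one_mul]
  rw [mul_pow, hx3, hy3] at hxy
  have h1 : x = y⁻¹ := mul_eq_one_iff_eq_inv.1 hxy
  have h2 : y = y⁻¹ := eq_inv_of_mul_eq_one_left hy
  rw [h1, ← h2]

theorem of_braid {G : Type*} [Group G] (K : Subgroup G) (x y : G) (hx : x ∈ K) (hy : y ∈ K)
    (hxx : x * x = 1) (hyy : y * y = 1) (hxy : (x * y) ^ 3 = 1) :
    (Abelianization.of (⟨x, hx⟩ : ↥K)) = Abelianization.of (⟨y, hy⟩ : ↥K) := by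
  apply eq_of_braid
  · rw [← map_mul]
    have : (⟨x, hx⟩ * ⟨x, hx⟩ : ↥K) = 1 := Subtype.ext hxx
    rw [this, map_one]
  · rw [← map_mul]
    have : (⟨y, hy⟩ * ⟨y, hy⟩ : ↥K) = 1 := Subtype.ext hyy
    rw [this, map_one]
  · rw [← map_mul, ← map_pow]
    have : ((⟨x, hx⟩ * ⟨y, hy⟩ : ↥K)) ^ 3 = 1 := Subtype.ext hxy
    rw [this, map_one]

theorem perfect_of_relations {G : Type*} [Group G] (a c d e f g h i t u v : G) (K : Subgroup G)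
    (hK : K = Subgroup.closure {a, c, d, e, f, g, h, i, t})
    (hc : c * c = 1) (hd : d * d = 1) (he : e * e = 1) (hf : f * f = 1) (hg : g * g = 1)
    (hh : h * h = 1) (hi : i * i = 1) (ht : t * t = 1)
    (hcd : (c * d) ^ 3 = 1) (hde : (d * e) ^ 3 = 1) (hef : (e * f) ^ 3 = 1) (hfg : (f * g) ^ 3 = 1)
    (hdh : (d * h) ^ 3 = 1) (hhi : (h * i) ^ 3 = 1)
    (h9 : (c * d * e * f * g * h * i) ^ 9 = 1) (htf : (t * f) ^ 3 = 1)
    (hu : u ∈ K) (hv : v ∈ K)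
    (hax : a = t * c * e * h * (u * c * u⁻¹) * (v * c * v⁻¹)) :
    commutator ↥K = ⊤ := by
  have hsub : ({a, c, d, e, f, g, h, i, t} : Set G) ⊆ K := hK ▸ Subgroup.subset_closure
  have haK : a ∈ K := hsub (by simp)
  have hcK : c ∈ K := hsub (by simp)
  have hdK : d ∈ K := hsub (by simp)
  have heK : e ∈ K := hsub (by simp)
  have hfK : f ∈ K := hsub (by simp)
  have hgK : g ∈ K := hsub (by simp)
  have hhK : h ∈ K := hsub (by simp)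
  have hiK : i ∈ K := hsub (by simp)
  have htK : t ∈ K := hsub (by simp)
  let π : ↥K →* Abelianization ↥K := Abelianization.of
  -- all of c, d, e, f, g, h, i have the same image
  have e_cd : π ⟨c, hcK⟩ = π ⟨d, hdK⟩ := of_braid K c d hcK hdK hc hd hcd
  have e_de : π ⟨d, hdK⟩ = π ⟨e, heK⟩ := of_braid K d e hdK heK hd he hde
  have e_ef : π ⟨e, heK⟩ = π ⟨f, hfK⟩ := of_braid K e f heK hfK he hf hef
  have e_fg : π ⟨f, hfK⟩ = π ⟨g, hgK⟩ := of_braid K f g hfK hgK hf hg hfg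
  have e_dh : π ⟨d, hdK⟩ = π ⟨h, hhK⟩ := of_braid K d h hdK hhK hd hh hdh
  have e_hi : π ⟨h, hhK⟩ = π ⟨i, hiK⟩ := of_braid K h i hhK hiK hh hi hhi
  have hd' : π ⟨d, hdK⟩ = π ⟨c, hcK⟩ := e_cd.symm
  have he' : π ⟨e, heK⟩ = π ⟨c, hcK⟩ := e_de.symm.trans hd'
  have hf' : π ⟨f, hfK⟩ = π ⟨c, hcK⟩ := e_ef.symm.trans he'
  have hg' : π ⟨g, hgK⟩ = π ⟨c, hcK⟩ := e_fg.symm.trans hf'
  have hh' : π ⟨h, hhK⟩ = π ⟨c, hcK⟩ := e_dh.symm.trans hd'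
  have hi' : π ⟨i, hiK⟩ = π ⟨c, hcK⟩ := e_hi.symm.trans hh'
  have hcc : π ⟨c, hcK⟩ * π ⟨c, hcK⟩ = 1 := by
    rw [← map_mul]
    have : (⟨c, hcK⟩ * ⟨c, hcK⟩ : ↥K) = 1 := Subtype.ext hc
    rw [this, map_one]
  -- the relation of order 9
  have h9' : (π ⟨c, hcK⟩ * π ⟨d, hdK⟩ * π ⟨e, heK⟩ * π ⟨f, hfK⟩ * π ⟨g, hgK⟩ * π ⟨h, hhK⟩ *
      π ⟨i, hiK⟩) ^ 9 = 1 := by
    simp only [← map_mul, ← map_pow]
    have : ((⟨c, hcK⟩ * ⟨d, hdK⟩ * ⟨e, heK⟩ * ⟨f, hfK⟩ * ⟨g, hgK⟩ * ⟨h, hhK⟩ * ⟨i, hiK⟩ : ↥K)) ^ 9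
        = 1 := Subtype.ext h9
    rw [this, map_one]
  rw [hd', he', hf', hg', hh', hi'] at h9'
  have hc1 : π ⟨c, hcK⟩ = 1 := by
    have hsq : π ⟨c, hcK⟩ ^ 2 = 1 := by rw [pow_two]; exact hcc
    have h63 : π ⟨c, hcK⟩ ^ 63 = 1 := by
      have : (π ⟨c, hcK⟩ * π ⟨c, hcK⟩ * π ⟨c, hcK⟩ * π ⟨c, hcK⟩ * π ⟨c, hcK⟩ * π ⟨c, hcK⟩ *
          π ⟨c, hcK⟩) = π ⟨c, hcK⟩ ^ 7 := by
        simp only [pow_succ, pow_zero, one_mul]
      rw [this, ← pow_mul] at h9'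
      exact h9'
    calc π ⟨c, hcK⟩ = π ⟨c, hcK⟩ ^ 63 * ((π ⟨c, hcK⟩ ^ 2) ^ 31)⁻¹ := by
          rw [← pow_mul, ← zpow_natCast, ← zpow_natCast, ← zpow_neg, ← zpow_add]
          norm_num
      _ = 1 := by rw [h63, hsq, one_pow, inv_one, mul_one]
  have hf1 : π ⟨f, hfK⟩ = 1 := hf'.trans hc1
  have ht1 : π ⟨t, htK⟩ = 1 := by
    have htt : π ⟨t, htK⟩ * π ⟨t, htK⟩ = 1 := by
      rw [← map_mul]
      have : (⟨t, htK⟩ * ⟨t, htK⟩ : ↥K) = 1 := Subtype.ext ht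
      rw [this, map_one]
    have h3 : (π ⟨t, htK⟩ * π ⟨f, hfK⟩) ^ 3 = 1 := by
      rw [← map_mul, ← map_pow]
      have : ((⟨t, htK⟩ * ⟨f, hfK⟩ : ↥K)) ^ 3 = 1 := Subtype.ext htf
      rw [this, map_one]
    rw [hf1, mul_one, pow_succ, pow_two, htt, one_mul] at h3
    exact h3
  have ha1 : π ⟨a, haK⟩ = 1 := by
    have hak : (⟨a, haK⟩ : ↥K) = ⟨t, htK⟩ * ⟨c, hcK⟩ * ⟨e, heK⟩ * ⟨h, hhK⟩ *
        (⟨u, hu⟩ * ⟨c, hcK⟩ * ⟨u, hu⟩⁻¹) * (⟨v, hv⟩ * ⟨c, hcK⟩ * ⟨v, hv⟩⁻¹) := Subtype.ext hax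
    rw [hak]
    simp only [map_mul, map_inv, ht1, hc1, he'.trans hc1, hh'.trans hc1, mul_one,
      mul_inv_cancel]
  -- conclude
  rw [← Abelianization.ker_of, eq_top_iff]
  rintro ⟨k, hk⟩ -
  rw [MonoidHom.mem_ker]
  have hk' : k ∈ Subgroup.closure ({a, c, d, e, f, g, h, i, t} : Set G) := hK ▸ hk
  have key : ∀ (x : G) (hx : x ∈ Subgroup.closure ({a, c, d, e, f, g, h, i, t} : Set G)),
      π ⟨x, hK ▸ hx⟩ = 1 := by
    intro x hx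
    induction hx using Subgroup.closure_induction with
    | mem x hx =>
      simp only [Set.mem_insert_iff, Set.mem_singleton_iff] at hx
      rcases hx with rfl | rfl | rfl | rfl | rfl | rfl | rfl | rfl | rfl
      · exact ha1
      · exact hc1
      · exact hd'.trans hc1
      · exact he'.trans hc1
      · exact hf1
      · exact hg'.trans hc1
      · exact hh'.trans hc1
      · exact hi'.trans hc1
      · exact ht1
    | one => exact map_one π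
    | mul x y hx hy ihx ihy =>
      have : (⟨x * y, hK ▸ mul_mem hx hy⟩ : ↥K) = ⟨x, hK ▸ hx⟩ * ⟨y, hK ▸ hy⟩ := rfl
      rw [this, map_mul, ihx, ihy, mul_one]
    | inv x hx ihx =>
      have : (⟨x⁻¹, hK ▸ inv_mem hx⟩ : ↥K) = (⟨x, hK ▸ hx⟩ : ↥K)⁻¹ := rfl
      rw [this, map_inv, ihx, inv_one]
  exact key k hk'

end Cfsg.Agent.Helper90.U6
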