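import Mathlib

/-!
# U6 server (helper92, S1684), piece (RES): `exists_restrict`
-/

set_option autoImplicit false

namespace Cfsg.Agent.Helper90.U6

theorem exists_restrict {H α : Type*} [Group H] (φ : H →* Equiv.Perm α) (n : ℕ) (e : Fin n → α)
    (he : Function.Injective e) (Γ : Set H) (hΓ : Subgroup.closure Γ = ⊤)
    (hinv : ∀ γ ∈ Γ, ∀ i, ∃ j, φ γ (e i) = e j) :
    ∃ ρ : H →* Equiv.Perm (Fin n), ∀ h i, e (ρ h i) = φ h (e i) := by
  -- every element (and its inverse) preserves the range of `e`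
  have hall2 : ∀ h : H, (∀ i, ∃ j, φ h (e i) = e j) ∧ (∀ i, ∃ j, φ h⁻¹ (e i) = e j) := by
    intro h
    have hh : h ∈ Subgroup.closure Γ := hΓ ▸ Subgroup.mem_top h
    induction hh using Subgroup.closure_induction with
    | mem γ hγ =>
      refine ⟨hinv γ hγ, ?_⟩
      choose g hg using hinv γ hγ
      have hginj : Function.Injective g := by
        intro i i' hii
        have h1 : φ γ (e i) = φ γ (e i') := by rw [hg, hg, hii]
        exact he ((φ γ).injective h1)
      have hgsurj : Function.Surjective g := Finite.injective_iff_surjective.1 hginj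
      intro i
      obtain ⟨i', hi'⟩ := hgsurj i
      refine ⟨i', ?_⟩
      rw [map_inv, Equiv.Perm.inv_eq_iff_eq, hg, hi']
    | one =>
      refine ⟨fun i => ⟨i, by rw [map_one]; rfl⟩, fun i => ⟨i, by rw [inv_one, map_one]; rfl⟩⟩
    | mul x y _ _ hx hy =>
      refine ⟨fun i => ?_, fun i => ?_⟩
      · obtain ⟨j, hj⟩ := hy.1 i
        obtain ⟨k, hk⟩ := hx.1 j
        exact ⟨k, by rw [map_mul, Equiv.Perm.mul_apply, hj, hk]⟩
      · obtain ⟨j, hj⟩ := hx.2 i
        obtain ⟨k, hk⟩ := hy.2 j
        exact ⟨k, by rw [mul_inv_rev, map_mul, Equiv.Perm.mul_apply, hj, hk]⟩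
    | inv x _ hx =>
      exact ⟨hx.2, by rw [inv_inv]; exact hx.1⟩
  have hall : ∀ (h : H) (i : Fin n), ∃ j, φ h (e i) = e j := fun h => (hall2 h).1
  choose r hr using hall
  have r_one : ∀ i, r 1 i = i := by
    intro i
    apply he
    rw [← hr, map_one]; rfl
  have r_mul : ∀ h h' i, r (h * h') i = r h (r h' i) := by
    intro h h' i
    apply he
    rw [← hr, ← hr, ← hr, map_mul]; rfl
  let f : H →* Function.End (Fin n) :=
    { toFun := fun h => r h
      map_one' := funext r_one
      map_mul' := fun h h' => funext (r_mul h h') }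
  refine ⟨MonoidHom.toHomPerm f, fun h i => ?_⟩
  show e (r h i) = φ h (e i)
  rw [hr]

end Cfsg.Agent.Helper90.U6
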